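import Cfsg.Agent.Lib.L32Radical.Quadratic
import Cfsg.Agent.Lib.RankFourRadical.Basic

/-!
# The setting for an extension by `L₃(2)`

* `Setting`: a normal 2-subgroup `Q` and lifts `g`, `y` of elements of order 4 and 7 generating the quotient
* `false_of_pair`: a section of order 32 from a subgroup and two elements
-/

set_option autoImplicit false

namespace Cfsg.Agent.L32Radical

open Subgroup
open RankFourRadical (Sect4)

section

variable {G : Type*} [Group G]

/-- A word in `g`, `y` moving the centre involution to the one swapping the outer basis vectors. -/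
def hW (g y : G) : G := g * y * g * y * y * y

/-- A word in `g`, `y` for the third involution. -/
def kW (g y : G) : G := g * y * y * y * g * y

/-- The first lifted involution. -/
def xW (g y : G) : G := hW g y * (g * g) * (hW g y)⁻¹

/-- The second lifted involution. -/
def zW (g y : G) : G := kW g y * (g * g) * (kW g y)⁻¹

/-- The relator. -/
def rW (g y : G) : G := g * g * g * y * y * g * y * g * y * y

/-- Generators of `L₃(2)` modulo a normal 2-subgroup. -/
structure Setting (Q : Subgroup G) (g y : G) : Prop where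
  sect : Sect4 G
  two : IsPGroup 2 Q
  gen : ∀ H : Subgroup G, Q ≤ H → g ∈ H → y ∈ H → H = ⊤
  g4 : g ^ 4 ∈ Q
  y7 : y ^ 7 = 1
  rel : rW g y ∈ Q
  gg : g * g ∉ Q
  xQ : xW g y ∉ Q
  gxQ : g * g * xW g y ∉ Q
  xg : xW g y * g * (xW g y)⁻¹ * g ∈ Q
  xz : xW g y * zW g y * g⁻¹ ∈ Q

theorem map_words {G' : Type*} [Group G'] (f : G →* G') (g y : G) :
    f (xW g y) = xW (f g) (f y) ∧ f (zW g y) = zW (f g) (f y) ∧ f (rW g y) = rW (f g) (f y) := by
  simp [xW, zW, rW, hW, kW]

/-- The setting in a quotient by a normal subgroup of `Q`. -/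
theorem Setting.quotient [Finite G] {Q : Subgroup G} {g y : G} (S : Setting Q g y) (M : Subgroup G) [M.Normal]
    (hM : M ≤ Q) : Setting (Q.map (QuotientGroup.mk' M)) (g : G ⧸ M) (y : G ⧸ M) := by
  set π := QuotientGroup.mk' M
  have hmem : ∀ a : G, π a ∈ Q.map π ↔ a ∈ Q := fun a => by
    refine ⟨fun ⟨b, hb, e⟩ => ?_, fun h => mem_map_of_mem _ h⟩
    have : b⁻¹ * a ∈ M := QuotientGroup.eq.1 e
    simpa using mul_mem hb (hM this)
  obtain ⟨wx, wz, wr⟩ := map_words π g y
  constructor
  · exact S.sect.of_surjective π (QuotientGroup.mk'_surjective M)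
  · exact S.two.map π
  · intro H hQ hg hy
    have h := S.gen (H.comap π) (map_le_iff_le_comap.1 hQ) hg hy
    rw [← map_comap_eq_self_of_surjective (QuotientGroup.mk'_surjective M) H, h,
      map_top_of_surjective _ (QuotientGroup.mk'_surjective M)]
  · exact (hmem _).2 S.g4
  · show π y ^ 7 = 1
    rw [← map_pow, S.y7, map_one]
  · exact wr ▸ (hmem _).2 S.rel
  · exact fun h => S.gg ((hmem _).1 h)
  · exact fun h => S.xQ ((hmem _).1 (wx ▸ h))
  · intro h
    refine S.gxQ ((hmem _).1 ?_)
    rw [map_mul, map_mul, wx]; exact h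
  · have := (hmem _).2 S.xg
    rwa [map_mul, map_mul, map_mul, map_inv, wx] at this
  · have := (hmem _).2 S.xz
    rwa [map_mul, map_mul, map_inv, wx, wz] at this

/-- Elements fixed by `g` and `y` and centralising `Q` are central. -/
theorem Setting.central {Q : Subgroup G} {g y t : G} (S : Setting Q g y) (hQ : ∀ a ∈ Q, a * t = t * a)
    (hg : g * t * g⁻¹ = t) (hy : y * t * y⁻¹ = t) : t ∈ center G := by
  have h := S.gen (centralizer {t}) (fun a ha => mem_centralizer_singleton_iff.2 (hQ a ha))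
    (mem_centralizer_singleton_iff.2 (mul_inv_eq_iff_eq_mul.1 hg))
    (mem_centralizer_singleton_iff.2 (mul_inv_eq_iff_eq_mul.1 hy))
  exact mem_center_iff.2 fun a => mem_centralizer_singleton_iff.1 (h ▸ mem_top a)

/-- A subgroup stable under `Q`, `g`, `y` is normal. -/
theorem Setting.normal [Finite G] {Q : Subgroup G} {g y : G} (S : Setting Q g y) {K : Subgroup G}
    (hQ : ∀ a ∈ Q, ∀ k ∈ K, a * k * a⁻¹ ∈ K) (hg : ∀ k ∈ K, g * k * g⁻¹ ∈ K)
    (hy : ∀ k ∈ K, y * k * y⁻¹ ∈ K) : K.Normal := by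
  have hn : ∀ a : G, (∀ k ∈ K, a * k * a⁻¹ ∈ K) → a ∈ normalizer (K : Set G) := by
    intro a h
    have he : K.map (MulAut.conj a).toMonoidHom = K :=
      eq_of_le_of_card_ge (by rintro _ ⟨k, hk, rfl⟩; exact h k hk)
        (card_map_of_injective (MulAut.conj a).injective).ge
    rw [mem_normalizer_iff]
    refine fun k => ⟨fun hk => h k hk, fun hk => ?_⟩
    rw [← he] at hk
    obtain ⟨j, hj, hje⟩ := hk
    exact (MulAut.conj a).injective hje ▸ hj
  rw [← normalizer_eq_top_iff]
  exact S.gen _ (fun a ha => hn a (hQ a ha)) (hn g hg) (hn y hy)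

/-- `E/R` of order 8 and two independent elements acting trivially give a section of order 32. -/
theorem false_of_pair [Finite G] (h4 : Sect4 G) {E R : Subgroup G} (hRE : R ≤ E) (hcard : 8 * Nat.card R ≤ Nat.card E)
    (hnorm : ∀ e ∈ E, ∀ r ∈ R, e * r * e⁻¹ ∈ R) (hsq : ∀ e ∈ E, e * e ∈ R)
    {n₁ n₂ : G} (h1 : n₁ * n₁ ∈ R) (h2 : n₂ * n₂ ∈ R) (h12 : n₁ * n₂ * (n₁ * n₂) ∈ R)
    (ha1 : ∀ e ∈ E, n₁ * e * n₁⁻¹ * e⁻¹ ∈ R) (ha2 : ∀ e ∈ E, n₂ * e * n₂⁻¹ * e⁻¹ ∈ R)
    (hn1 : n₁ ∉ E) (hn2 : n₂ ∉ E) (hn12 : n₁ * n₂ ∉ E) : False := by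
  have hN : ∀ a : G, (∀ r ∈ R, a * r * a⁻¹ ∈ R) → a ∈ normalizer (R : Set G) := by
    intro a h
    have he : R.map (MulAut.conj a).toMonoidHom = R :=
      eq_of_le_of_card_ge (by rintro _ ⟨k, hk, rfl⟩; exact h k hk)
        (card_map_of_injective (MulAut.conj a).injective).ge
    rw [mem_normalizer_iff]
    refine fun k => ⟨fun hk => h k hk, fun hk => ?_⟩
    rw [← he] at hk
    obtain ⟨j, hj, hje⟩ := hk
    exact (MulAut.conj a).injective hje ▸ hj
  have hstab : ∀ a : G, (∀ e ∈ E, a * e * a⁻¹ * e⁻¹ ∈ R) → ∀ r ∈ R, a * r * a⁻¹ ∈ R := fun a ha r hr => by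
    simpa using mul_mem (ha r (hRE hr)) hr
  set K := normalizer (R : Set G)
  have hEK : E ≤ K := fun e he => hN e (hnorm e he)
  have h1K : n₁ ∈ K := hN _ (hstab _ ha1)
  have h2K : n₂ ∈ K := hN _ (hstab _ ha2)
  set π := QuotientGroup.mk' (R.subgroupOf K)
  have hone : ∀ a : K, (a : G) ∈ R → π a = 1 := fun a ha => (QuotientGroup.eq_one_iff _).2 ha
  have hcomm : ∀ a b : K, (a : G) * b * (a : G)⁻¹ * (b : G)⁻¹ ∈ R → π a * π b = π b * π a := fun a b h => by
    rw [← mul_inv_eq_iff_eq_mul, ← mul_inv_eq_one, ← map_inv, ← map_inv, ← map_mul, ← map_mul, ← map_mul]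
    exact hone _ h
  set E₁ := (E.subgroupOf K).map π
  let m₁ := π ⟨n₁, h1K⟩
  let m₂ := π ⟨n₂, h2K⟩
  have e1 : m₁ * m₁ = 1 := by rw [← map_mul]; exact hone _ h1
  have e2 : m₂ * m₂ = 1 := by rw [← map_mul]; exact hone _ h2
  have e12 : m₁ * m₂ = m₂ * m₁ := by
    have e3 : m₁ * m₂ * (m₁ * m₂) = 1 := by rw [← map_mul, ← map_mul]; exact hone _ h12
    rw [eq_inv_of_mul_eq_one_left e3, mul_inv_rev, inv_eq_of_mul_eq_one_right e1, inv_eq_of_mul_eq_one_right e2]
  have hEsq : ∀ u ∈ E₁, u * u = 1 := by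
    rintro _ ⟨a, ha, rfl⟩
    rw [← map_mul]; exact hone _ (hsq _ ha)
  have hEc : ∀ u ∈ E₁, ∀ v ∈ E₁, u * v = v * u := fun u hu v hv => by
    have h := hEsq _ (mul_mem hu hv)
    rw [eq_inv_of_mul_eq_one_left h, mul_inv_rev, inv_eq_of_mul_eq_one_right (hEsq u hu),
      inv_eq_of_mul_eq_one_right (hEsq v hv)]
  let S : Set (K ⧸ R.subgroupOf K) := insert m₁ (insert m₂ (E₁ : Set (K ⧸ R.subgroupOf K)))
  have hcS : ∀ u ∈ S, ∀ v ∈ S, u * v = v * u := by
    have c1 : ∀ u ∈ E₁, m₁ * u = u * m₁ := by rintro _ ⟨a, ha, rfl⟩; exact hcomm _ _ (ha1 _ ha)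
    have c2 : ∀ u ∈ E₁, m₂ * u = u * m₂ := by rintro _ ⟨a, ha, rfl⟩; exact hcomm _ _ (ha2 _ ha)
    rintro u (rfl | rfl | hu) v (rfl | rfl | hv)
    exacts [rfl, e12, c1 v hv, e12.symm, rfl, c2 v hv, (c1 u hu).symm, (c2 u hu).symm, hEc u hu v hv]
  have hsqS : ∀ u ∈ S, u * u = 1 := by
    rintro u (rfl | rfl | hu)
    exacts [e1, e2, hEsq u hu]
  have hcl : ∀ u ∈ closure S, u * u = 1 ∧ ∀ v ∈ closure S, u * v = v * u := by
    have hab : ∀ u ∈ closure S, ∀ v ∈ closure S, u * v = v * u := by
      have h1' : closure S ≤ centralizer S := (closure_le _).2 fun u hu =>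
        mem_centralizer_iff.2 fun v hv => hcS v hv u hu
      intro u hu v hv
      have h2' : closure S ≤ centralizer (closure S : Set (K ⧸ R.subgroupOf K)) := (closure_le _).2 fun a ha =>
        mem_centralizer_iff.2 fun b hb => (mem_centralizer_iff.1 (h1' hb) a ha).symm
      exact mem_centralizer_iff.1 (h2' hv) u hu
    refine fun u hu => ⟨?_, hab u hu⟩
    refine closure_induction (p := fun u _ => u * u = 1) hsqS (one_mul 1) (fun a b ha hb h1' h2' => ?_)
      (fun a _ h => by rw [← mul_inv_rev, h, inv_one]) hu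
    rw [mul_assoc, ← mul_assoc b, hab b hb a ha, mul_assoc a b b, h2', mul_one, h1']
  set H := ((closure S).comap π).map K.subtype
  have hRH : R ≤ H := fun r hr => ⟨⟨r, hEK (hRE hr)⟩, by
    show π _ ∈ closure S
    rw [hone ⟨r, hEK (hRE hr)⟩ hr]; exact one_mem _, rfl⟩
  have hle := h4 H R hRH (by
      rintro _ ⟨a, -, rfl⟩ r hr
      exact (mem_normalizer_iff.1 a.2 r).1 hr)
    (by
      rintro _ ⟨a, ha, rfl⟩
      have := (hcl _ ha).1
      rw [← map_mul] at this
      exact (QuotientGroup.eq_one_iff (N := R.subgroupOf K) (a * a)).1 this)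
  have hbig : 4 * Nat.card E ≤ Nat.card H := by
    have h := Nat.card_le_card_of_injective (α := (Bool × Bool) × E) (β := H)
      (fun p => ⟨(if p.1.1 then n₁ else 1) * (if p.1.2 then n₂ else 1) * p.2, by
        refine mul_mem (mul_mem ?_ ?_) ?_
        · split
          · exact ⟨⟨n₁, h1K⟩, subset_closure (Or.inl rfl), rfl⟩
          · exact one_mem _
        · split
          · exact ⟨⟨n₂, h2K⟩, subset_closure (Or.inr (Or.inl rfl)), rfl⟩
          · exact one_mem _
        · exact ⟨⟨p.2, hEK p.2.2⟩, subset_closure (Or.inr (Or.inr (mem_map_of_mem π (show _ from p.2.2)))), rfl⟩⟩)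
      (by
        rintro ⟨⟨i, j⟩, e⟩ ⟨⟨i', j'⟩, e'⟩ he
        have he' := congrArg Subtype.val he
        dsimp only at he'
        set A := (if i then n₁ else 1) * if j then n₂ else 1 with hA
        set A' := (if i' then n₁ else 1) * if j' then n₂ else 1 with hA'
        have hmem : A'⁻¹ * A ∈ E := by
          have : A'⁻¹ * A = (e' : G) * (e : G)⁻¹ := by
            calc A'⁻¹ * A = A'⁻¹ * (A * e) * (e : G)⁻¹ := by group
              _ = _ := by rw [he']; group
          rw [this]; exact mul_mem e'.2 (inv_mem e.2)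
        have k1 : n₁ * n₁ ∈ E := hRE h1
        have k2 : n₂ * n₂ ∈ E := hRE h2
        have key : (i, j) = (i', j') := by
          have conv1 : n₁⁻¹ ∈ E → False := fun h => hn1 (inv_inv n₁ ▸ inv_mem h)
          have conv2 : n₂⁻¹ ∈ E → False := fun h => hn2 (inv_inv n₂ ▸ inv_mem h)
          have conv12 : n₁⁻¹ * n₂ ∈ E → False := fun h => hn12 (by
            have := mul_mem k1 h
            rwa [mul_assoc n₁ n₁, ← mul_assoc n₁ n₁⁻¹, mul_inv_cancel, one_mul] at this)
          have conj2 : ∀ e ∈ E, n₂ * e * n₂⁻¹ ∈ E := fun e he => by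
            simpa using mul_mem (hRE (ha2 e he)) he
          cases i <;> cases j <;> cases i' <;> cases j' <;>
            simp only [hA, hA', ↓reduceIte, Bool.false_eq_true, one_mul, mul_one, inv_one] at hmem ⊢
          case false.false.false.true => exact (conv2 hmem).elim
          case false.false.true.false => exact (conv1 hmem).elim
          case false.false.true.true => exact (hn12 (inv_inv (n₁ * n₂) ▸ inv_mem hmem)).elim
          case false.true.false.false => exact (hn2 hmem).elim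
          case false.true.true.false => exact (conv12 hmem).elim
          case false.true.true.true =>
            refine (conv1 ?_).elim
            have : n₁⁻¹ = n₂ * ((n₁ * n₂)⁻¹ * n₂) * n₂⁻¹ := by group
            rw [this]
            exact conj2 _ hmem
          case true.false.false.false => exact (hn1 hmem).elim
          case true.false.false.true => exact (conv12 (by
            have := inv_mem hmem
            rwa [mul_inv_rev, inv_inv] at this)).elim
          case true.false.true.true => exact (conv2 (by simpa [mul_inv_rev] using hmem)).elim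
          case true.true.false.false => exact (hn12 hmem).elim
          case true.true.false.true =>
            refine (hn1 ?_).elim
            have : n₁ = n₂ * (n₂⁻¹ * (n₁ * n₂)) * n₂⁻¹ := by group
            rw [this]
            exact conj2 _ hmem
          case true.true.true.false => exact (hn2 (by simpa [← mul_assoc] using hmem)).elim
        obtain ⟨rfl, rfl⟩ := Prod.mk.injEq .. ▸ key
        exact Prod.ext rfl (Subtype.ext (mul_left_cancel he')))
    simpa [Nat.card_prod, Nat.card_eq_fintype_card (α := Bool)] using h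
  have := Nat.card_pos (α := R)
  omega

end

end Cfsg.Agent.L32Radical
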