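import Mathlib

/-!
# Coordinates in three commuting elements

`coord a b c v = a^v₁ b^v₂ c^v₃` for `v ∈ (ℤ/n)³`, and the companion maps used for `L₃(2)`.
-/

set_option autoImplicit false

namespace Cfsg.Agent.L32Radical

/-- `(ℤ/2)³`. -/
abbrev V3 : Type := ZMod 2 × ZMod 2 × ZMod 2

/-- `(ℤ/4)³`. -/
abbrev V4 : Type := ZMod 4 × ZMod 4 × ZMod 4

/-- The element of order 4 on `V3`. -/
def gV (v : V3) : V3 := (v.2.2, v.1 + v.2.2, v.2.1 + v.2.2)

/-- The element of order 7 on `V3`. -/
def yV (v : V3) : V3 := (v.2.2, v.1 + v.2.2, v.2.1)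

section

variable {G : Type*} [Group G] {n : ℕ}

/-- `a^v₁ b^v₂ c^v₃`. -/
def coord (a b c : G) (v : ZMod n × ZMod n × ZMod n) : G := a ^ v.1.val * b ^ v.2.1.val * c ^ v.2.2.val

/-- Pairwise commuting elements killed by `n`. -/
structure Triple (n : ℕ) (a b c : G) : Prop where
  ab : Commute a b
  ac : Commute a c
  bc : Commute b c
  pa : a ^ n = 1
  pb : b ^ n = 1
  pc : c ^ n = 1

variable [NeZero n] {a b c : G}

theorem pow_val_add' {t : G} (ht : t ^ n = 1) (i j : ZMod n) : t ^ (i + j).val = t ^ i.val * t ^ j.val := by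
  rw [ZMod.val_add, ← pow_eq_pow_mod _ ht, pow_add]

omit [NeZero n] in
theorem coord_zero (a b c : G) : coord a b c (0 : ZMod n × ZMod n × ZMod n) = 1 := by simp [coord]

theorem Triple.add (h : Triple n a b c) (u v : ZMod n × ZMod n × ZMod n) :
    coord a b c (u + v) = coord a b c u * coord a b c v := by
  simp only [coord, Prod.fst_add, Prod.snd_add, pow_val_add' h.pa, pow_val_add' h.pb, pow_val_add' h.pc]
  set A := a ^ u.1.val
  set B := b ^ u.2.1.val
  set C := c ^ u.2.2.val
  set A' := a ^ v.1.val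
  set B' := b ^ v.2.1.val
  set C' := c ^ v.2.2.val
  have e1 : Commute B A' := (h.ab.symm).pow_pow _ _
  have e2 : Commute C A' := (h.ac.symm).pow_pow _ _
  have e3 : Commute C B' := (h.bc.symm).pow_pow _ _
  calc A * A' * (B * B') * (C * C') = A * (A' * B) * (B' * C) * C' := by group
    _ = A * (B * A') * (C * B') * C' := by rw [e1.eq, e3.eq]
    _ = A * B * (A' * C) * B' * C' := by group
    _ = _ := by rw [← e2.eq]; group

theorem Triple.comm (h : Triple n a b c) (u v : ZMod n × ZMod n × ZMod n) :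
    Commute (coord a b c u) (coord a b c v) := by
  show _ = _
  rw [← h.add, ← h.add, add_comm]

theorem Triple.neg (h : Triple n a b c) (u : ZMod n × ZMod n × ZMod n) :
    coord a b c (-u) = (coord a b c u)⁻¹ := by
  rw [eq_inv_iff_mul_eq_one, ← h.add, neg_add_cancel, coord_zero]

theorem Triple.nsmul (h : Triple n a b c) (k : ℕ) (u : ZMod n × ZMod n × ZMod n) :
    coord a b c (k • u) = coord a b c u ^ k := by
  induction k with
  | zero => simp [coord_zero]
  | succ k ih => rw [succ_nsmul, h.add, ih, pow_succ]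

/-- `coord` as a homomorphism. -/
def Triple.hom (h : Triple n a b c) : Multiplicative (ZMod n × ZMod n × ZMod n) →* G where
  toFun v := coord a b c v.toAdd
  map_one' := coord_zero a b c
  map_mul' u v := h.add u.toAdd v.toAdd

@[simp] theorem Triple.hom_apply (h : Triple n a b c) (v : Multiplicative (ZMod n × ZMod n × ZMod n)) :
    h.hom v = coord a b c v.toAdd := rfl

/-- A homomorphism agreeing with `M` on the three generators agrees with it on all coordinates. -/
theorem Triple.map (h : Triple n a b c) {G' : Type*} [Group G'] (f : G →* G') {a' b' c' : G'}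
    (h' : Triple n a' b' c') (M : ZMod n × ZMod n × ZMod n → ZMod n × ZMod n × ZMod n)
    (hM : ∀ v, M v = v.1.val • M (1, 0, 0) + v.2.1.val • M (0, 1, 0) + v.2.2.val • M (0, 0, 1))
    (ha : f a = coord a' b' c' (M (1, 0, 0))) (hb : f b = coord a' b' c' (M (0, 1, 0)))
    (hc : f c = coord a' b' c' (M (0, 0, 1))) (v : ZMod n × ZMod n × ZMod n) :
    f (coord a b c v) = coord a' b' c' (M v) := by
  rw [hM v, h'.add, h'.add, h'.nsmul, h'.nsmul, h'.nsmul, ← ha, ← hb, ← hc]
  simp only [coord, map_mul, map_pow]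

end

section

variable {G : Type*} [Group G] {a b c : G}

theorem coord_one (a b c : G) :
    coord a b c ((1, 0, 0) : V3) = a ∧ coord a b c ((0, 1, 0) : V3) = b ∧ coord a b c ((0, 0, 1) : V3) = c := by
  refine ⟨?_, ?_, ?_⟩ <;> simp [coord, ZMod.val_one]

theorem gV_lin : ∀ v : V3, gV v = v.1.val • gV (1, 0, 0) + v.2.1.val • gV (0, 1, 0) + v.2.2.val • gV (0, 0, 1) := by
  decide

theorem yV_lin : ∀ v : V3, yV v = v.1.val • yV (1, 0, 0) + v.2.1.val • yV (0, 1, 0) + v.2.2.val • yV (0, 0, 1) := by
  decide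

/-- A set of vectors closed under `yV` with a nonzero element contains all nonzero vectors. -/
theorem yV_orbit (p : V3 → Prop) (hy : ∀ v, p v → p (yV v)) {v : V3} (hv : v ≠ 0) (hp : p v)
    (w : V3) (hw : w ≠ 0) : p w := by
  have key : ∀ v w : V3, v ≠ 0 → w ≠ 0 → ∃ k : Fin 7, yV^[k.val] v = w := by decide
  obtain ⟨k, rfl⟩ := key v w hv hw
  clear hw
  induction k.val with
  | zero => exact hp
  | succ k ih => rw [Function.iterate_succ_apply']; exact hy _ ih

end

end Cfsg.Agent.L32Radical
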