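import Cfsg.Agent.Lib.L32Radical.Homocyclic

/-!
# A chief layer below the radical

* `Chief`: an elementary central `G`-irreducible layer
* `Frame3`: a natural module on top of it
* `sec_cases`: the subgroup above a chief layer is elementary or homocyclic
-/

set_option autoImplicit false

namespace Cfsg.Agent.L32Radical

open Subgroup

section

variable {G : Type*} [Group G]

/-- An elementary, central, irreducible layer in `Q`. -/
structure Chief (Q T : Subgroup G) : Prop where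
  normal : T.Normal
  le : T ≤ Q
  exp : ∀ t ∈ T, t * t = 1
  cen : ∀ t ∈ T, ∀ a ∈ Q, t * a = a * t
  irr : ∀ K : Subgroup G, K.Normal → K ≤ T → K = ⊥ ∨ K = T
  ne : T ≠ ⊥

/-- Squares and commutators of `Q₁` lie in `T`. -/
structure Over (Q₁ T : Subgroup G) : Prop where
  sq : ∀ a ∈ Q₁, a * a ∈ T
  comm : ∀ a ∈ Q₁, ∀ b ∈ Q₁, a * b * a⁻¹ * b⁻¹ ∈ T

/-- Lifts `e` of three-vectors, additive modulo `T`. -/
structure Lifts (Q₁ T : Subgroup G) (y : G) (e : V3 → G) : Prop where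
  mem : ∀ v, e v ∈ Q₁
  zero : e 0 = 1
  add : ∀ u v, (e u * e v)⁻¹ * e (u + v) ∈ T
  indep : ∀ v, e v ∈ T → v = 0
  yact : ∀ v, (e (yV v))⁻¹ * (y * e v * y⁻¹) ∈ T

/-- A natural module `Q₁/T`. -/
structure Frame3 (Q₁ T : Subgroup G) (g y : G) (e : V3 → G) : Prop extends Lifts Q₁ T y e where
  cover : ∀ a ∈ Q₁, ∃ v, (e v)⁻¹ * a ∈ T
  gact : ∀ v, (e (gV v))⁻¹ * (g * e v * g⁻¹) ∈ T

variable {Q Q₁ T : Subgroup G} {g y : G} {e : V3 → G}

theorem Chief.comm (C : Chief Q T) {s t : G} (hs : s ∈ T) (ht : t ∈ T) : s * t = t * s :=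
  C.cen s hs t (C.le ht)

theorem Chief.sq_congr (C : Chief Q T) {a b : G} (hb : b ∈ Q) (h : b⁻¹ * a ∈ T) : a * a = b * b := by
  have ha : a = b * (b⁻¹ * a) := by group
  rw [ha, mul_assoc b, ← mul_assoc (b⁻¹ * a), C.cen _ h b hb, mul_assoc b (b⁻¹ * a) (b⁻¹ * a), C.exp _ h,
    mul_one]

/-- The commutator. -/
def kom (a b : G) : G := a * b * a⁻¹ * b⁻¹

theorem Chief.kom_mul (C : Chief Q T) {a b c : G} (ha : a ∈ Q) (hc : c ∈ Q) (hbc : kom b c ∈ T) :
    kom (a * b) c = kom a c * kom b c := by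
  have hac : kom a c ∈ Q := mul_mem (mul_mem (mul_mem ha hc) (inv_mem ha)) (inv_mem hc)
  rw [← C.cen _ hbc _ hac]
  calc kom (a * b) c = a * kom b c * (c * a⁻¹ * c⁻¹) := by simp only [kom]; group
    _ = kom b c * kom a c := by rw [← C.cen _ hbc a ha]; simp only [kom]; group

theorem kom_conj (h a b : G) : h * kom a b * h⁻¹ = kom (h * a * h⁻¹) (h * b * h⁻¹) := by
  simp only [kom]; group

theorem kom_eq_one {a b : G} : kom a b = 1 ↔ a * b = b * a := by
  rw [kom, mul_inv_eq_one, mul_inv_eq_iff_eq_mul]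

theorem Chief.kom_congr (C : Chief Q T) {a a' b b' : G} (ha : a ∈ Q) (hb : b ∈ Q) (hb' : b' ∈ Q)
    (h1 : a⁻¹ * a' ∈ T) (h2 : b⁻¹ * b' ∈ T) : kom a' b' = kom a b := by
  have e1 : ∀ q ∈ Q, kom (a⁻¹ * a') q = 1 ∧ kom q (b⁻¹ * b') = 1 := fun q hq =>
    ⟨kom_eq_one.2 (C.cen _ h1 q hq), kom_eq_one.2 (C.cen _ h2 q hq).symm⟩
  have step1 : kom a' b' = kom a b' := by
    have := C.kom_mul ha hb' (b := a⁻¹ * a') (by rw [(e1 _ hb').1]; exact one_mem T)
    rwa [mul_inv_cancel_left, (e1 _ hb').1, mul_one] at this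
  rw [step1, show b' = b * (b⁻¹ * b') by group]
  calc kom a (b * (b⁻¹ * b')) = kom a b * (b * kom a (b⁻¹ * b') * b⁻¹) := by simp only [kom]; group
    _ = kom a b := by rw [(e1 a ha).2]; group

/-- A `y`-invariant homomorphism on three-vectors is trivial. -/
theorem yinv_trivial (f : V3 → G) (hadd : ∀ u v, f (u + v) = f u * f v) (hy : ∀ v, f (yV v) = f v) (v : V3) :
    f v = 1 := by
  have h0 : f 0 = 1 := by
    have h := hadd 0 0
    rw [add_zero] at h
    exact left_eq_mul.1 h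
  by_cases hv : v = 0
  · rw [hv, h0]
  have h1 : ∀ w : V3, w ≠ 0 → f w = f (1, 0, 0) := fun w hw =>
    yV_orbit (fun w => f w = f (1, 0, 0)) (fun w h => (hy w).trans h) (v := (1, 0, 0)) (by decide) rfl w hw
  rw [h1 v hv]
  have h := hadd (1, 0, 0) (0, 1, 0)
  rw [h1 _ (show ((1, 0, 0) : V3) + (0, 1, 0) ≠ 0 by decide), h1 (0, 1, 0) (by decide)] at h
  exact left_eq_mul.1 h

theorem gV_add : ∀ u v : V3, gV (u + v) = gV u + gV v := by decide

theorem yV_add : ∀ u v : V3, yV (u + v) = yV u + yV v := by decide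

/-- The additive endomorphisms commuting with both generators. -/
theorem endo_cases : ∀ t : V3,
    (∀ v : V3, (v.1.val • t + v.2.1.val • yV t + v.2.2.val • yV (yV t) : V3) = 0) ∨
    (∀ v : V3, (v.1.val • t + v.2.1.val • yV t + v.2.2.val • yV (yV t) : V3) = v) ∨
    ¬ ∀ v : V3, ((gV v).1.val • t + (gV v).2.1.val • yV t + (gV v).2.2.val • yV (yV t) : V3) =
      gV (v.1.val • t + v.2.1.val • yV t + v.2.2.val • yV (yV t)) := by decide +kernel

/-- An equivariant endomorphism is zero or the identity. -/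
theorem equivariant_cases (f : V3 → V3) (hadd : ∀ u v, f (u + v) = f u + f v) (hg : ∀ v, f (gV v) = gV (f v))
    (hy : ∀ v, f (yV v) = yV (f v)) : (∀ v, f v = 0) ∨ (∀ v, f v = v) := by
  let F : V3 →+ V3 := AddMonoidHom.mk' f hadd
  have he : ∀ v : V3, f v = v.1.val • f (1, 0, 0) + v.2.1.val • yV (f (1, 0, 0)) + v.2.2.val • yV (yV (f (1, 0, 0))) := by
    intro v
    rw [← hy, ← hy]
    conv_lhs => rw [v3_decomp v, hadd, hadd]
    show F _ + F _ + F _ = _
    rw [map_nsmul, map_nsmul, map_nsmul]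
    rfl
  rcases endo_cases (f (1, 0, 0)) with h | h | h
  · exact Or.inl fun v => (he v).trans (h v)
  · exact Or.inr fun v => (he v).trans (h v)
  · exact absurd (fun v => by rw [← he, ← he]; exact hg v) h

variable [Finite G] [Q.Normal]

theorem Setting.chief_normal (S : Setting Q g y) (C : Chief Q T) {K : Subgroup G} (hK : K ≤ T)
    (hg : ∀ k ∈ K, g * k * g⁻¹ ∈ K) (hy : ∀ k ∈ K, y * k * y⁻¹ ∈ K) : K.Normal :=
  S.normal (fun a ha k hk => by rw [← C.cen k (hK hk) a ha, mul_inv_cancel_right]; exact hk) hg hy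

theorem Chief.commGroup_mul (C : Chief Q T) (s t : T) : s * t = t * s := Subtype.ext (C.comm s.2 t.2)

/-- Equivariant maps into a chief layer. -/
theorem Setting.layer_maps (S : Setting Q g y) (C : Chief Q T) (q : V3 → G) (hq : ∀ v, q v ∈ T)
    (hg : ∀ v, q (gV v) = g * q v * g⁻¹) (hy : ∀ v, q (yV v) = y * q v * y⁻¹) :
    ((∀ u v w : V3, q (u + v + w) * q (u + v) * q w = (q (u + w) * q u * q w) * (q (v + w) * q v * q w)) →
      ∀ u v, q (u + v) = q u * q v) ∧
    ((∀ u v, q (u + v) = q u * q v) →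
      (∀ v, q v = 1) ∨ (Function.Injective q ∧ (∀ t ∈ T, ∃ v, q v = t) ∧ Nat.card T = 8)) := by
  haveI := C.normal
  letI : CommGroup T := { mul_comm := C.commGroup_mul }
  let gT : T →* T := (MulAut.conjNormal (H := T) g).toMonoidHom
  let yT : T →* T := (MulAut.conjNormal (H := T) y).toMonoidHom
  let q' : V3 → T := fun v => ⟨q v, hq v⟩
  have hT : ∀ t : T, t * t = 1 := fun t => Subtype.ext (C.exp _ t.2)
  have hg' : ∀ v, q' (gV v) = gT (q' v) := fun v => Subtype.ext (by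
    show q (gV v) = ((MulAut.conjNormal (H := T) g (q' v) : T) : G)
    rw [MulAut.conjNormal_apply]; exact hg v)
  have hy' : ∀ v, q' (yV v) = yT (q' v) := fun v => Subtype.ext (by
    show q (yV v) = ((MulAut.conjNormal (H := T) y (q' v) : T) : G)
    rw [MulAut.conjNormal_apply]; exact hy v)
  have hirr : ∀ K : Subgroup T, (∀ t ∈ K, gT t ∈ K ∧ yT t ∈ K) → K = ⊥ ∨ K = ⊤ := by
    intro K hK
    have hn : (K.map T.subtype).Normal := S.chief_normal C (map_subtype_le K)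
      (by rintro _ ⟨t, ht, rfl⟩; exact ⟨gT t, (hK t ht).1, MulAut.conjNormal_apply g t⟩)
      (by rintro _ ⟨t, ht, rfl⟩; exact ⟨yT t, (hK t ht).2, MulAut.conjNormal_apply y t⟩)
    rcases C.irr _ hn (map_subtype_le K) with h | h
    · exact Or.inl ((map_eq_bot_iff_of_injective K T.subtype_injective).1 h)
    · refine Or.inr (eq_top_iff.2 fun t _ => ?_)
      obtain ⟨s, hs, he⟩ : (t : G) ∈ K.map T.subtype := by rw [h]; exact t.2
      rwa [← T.subtype_injective he]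
  refine ⟨fun hbil u v => ?_, fun hadd => ?_⟩
  · exact congrArg Subtype.val
      (quad_additive hT gT yT hirr q' hg' hy' (fun u v w => Subtype.ext (hbil u v w)) u v)
  · rcases additive_cases hT gT yT hirr q' hg' hy' (fun u v => Subtype.ext (hadd u v)) with h | h
    · exact Or.inl fun v => congrArg Subtype.val (h v)
    · refine Or.inr ⟨fun u v e => h.1 (Subtype.ext e), fun t ht => ?_, ?_⟩
      · obtain ⟨v, hv⟩ := h.2 ⟨t, ht⟩
        exact ⟨v, congrArg Subtype.val hv⟩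
      · rw [← Nat.card_eq_of_bijective q' h, Nat.card_eq_fintype_card]; rfl

/-- Second differences of squares are commutators. -/
theorem Chief.sq_add (C : Chief Q T) (hQ₁ : Q₁ ≤ Q) (O : Over Q₁ T) (L : Lifts Q₁ T y e) (u v : V3) :
    e (u + v) * e (u + v) * (e u * e u) * (e v * e v) = kom (e u) (e v) := by
  have ha := L.mem u
  have hb := L.mem v
  rw [C.sq_congr (hQ₁ (mul_mem ha hb)) (L.add u v)]
  set a := e u
  set b := e v
  have hk : kom a b ∈ T := O.comm a ha b hb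
  have hk' : a * b * a⁻¹ * b⁻¹ = kom a b := rfl
  have h2 : b * a = kom a b * (a * b) := by
    have hi : kom a b = b * a * b⁻¹ * a⁻¹ := by
      have : (kom a b)⁻¹ = kom a b := inv_eq_of_mul_eq_one_right (C.exp _ hk)
      rw [← this]; simp only [kom]; group
    rw [hi]; group
  calc a * b * (a * b) * (a * a) * (b * b) = a * (b * a) * b * (a * a) * (b * b) := by group
    _ = kom a b * ((a * a) * ((b * b) * (a * a)) * (b * b)) := by
        rw [h2, ← mul_assoc a, ← C.cen _ hk a (hQ₁ ha)]; group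
    _ = kom a b * (((a * a) * (a * a)) * ((b * b) * (b * b))) := by
        rw [C.comm (O.sq b hb) (O.sq a ha)]; group
    _ = _ := by rw [C.exp _ (O.sq a ha), C.exp _ (O.sq b hb), one_mul, mul_one]

theorem Lifts.kom_add (C : Chief Q T) (hQ₁ : Q₁ ≤ Q) (O : Over Q₁ T) (L : Lifts Q₁ T y e) {a : G} (ha : a ∈ Q₁)
    (u v : V3) : kom (e (u + v)) a = kom (e u) a * kom (e v) a := by
  rw [C.kom_congr (hQ₁ (mul_mem (L.mem u) (L.mem v))) (hQ₁ ha) (hQ₁ ha) (L.add u v)
    (by rw [inv_mul_cancel]; exact one_mem T)]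
  exact C.kom_mul (hQ₁ (L.mem u)) (hQ₁ ha) (O.comm _ (L.mem v) a ha)

/-- Above a chief layer, `Q₁` is elementary or homocyclic. -/
theorem Setting.sec_cases (S : Setting Q g y) (C : Chief Q T) (hQ₁ : Q₁ ≤ Q) (hTQ : T ≤ Q₁) [Q₁.Normal]
    (O : Over Q₁ T) (F : Frame3 Q₁ T g y e) :
    (∀ a ∈ Q₁, ∀ b ∈ Q₁, a * b = b * a) ∧ Nat.card Q₁ = 8 * Nat.card T ∧
    ((∀ a ∈ Q₁, a * a = 1) ∨
      (Homo Q₁ g y (e (1, 0, 0)) ∧ Nat.card T = 8 ∧ Function.Injective (fun v => e v * e v) ∧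
        (∀ t ∈ T, ∃ v, e v * e v = t) ∧ (∀ v, e (gV v) * e (gV v) = g * (e v * e v) * g⁻¹) ∧
        (∀ v, e (yV v) * e (yV v) = y * (e v * e v) * y⁻¹))) := by
  set q : V3 → G := fun v => e v * e v with hqdef
  have hqT : ∀ v, q v ∈ T := fun v => O.sq _ (F.mem v)
  have hqg : ∀ v, q (gV v) = g * q v * g⁻¹ := fun v => by
    have : q (gV v) = g * e v * g⁻¹ * (g * e v * g⁻¹) := (C.sq_congr (hQ₁ (F.mem _)) (F.gact v)).symm
    rw [this]; simp only [q]; group
  have hqy : ∀ v, q (yV v) = y * q v * y⁻¹ := fun v => by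
    have : q (yV v) = y * e v * y⁻¹ * (y * e v * y⁻¹) := (C.sq_congr (hQ₁ (F.mem _)) (F.yact v)).symm
    rw [this]; simp only [q]; group
  obtain ⟨h1, h2⟩ := S.layer_maps C q hqT hqg hqy
  have hadd := h1 fun u v w => by
    simp only [q]
    rw [C.sq_add hQ₁ O F.toLifts, C.sq_add hQ₁ O F.toLifts, C.sq_add hQ₁ O F.toLifts,
      F.toLifts.kom_add C hQ₁ O (F.mem w)]
  have hcomm : ∀ a ∈ Q₁, ∀ b ∈ Q₁, a * b = b * a := by
    intro a ha b hb
    obtain ⟨u, hu⟩ := F.cover a ha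
    obtain ⟨v, hv⟩ := F.cover b hb
    rw [← kom_eq_one, C.kom_congr (hQ₁ (F.mem u)) (hQ₁ (F.mem v)) (hQ₁ hb) hu hv, ← C.sq_add hQ₁ O F.toLifts]
    show q (u + v) * q u * q v = 1
    rw [hadd, mul_assoc (q u) (q v), C.comm (hqT v) (hqT u), ← mul_assoc (q u) (q u), C.exp _ (hqT u), one_mul,
      C.exp _ (hqT v)]
  have hsplit : ∀ a ∈ Q₁, ∃ v t, t ∈ T ∧ a = e v * t := fun a ha => by
    obtain ⟨v, hv⟩ := F.cover a ha
    exact ⟨v, _, hv, by group⟩
  have hcard : Nat.card Q₁ = 8 * Nat.card T := by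
    have hb : Function.Bijective (fun p : V3 × T => (⟨e p.1 * p.2, mul_mem (F.mem p.1) (hTQ p.2.2)⟩ : Q₁)) := by
      refine ⟨fun p r h => ?_, fun a => ?_⟩
      · have h' : e p.1 * (p.2 : G) = e r.1 * r.2 := congrArg Subtype.val h
        have h3 : p.1 + r.1 = 0 := by
          refine F.indep _ ?_
          have h4 : (e r.1)⁻¹ * e p.1 ∈ T := by
            have : (e r.1)⁻¹ * e p.1 = (r.2 : G) * (p.2 : G)⁻¹ := by
              calc (e r.1)⁻¹ * e p.1 = (e r.1)⁻¹ * (e p.1 * p.2) * (p.2 : G)⁻¹ := by group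
                _ = _ := by rw [h']; group
            rw [this]; exact mul_mem r.2.2 (inv_mem p.2.2)
          have : e (p.1 + r.1) = e p.1 * e r.1 * ((e p.1 * e r.1)⁻¹ * e (p.1 + r.1)) := by group
          rw [this]
          refine mul_mem ?_ (F.add _ _)
          have : e p.1 * e r.1 = e r.1 * e r.1 * ((e r.1)⁻¹ * e p.1) := by
            rw [hcomm _ (F.mem p.1) _ (F.mem r.1)]; group
          rw [this]
          exact mul_mem (O.sq _ (F.mem _)) h4
        have h4 := v3_eq_of_add _ _ h3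
        rw [h4] at h'
        exact Prod.ext h4 (Subtype.ext (mul_left_cancel h'))
      · obtain ⟨v, t, ht, he⟩ := hsplit a a.2
        exact ⟨(v, ⟨t, ht⟩), Subtype.ext he.symm⟩
    rw [← Nat.card_eq_of_bijective _ hb, Nat.card_prod, Nat.card_eq_fintype_card]
    rfl
  have hsqv : ∀ a ∈ Q₁, ∃ v, a * a = q v := fun a ha => by
    obtain ⟨v, hv⟩ := F.cover a ha
    exact ⟨v, C.sq_congr (hQ₁ (F.mem v)) hv⟩
  refine ⟨hcomm, hcard, ?_⟩
  rcases h2 hadd with h | ⟨hinj, hsurj, hT8⟩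
  · refine Or.inl fun a ha => ?_
    obtain ⟨v, hv⟩ := hsqv a ha
    rw [hv, h]
  refine Or.inr ⟨⟨inferInstance, hcomm, fun a ha => ?_, by rw [hcard, hT8], F.mem _, ?_⟩, hT8, hinj, hsurj, hqg, hqy⟩
  · rw [show a ^ 4 = a * a * (a * a) by simp [pow_succ, mul_assoc], C.exp _ (O.sq a ha)]
  obtain ⟨E1, E2, E3⟩ := coord_one (q (1, 0, 0)) (q (0, 1, 0)) (q (0, 0, 1))
  have hb : g * (e (1, 0, 0) * e (1, 0, 0)) * g⁻¹ = q (0, 1, 0) := (hqg _).symm
  have hc : g * q (0, 1, 0) * g⁻¹ = q (0, 0, 1) := (hqg _).symm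
  rw [hb, hc]
  show Natural g y (q (1, 0, 0)) (q (0, 1, 0)) (q (0, 0, 1))
  have tr : Triple 2 (q (1, 0, 0)) (q (0, 1, 0)) (q (0, 0, 1)) :=
    ⟨C.comm (hqT _) (hqT _), C.comm (hqT _) (hqT _), C.comm (hqT _) (hqT _),
      by rw [pow_two]; exact C.exp _ (hqT _), by rw [pow_two]; exact C.exp _ (hqT _),
      by rw [pow_two]; exact C.exp _ (hqT _)⟩
  have hco : ∀ v, coord (q (1, 0, 0)) (q (0, 1, 0)) (q (0, 0, 1)) v = q v := by
    intro v
    letI : CommGroup T := { mul_comm := C.commGroup_mul }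
    have := congrArg Subtype.val
      (additive_eq_coord (fun v => (⟨q v, hqT v⟩ : T)) (fun a b => Subtype.ext (hadd a b)) v)
    rw [show q v = _ from this]
    simp [coord]
  refine ⟨tr, fun v hv => hinj ?_, fun v => by rw [hco, hco, hqg], fun v => by rw [hco, hco, hqy]⟩
  show q v = q 0
  rw [← hco, hv, ← hco 0, coord_zero]

end

end Cfsg.Agent.L32Radical
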