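import Cfsg.Agent.Lib.L32Radical.Model
import Cfsg.Agent.Lib.L32Radical.Layer

/-!
# Coordinates `ℤ/n × 2³` on an abelian radical
-/

set_option autoImplicit false

namespace Cfsg.Agent.L32Radical

open Subgroup

section

variable {G : Type*} [Group G] {n : ℕ}

/-- `v^i a^w₁ b^w₂ c^w₃`. -/
def stc (v a b c : G) (s : St n) : G := v ^ s.1.val * coord a b c s.2

/-- Coordinates on `Q` in which `g` acts as `f` and `y` as `yS`. -/
structure Coords (Q : Subgroup G) (g y : G) (e : St n → G) (f : St n → St n) : Prop where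
  add : ∀ s t, e (s + t) = e s * e t
  inj : Function.Injective e
  mem : ∀ s, e s ∈ Q
  surj : ∀ q ∈ Q, ∃ s, e s = q
  gact : ∀ s, g * e s * g⁻¹ = e (f s)
  yact : ∀ s, y * e s * y⁻¹ = e (yS s)

variable [NeZero n]

theorem stc_add {v a b c : G} (hv : v ^ n = 1) (tr : Triple 2 a b c)
    (ha : Commute v a) (hb : Commute v b) (hc : Commute v c) (s t : St n) :
    stc v a b c (s + t) = stc v a b c s * stc v a b c t := by
  have h : Commute (coord a b c s.2) (v ^ t.1.val) :=
    (((ha.pow_pow t.1.val s.2.1.val).mul_right (hb.pow_pow _ _)).mul_right (hc.pow_pow _ _)).symm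
  simp only [stc, Prod.fst_add, Prod.snd_add, pow_val_add' hv, tr.add]
  calc v ^ s.1.val * v ^ t.1.val * (coord a b c s.2 * coord a b c t.2)
      = v ^ s.1.val * (v ^ t.1.val * coord a b c s.2) * coord a b c t.2 := by group
    _ = _ := by rw [← h.eq]; group

theorem stc_gens [Fact (1 < n)] (v a b c : G) :
    stc v a b c ((1, 0) : St n) = v ∧ stc v a b c ((0, (1, 0, 0)) : St n) = a ∧
      stc v a b c ((0, (0, 1, 0)) : St n) = b ∧ stc v a b c ((0, (0, 0, 1)) : St n) = c := by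
  refine ⟨?_, ?_, ?_, ?_⟩ <;> simp [stc, coord, ZMod.val_one]

/-- Additive maps agreeing on the four generators agree. -/
theorem st_ext {H : Type*} [Group H] {f f' : St n → H} (hf : ∀ s t, f (s + t) = f s * f t)
    (hf' : ∀ s t, f' (s + t) = f' s * f' t) (h0 : f (1, 0) = f' (1, 0))
    (h1 : f (0, (1, 0, 0)) = f' (0, (1, 0, 0))) (h2 : f (0, (0, 1, 0)) = f' (0, (0, 1, 0)))
    (h3 : f (0, (0, 0, 1)) = f' (0, (0, 0, 1))) (s : St n) : f s = f' s := by
  have hz : ∀ {F : St n → H}, (∀ s t, F (s + t) = F s * F t) → F 0 = 1 := fun {F} hF => by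
    have h := hF 0 0
    rw [add_zero] at h
    exact left_eq_mul.1 h
  have hp : ∀ {F : St n → H}, (∀ s t, F (s + t) = F s * F t) → ∀ (k : ℕ) u, F (k • u) = F u ^ k :=
    fun {F} hF k u => by
      induction k with
      | zero => simp [hz hF]
      | succ k ih => rw [succ_nsmul, hF, ih, pow_succ]
  have key : s = s.1.val • ((1, 0) : St n) + s.2.1.val • ((0, (1, 0, 0)) : St n) +
      s.2.2.1.val • ((0, (0, 1, 0)) : St n) + s.2.2.2.val • ((0, (0, 0, 1)) : St n) := by
    simp [Prod.ext_iff]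
  rw [key, hf, hf, hf, hf', hf', hf', hp hf, hp hf, hp hf, hp hf, hp hf', hp hf', hp hf', hp hf', h0, h1, h2, h3]

omit [NeZero n] in
theorem gS_add {c : ZMod 2 → ZMod n} (hc : ∀ a b, c (a + b) = c a + c b)
    (hpar : ∀ a b : ZMod n, ((a + b).val : ZMod 2) = (a.val : ZMod 2) + (b.val : ZMod 2)) (φ ω : V3) (k : ZMod 2)
    (s t : St n) : gS c φ ω k (s + t) = gS c φ ω k s + gS c φ ω k t := by
  have hsm : ∀ (a : ℕ) (w : V3), a • w = (a : ZMod 2) • w := fun a w => (Nat.cast_smul_eq_nsmul _ a w).symm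
  refine Prod.ext ?_ ?_
  · simp only [gS, Prod.fst_add, Prod.snd_add, hpar]
    rw [show k * ((s.1.val : ZMod 2) + (t.1.val : ZMod 2)) + (φ.1 * (s.2.1 + t.2.1) + φ.2.1 * (s.2.2.1 + t.2.2.1) +
        φ.2.2 * (s.2.2.2 + t.2.2.2)) = (k * (s.1.val : ZMod 2) + (φ.1 * s.2.1 + φ.2.1 * s.2.2.1 + φ.2.2 * s.2.2.2)) +
        (k * (t.1.val : ZMod 2) + (φ.1 * t.2.1 + φ.2.1 * t.2.2.1 + φ.2.2 * t.2.2.2)) by ring, hc]
    ring
  · simp only [gS, Prod.fst_add, Prod.snd_add, gV_add, hsm, hpar, add_smul]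
    abel

omit [NeZero n] in
theorem yS_add (s t : St n) : yS (s + t) = yS s + yS t := by
  simp [yS, yV_add]

omit [NeZero n] in
theorem Coords.iter {Q : Subgroup G} {g y : G} {e : St n → G} {f : St n → St n} (C : Coords Q g y e f)
    (i : ℕ) (s : St n) : g ^ i * e s * (g ^ i)⁻¹ = e (f^[i] s) := by
  induction i with
  | zero => simp
  | succ i ih =>
    rw [Function.iterate_succ_apply', ← C.gact, ← ih, pow_succ']
    group

omit [NeZero n] in
/-- Elements of `Q` act trivially, so the relators constrain `f`. -/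
theorem Coords.relators [Finite G] {Q : Subgroup G} {g y : G} {e : St n → G} {f : St n → St n}
    (C : Coords Q g y e f) (S : Setting Q g y) (s : St n) : f^[4] s = s ∧ relS f s = s := by
  have hfix : ∀ q ∈ Q, ∀ t, q * e t * q⁻¹ = e t := fun q hq t => by
    obtain ⟨u, rfl⟩ := C.surj q hq
    rw [← C.add, add_comm, C.add, mul_inv_cancel_right]
  refine ⟨C.inj ?_, C.inj ?_⟩
  · rw [← C.iter, hfix _ S.g4]
  · conv_rhs => rw [← hfix _ S.rel s]
    simp only [relS, ← C.gact, ← C.yact, rW]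
    group

end

end Cfsg.Agent.L32Radical
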