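import Cfsg.Agent.Lib.L32Radical.Natural

/-!
# Determinants over `ℤ/4`
-/

set_option autoImplicit false

namespace Cfsg.Agent.L32Radical

/-- Reduction modulo 2. -/
def red (u : V4) : V3 := ((u.1.val : ZMod 2), (u.2.1.val : ZMod 2), (u.2.2.val : ZMod 2))

/-- The determinant of three vectors. -/
def det4 (u v w : V4) : ZMod 4 :=
  u.1 * (v.2.1 * w.2.2 - v.2.2 * w.2.1) - u.2.1 * (v.1 * w.2.2 - v.2.2 * w.1) +
    u.2.2 * (v.1 * w.2.1 - v.2.1 * w.1)

/-- The linear map with the given columns. -/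
def lin4 (p q r : V4) (u : V4) : V4 := u.1 • p + u.2.1 • q + u.2.2 • r

/-- The companion map. -/
def comp4 (r : V4) : V4 → V4 := lin4 (0, 1, 0) (0, 0, 1) r

/-- The companion map of determinant one. -/
def M4 : V4 → V4 := comp4 (1, 3, 1)

theorem det4_lin (p q r u v w : V4) :
    det4 (lin4 p q r u) (lin4 p q r v) (lin4 p q r w) = det4 p q r * det4 u v w := by
  simp only [det4, lin4, Prod.smul_fst, Prod.smul_snd, Prod.fst_add, Prod.snd_add, smul_eq_mul]
  ring

theorem red_add (u v : V4) : red (u + v) = red u + red v := by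
  have h : ∀ a b : ZMod 4, (((a + b).val : ℕ) : ZMod 2) = (a.val : ZMod 2) + (b.val : ZMod 2) := by decide
  simp [red, h]

theorem red_eq_zero : ∀ u : V4, red u = 0 → ∃ w : V4, u = w + w := by decide

theorem red_double : ∀ u : V4, red u = 0 ↔ u + u = 0 := by decide

theorem lin4_eq (f : V4 → V4) (hf : ∀ u v, f (u + v) = f u + f v) (u : V4) :
    f u = lin4 (f (1, 0, 0)) (f (0, 1, 0)) (f (0, 0, 1)) u := by
  let F : V4 →+ V4 := AddMonoidHom.mk' f hf
  have hs : ∀ (k : ZMod 4) (v : V4), f (k • v) = k • f v := fun k v => ZMod.map_smul F k v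
  conv_lhs => rw [show u = u.1 • ((1, 0, 0) : V4) + u.2.1 • ((0, 1, 0) : V4) + u.2.2 • ((0, 0, 1) : V4) by
    simp [Prod.ext_iff]]
  rw [hf, hf, hs, hs, hs]
  rfl

end Cfsg.Agent.L32Radical
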