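import Cfsg.Agent.Lib.L32Radical.Layer
import Cfsg.Agent.Lib.RankFourRadical.Core

/-!
# Choosing the generators

`exists_frame`: generators acting by `gV`, `yV` on a faithful layer of order 8.
-/

set_option autoImplicit false

namespace Cfsg.Agent.L32Radical

open Subgroup
open RankFourRadical (Sect4)

section

/-- The linear map with the given columns. -/
def linM (p : V3 × V3 × V3) (v : V3) : V3 := v.1.val • p.1 + v.2.1.val • p.2.1 + v.2.2.val • p.2.2

theorem linM_gens (p : V3 × V3 × V3) : linM p (1, 0, 0) = p.1 ∧ linM p (0, 1, 0) = p.2.1 ∧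
    linM p (0, 0, 1) = p.2.2 := by
  refine ⟨?_, ?_, ?_⟩ <;> simp [linM, ZMod.val_one]

theorem linM_lin (p : V3 × V3 × V3) (v : V3) : linM p v =
    v.1.val • linM p (1, 0, 0) + v.2.1.val • linM p (0, 1, 0) + v.2.2.val • linM p (0, 0, 1) := by
  rw [(linM_gens p).1, (linM_gens p).2.1, (linM_gens p).2.2]; rfl

theorem card_indep : Nat.card {p : V3 × V3 × V3 // ∀ v, linM p v = 0 → v = 0} = 168 := by
  rw [Nat.card_eq_fintype_card]; decide +kernel

/-- A word for the inverse of `kW`. -/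
def kVi (v : V3) : V3 := yV^[6] (gV^[3] (yV^[4] (gV^[3] v)))

/-- The action of `kW`. -/
def kV : V3 → V3 := gV ∘ yV ∘ yV ∘ yV ∘ gV ∘ yV

theorem kV_inv : ∀ v, kV (kVi v) = v := by decide

/-- The action of the second involution. -/
def zV (v : V3) : V3 := kV (gV (gV (kVi v)))

theorem words_id : ∀ v : V3, xV (gV (xV (gV v))) = v ∧ xV (zV (gV^[3] v)) = v ∧
    gV (gV (gV (yV (yV (gV (yV (gV (yV (yV v))))))))) = v ∧ gV^[4] v = v ∧ gV (gV^[3] v) = v ∧ xV (xV v) = v := by
  decide

variable {G : Type*} [Group G] [Finite G] {Q Q₁ T : Subgroup G} [Q.Normal] [Q₁.Normal] [T.Normal]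

/-- Generators adapted to a faithful layer of order 8. -/
theorem exists_frame (h4 : Sect4 G) (hQ : IsPGroup 2 Q) (h168 : Nat.card (G ⧸ Q) = 168) [IsSimpleGroup (G ⧸ Q)]
    (hTQ : T ≤ Q₁) (O : Over Q₁ T) (hcard : Nat.card Q₁ = 8 * Nat.card T)
    (htriv : ∀ a ∈ Q, ∀ b ∈ Q₁, a * b * a⁻¹ * b⁻¹ ∈ T)
    (hfaith : ∀ h, (∀ b ∈ Q₁, h * b * h⁻¹ * b⁻¹ ∈ T) → h ∈ Q) :
    ∃ g y e, Setting Q g y ∧ Frame3 Q₁ T g y e := by
  classical
  set π := QuotientGroup.mk' T with hπ
  set A := Q₁.map π with hA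
  haveI hAn : A.Normal := Normal.map inferInstance π (QuotientGroup.mk'_surjective T)
  have hA2 : ∀ u ∈ A, u * u = 1 := by
    rintro _ ⟨u, hu, rfl⟩
    rw [← map_mul]; exact (QuotientGroup.eq_one_iff _).2 (O.sq u hu)
  have hAc : ∀ u ∈ A, ∀ v ∈ A, u * v = v * u := fun u hu v hv => by
    have hi : ∀ w ∈ A, w⁻¹ = w := fun w hw => inv_eq_of_mul_eq_one_right (hA2 w hw)
    rw [← hi _ (mul_mem hu hv), mul_inv_rev, hi u hu, hi v hv]
  have hA8 : Nat.card A = 8 := by
    have h := RankFourRadical.card_map_mk hTQ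
    rw [hcard] at h
    exact Nat.eq_of_mul_eq_mul_right Nat.card_pos h
  have hA8' : (A : Set (G ⧸ T)).ncard = 8 := hA8
  have pick : ∀ s : Set (G ⧸ T), s.ncard < 8 → ∃ u ∈ A, u ∉ s := fun s hs =>
    Set.exists_mem_notMem_of_ncard_lt_ncard (hs.trans_eq hA8'.symm)
  obtain ⟨a, haA, ha⟩ := pick {1} (by simp)
  obtain ⟨b, hbA, hb⟩ := pick {1, a} (lt_of_le_of_lt (Set.ncard_insert_le _ _) (by simp))
  obtain ⟨c, hcA, hc⟩ := pick {1, a, b, a * b} (by
    have h1 := Set.ncard_insert_le (1 : G ⧸ T) {a, b, a * b}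
    have h2 := Set.ncard_insert_le a ({b, a * b} : Set (G ⧸ T))
    have h3 := Set.ncard_insert_le b ({a * b} : Set (G ⧸ T))
    simp only [Set.ncard_singleton] at h3
    omega)
  simp only [Set.mem_insert_iff, Set.mem_singleton_iff, not_or] at ha hb hc
  have tr : Triple 2 a b c := ⟨hAc a haA b hbA, hAc a haA c hcA, hAc b hbA c hcA,
    by rw [pow_two]; exact hA2 a haA, by rw [pow_two]; exact hA2 b hbA, by rw [pow_two]; exact hA2 c hcA⟩
  have hco : ∀ v : V3, coord a b c v ∈ A := fun v =>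
    mul_mem (mul_mem (pow_mem haA _) (pow_mem hbA _)) (pow_mem hcA _)
  have hker : ∀ v : V3, coord a b c v = 1 → v = 0 := by
    have ia : a⁻¹ = a := inv_eq_of_mul_eq_one_right (hA2 a haA)
    have ib : b⁻¹ = b := inv_eq_of_mul_eq_one_right (hA2 b hbA)
    have hcases : ∀ v : V3, v = 0 ∨ v = (1, 0, 0) ∨ v = (0, 1, 0) ∨ v = (0, 0, 1) ∨ v = (1, 1, 0) ∨ v = (1, 0, 1) ∨
        v = (0, 1, 1) ∨ v = (1, 1, 1) := by decide
    intro v hv
    rcases hcases v with rfl | rfl | rfl | rfl | rfl | rfl | rfl | rfl <;>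
      simp [coord, ZMod.val_one] at hv ⊢
    · exact ha hv
    · exact hb.1 hv
    · exact hc.1 hv
    · exact hb.2 ((eq_inv_of_mul_eq_one_right hv).trans ia)
    · exact hc.2.1 ((eq_inv_of_mul_eq_one_right hv).trans ia)
    · exact hc.2.2.1 ((eq_inv_of_mul_eq_one_right hv).trans ib)
    · exact hc.2.2.2 ((eq_inv_of_mul_eq_one_right hv).trans (inv_eq_of_mul_eq_one_right (hA2 _ (mul_mem haA hbA))))
  have hinj : Function.Injective (coord a b c : V3 → G ⧸ T) := fun u v h => by
    refine v3_eq_of_add u v (hker _ ?_)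
    rw [tr.add, h, ← tr.add, v3_add_self, coord_zero]
  have hsurj : ∀ w ∈ A, ∃ v : V3, coord a b c v = w := fun w hw => by
    have hbij : Function.Bijective (fun v => (⟨coord a b c v, hco v⟩ : A)) :=
      (Nat.bijective_iff_injective_and_card _).2 ⟨fun u v e => hinj (congrArg Subtype.val e), by
        rw [hA8, Nat.card_eq_fintype_card]; rfl⟩
    obtain ⟨v, hv⟩ := hbij.2 ⟨w, hw⟩
    exact ⟨v, congrArg Subtype.val hv⟩
  have himg : ∀ h : G, ∃ p : V3 × V3 × V3, ActsAs (π h) a b c (linM p) := fun h => by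
    obtain ⟨p1, h1⟩ := hsurj _ (hAn.conj_mem a haA (π h))
    obtain ⟨p2, h2⟩ := hsurj _ (hAn.conj_mem b hbA (π h))
    obtain ⟨p3, h3⟩ := hsurj _ (hAn.conj_mem c hcA (π h))
    obtain ⟨G1, G2, G3⟩ := linM_gens (p1, p2, p3)
    exact ⟨(p1, p2, p3), ActsAs.of_gens tr _ (linM_lin _) (by rw [G1]; exact h1.symm) (by rw [G2]; exact h2.symm)
      (by rw [G3]; exact h3.symm)⟩
  choose P hP using himg
  have inQ : ∀ h : G, ActsAs (π h) a b c id → h ∈ Q := fun h hh => hfaith h fun w hw => by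
    obtain ⟨v, hv⟩ := hsurj _ (mem_map_of_mem π hw)
    rw [← QuotientGroup.eq_one_iff]
    show π (h * w * h⁻¹ * w⁻¹) = 1
    rw [map_mul, map_mul, map_mul, map_inv, map_inv, ← hv, hh v]
    exact mul_inv_cancel _
  have outQ : ∀ h ∈ Q, ActsAs (π h) a b c id := fun h hh v => by
    obtain ⟨w, hw, he⟩ := hco v
    show π h * coord a b c v * (π h)⁻¹ = coord a b c v
    rw [← he, ← mul_inv_eq_one, ← map_inv, ← map_inv, ← map_mul, ← map_mul, ← map_mul]
    exact (QuotientGroup.eq_one_iff _).2 (htriv h hh w hw)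
  -- every frame is realised
  have hreal : ∀ p : V3 × V3 × V3, (∀ v, linM p v = 0 → v = 0) → ∃ h, ActsAs (π h) a b c (linM p) := by
    have hindep : ∀ h, ∀ v, linM (P h) v = 0 → v = 0 := fun h v hv => hker v (by
      have h1 := hP h v
      rw [hv, coord_zero] at h1
      calc coord a b c v = (π h)⁻¹ * (π h * coord a b c v * (π h)⁻¹) * π h := by group
        _ = 1 := by rw [h1]; group)
    let Θ : G ⧸ Q → {p : V3 × V3 × V3 // ∀ v, linM p v = 0 → v = 0} := fun x => ⟨P x.out, hindep _⟩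
    have hΘ : Function.Injective Θ := fun x x' e => by
      have hq : x.out⁻¹ * x'.out ∈ Q := inQ _ fun v => by
        have h1 := hP x.out v
        rw [show P x.out = P x'.out from congrArg Subtype.val e] at h1
        have h2 := hP x'.out v
        rw [map_mul, map_inv]
        calc (π x.out)⁻¹ * π x'.out * coord a b c v * ((π x.out)⁻¹ * π x'.out)⁻¹
            = (π x.out)⁻¹ * (π x'.out * coord a b c v * (π x'.out)⁻¹) * π x.out := by group
          _ = coord a b c v := by rw [h2, ← h1]; group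
      rw [← QuotientGroup.out_eq' x, ← QuotientGroup.out_eq' x']
      exact QuotientGroup.eq.2 hq
    have hbij : Function.Bijective Θ :=
      (Nat.bijective_iff_injective_and_card Θ).2 ⟨hΘ, by rw [h168, card_indep]⟩
    intro p hp
    obtain ⟨x, hx⟩ := hbij.2 ⟨p, hp⟩
    exact ⟨x.out, by rw [← show P x.out = p from congrArg Subtype.val hx]; exact hP _⟩
  obtain ⟨g, hg⟩ := hreal (gV (1, 0, 0), gV (0, 1, 0), gV (0, 0, 1)) (by decide)
  obtain ⟨y₀, hy₀⟩ := hreal (yV (1, 0, 0), yV (0, 1, 0), yV (0, 0, 1)) (by decide)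
  have hg : ActsAs (π g) a b c gV := hg.congr fun v => (gV_lin v).symm
  have hy₀ : ActsAs (π y₀) a b c yV := hy₀.congr fun v => (yV_lin v).symm
  -- an element of order 7
  obtain ⟨y, hy7, hy⟩ : ∃ y, y ^ 7 = 1 ∧ ActsAs (π y) a b c yV := by
    have h7 : y₀ ^ 7 ∈ Q := inQ _ (by
      rw [map_pow]
      exact (hy₀.pow 7).congr (by decide))
    obtain ⟨k, hk⟩ := hQ ⟨_, h7⟩
    have hk' : y₀ ^ (7 * 2 ^ k) = 1 := by rw [pow_mul]; exact congrArg Subtype.val hk
    refine ⟨y₀ ^ (8 ^ k), ?_, ?_⟩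
    · rw [← pow_mul, show 8 ^ k * 7 = 7 * 2 ^ k * 2 ^ (2 * k) by
        rw [show (8 : ℕ) = 2 ^ 3 from rfl, ← pow_mul]; ring, pow_mul, hk', one_pow]
    · rw [map_pow]
      refine (hy₀.pow _).congr fun v => ?_
      have h8 : yV^[8] = yV := funext (by decide)
      have hfun : ∀ j : ℕ, yV^[8 ^ j] = yV := fun j => by
        induction j with
        | zero => rfl
        | succ j ih => rw [pow_succ, Function.iterate_mul, ih, h8]
      rw [hfun]
  -- lifts
  choose l hl hle using fun v => mem_map.1 (hco v)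
  set e : V3 → G := fun v => if v = 0 then 1 else l v with he
  have hem : ∀ v, e v ∈ Q₁ := fun v => by
    by_cases h : v = 0
    · simp [he, h]
    · simp [he, h, hl]
  have hπe : ∀ v, π (e v) = coord a b c v := fun v => by
    by_cases h : v = 0
    · simp [he, h, coord_zero]
    · simp [he, h, hle]
  have hmeq : ∀ {u v : G}, π u = π v → v⁻¹ * u ∈ T := fun h => QuotientGroup.eq.1 h.symm
  have F : Frame3 Q₁ T g y e := by
    refine { mem := hem, zero := by simp [he], add := fun u v => hmeq (by rw [map_mul, hπe, hπe, hπe, tr.add]),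
             indep := fun v hv => hker v (by rw [← hπe]; exact (QuotientGroup.eq_one_iff _).2 hv),
             yact := fun v => hmeq (by rw [map_mul, map_mul, map_inv, hπe, hπe]; exact hy v),
             cover := fun u hu => ?_,
             gact := fun v => hmeq (by rw [map_mul, map_mul, map_inv, hπe, hπe]; exact hg v) }
    obtain ⟨v, hv⟩ := hsurj _ (mem_map_of_mem π hu)
    exact ⟨v, hmeq (by rw [hπe, hv])⟩
  -- the relations
  have N : Natural (π g) (π y) a b c := ⟨tr, hker, hg, hy⟩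
  obtain ⟨wx, wz, wr⟩ := map_words π g y
  have hx : ActsAs (π (xW g y)) a b c xV := wx ▸ N.xact
  have hkk : ActsAs (kW (π g) (π y)) a b c kV := ((((hg.mul hy).mul hy).mul hy).mul hg).mul hy
  have hz : ActsAs (π (zW g y)) a b c zV := wz ▸ (hkk.mul N.gg).mul (hkk.inv (N := kVi) kV_inv)
  have hne : ∀ {h : G} {M : V3 → V3}, ActsAs (π h) a b c M → (∃ v, M v ≠ v) → h ∉ Q := by
    rintro h M hM ⟨v, hv⟩ hq
    exact hv (hinj ((hM v).symm.trans (outQ h hq v)))
  have g4 : g ^ 4 ∈ Q := inQ _ (by rw [map_pow]; exact (hg.pow 4).congr fun v => (words_id v).2.2.2.1)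
  have gg : g * g ∉ Q := hne (by rw [map_mul]; exact N.gg) (by decide)
  refine ⟨g, y, e, ⟨h4, hQ, ?_, g4, hy7, ?_, gg, hne hx (by decide), ?_, ?_, ?_⟩, F⟩
  · intro H hQH hgH hyH
    set m := QuotientGroup.mk' Q
    set H' := H.map m
    have hone : ∀ u : G, m u = 1 ↔ u ∈ Q := fun u => QuotientGroup.eq_one_iff u
    haveI : Fact (Nat.Prime 2) := ⟨Nat.prime_two⟩
    haveI : Fact (Nat.Prime 7) := ⟨by norm_num⟩
    have o4 : orderOf (m g) = 2 ^ 2 := orderOf_eq_prime_pow
      (by rw [pow_one, ← map_pow, hone, pow_two]; exact gg) (by rw [← map_pow, hone]; exact g4)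
    have o7 : orderOf (m y) = 7 := orderOf_eq_prime (by rw [← map_pow, hy7, map_one])
      (fun h => hne hy (by decide) ((hone y).1 h))
    have d4 : 4 ∣ Nat.card H' := by
      have := Subgroup.orderOf_dvd_natCard H' (mem_map_of_mem m hgH)
      rw [o4] at this; exact this
    have d7 : 7 ∣ Nat.card H' := by
      have := Subgroup.orderOf_dvd_natCard H' (mem_map_of_mem m hyH)
      rwa [o7] at this
    have hmul := H'.card_mul_index
    rw [h168] at hmul
    have hidx : H'.index ∣ 6 := by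
      obtain ⟨t, ht⟩ := Nat.Coprime.mul_dvd_of_dvd_of_dvd (by norm_num : Nat.Coprime 4 7) d4 d7
      refine ⟨t, ?_⟩
      rw [ht] at hmul
      nlinarith [hmul]
    have htop : H' = ⊤ := by
      by_contra hne'
      have hcore : H'.normalCore = ⊥ := (IsSimpleGroup.eq_bot_or_eq_top_of_normal _ inferInstance).resolve_right
        fun h => hne' (top_le_iff.1 (h ▸ normalCore_le H'))
      have hinjP : Function.Injective (MulAction.toPermHom (G ⧸ Q) ((G ⧸ Q) ⧸ H')) := by
        rw [← MonoidHom.ker_eq_bot_iff, ← normalCore_eq_ker, hcore]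
      have hd := Subgroup.card_dvd_of_injective _ hinjP
      rw [h168, Nat.card_perm, show Nat.card ((G ⧸ Q) ⧸ H') = H'.index from rfl] at hd
      have hle := Nat.le_of_dvd (by norm_num) hidx
      have hpos : H'.index ≠ 0 := index_ne_zero_of_finite
      interval_cases hi : H'.index <;> revert hd <;> decide
    refine eq_top_iff.2 fun u _ => ?_
    obtain ⟨h, hh, heu⟩ : m u ∈ H' := htop ▸ mem_top _
    have : h⁻¹ * u ∈ Q := QuotientGroup.eq.1 heu
    simpa using mul_mem hh (hQH this)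
  · refine inQ _ ?_
    rw [wr]
    exact (((((((((hg.mul hg).mul hg).mul hy).mul hy).mul hg).mul hy).mul hg).mul hy).mul hy).congr
      fun v => (words_id v).2.2.1
  · exact hne (M := (gV ∘ gV) ∘ xV) (by rw [map_mul, map_mul]; exact N.gg.mul hx) (by decide)
  · refine inQ _ ?_
    rw [map_mul, map_mul, map_mul, map_inv]
    exact (((hx.mul hg).mul (hx.inv (N := xV) fun v => (words_id v).2.2.2.2.2)).mul hg).congr
      fun v => (words_id v).1
  · refine inQ _ ?_
    rw [map_mul, map_mul, map_inv]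
    exact ((hx.mul hz).mul (hg.inv (N := fun v => gV^[3] v) fun v => (words_id v).2.2.2.2.1)).congr
      fun v => (words_id v).2.1

end

end Cfsg.Agent.L32Radical
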