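import Cfsg.Agent.Lib.L32Radical.Det

/-!
# No homocyclic `4³` under `L₃(2)`

`false_of_homocyclic`: a normal `(ℤ/4)³` whose squares form a natural module gives a section of order 32.
-/

set_option autoImplicit false

namespace Cfsg.Agent.L32Radical

open Subgroup
open RankFourRadical (Sect4)

section

variable {G : Type*} [Group G]

/-- Coordinates in the basis generated from `a` by `g`. -/
def co (a g : G) : V4 → G := coord a (g * a * g⁻¹) (g * (g * a * g⁻¹) * g⁻¹)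

theorem pow_red {x : G} (hx : x ^ 4 = 1) (i : ZMod 4) :
    x ^ i.val * x ^ i.val = (x * x) ^ ((i.val : ZMod 2)).val := by
  rw [← pow_add, ← pow_two x, ← pow_mul, pow_eq_pow_mod _ hx, pow_eq_pow_mod (2 * _) hx]
  congr 1
  revert i; decide

/-- A normal `(ℤ/4)³` with natural squares. -/
structure Homo (A : Subgroup G) (g y a : G) : Prop where
  normal : A.Normal
  comm : ∀ u ∈ A, ∀ v ∈ A, u * v = v * u
  exp : ∀ u ∈ A, u ^ 4 = 1
  card : Nat.card A = 64
  mem : a ∈ A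
  nat : Natural g y (a * a) (g * (a * a) * g⁻¹) (g * (g * (a * a) * g⁻¹) * g⁻¹)

/-- The facts about one choice of basis. -/
structure Frame (A : Subgroup G) (g y a g' : G) : Prop where
  tr : Triple 4 a (g' * a * g'⁻¹) (g' * (g' * a * g'⁻¹) * g'⁻¹)
  mem : ∀ u, co a g' u ∈ A
  inj : Function.Injective (co a g')
  surj : ∀ v ∈ A, ∃ u, co a g' u = v
  sq : ∀ u, co a g' u * co a g' u =
    coord (a * a) (g * (a * a) * g⁻¹) (g * (g * (a * a) * g⁻¹) * g⁻¹) (red u)

variable [Finite G] {A : Subgroup G} {g y a : G} (H : Homo A g y a)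
include H

theorem Homo.frame {g' : G} (hg : ∀ v ∈ A, g⁻¹ * g' * (v * v) * (g⁻¹ * g')⁻¹ = v * v) :
    Frame A g y a g' := by
  haveI := H.normal
  set b := g' * a * g'⁻¹ with hb
  set c := g' * b * g'⁻¹ with hc
  have hbA : b ∈ A := H.normal.conj_mem a H.mem g'
  have hcA : c ∈ A := H.normal.conj_mem b hbA g'
  have tr : Triple 4 a b c := ⟨H.comm a H.mem b hbA, H.comm a H.mem c hcA, H.comm b hbA c hcA,
    H.exp a H.mem, H.exp b hbA, H.exp c hcA⟩
  have hconj : ∀ v ∈ A, g' * (v * v) * g'⁻¹ = g * (v * v) * g⁻¹ := fun v hv => by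
    conv_rhs => rw [← hg v hv]
    group
  have hb2 : b * b = g * (a * a) * g⁻¹ := by rw [← hconj a H.mem, hb]; group
  have hc2 : c * c = g * (g * (a * a) * g⁻¹) * g⁻¹ := by
    rw [← hb2, ← hconj b hbA, hc]; group
  have sq : ∀ u, co a g' u * co a g' u =
      coord (a * a) (g * (a * a) * g⁻¹) (g * (g * (a * a) * g⁻¹) * g⁻¹) (red u) := fun u => by
    rw [← hc2, ← hb2]
    show coord a b c u * coord a b c u = coord (a * a) (b * b) (c * c) (red u)
    simp only [coord, red, ← pow_red tr.pa, ← pow_red tr.pb, ← pow_red tr.pc]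
    set A' := a ^ u.1.val
    set B' := b ^ u.2.1.val
    set C' := c ^ u.2.2.val
    have e1 : Commute B' A' := tr.ab.symm.pow_pow _ _
    have e2 : Commute C' A' := tr.ac.symm.pow_pow _ _
    have e3 : Commute C' B' := tr.bc.symm.pow_pow _ _
    calc A' * B' * C' * (A' * B' * C') = A' * B' * (C' * A') * B' * C' := by group
      _ = A' * B' * (A' * C') * B' * C' := by rw [e2.eq]
      _ = A' * (B' * A') * (C' * B') * C' := by group
      _ = _ := by rw [e1.eq, e3.eq]; group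
  have mem : ∀ u, co a g' u ∈ A := fun u =>
    mul_mem (mul_mem (pow_mem H.mem _) (pow_mem hbA _)) (pow_mem hcA _)
  have inj : Function.Injective (co a g') := fun u v e => by
    have h : co a g' (u + -v) = 1 := by
      show coord a b c (u + -v) = 1
      rw [tr.add, tr.neg]
      exact mul_inv_eq_one.2 e
    obtain ⟨w, hw⟩ := red_eq_zero _ (H.nat.inj _ (by rw [← sq, h, one_mul]))
    have h2 : co a g' w * co a g' w = 1 := by rw [← h, hw]; exact (tr.add w w).symm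
    have h3 := (red_double w).1 (H.nat.inj _ (by rw [← sq]; exact h2))
    rwa [← hw, ← sub_eq_add_neg, sub_eq_zero] at h3
  refine ⟨tr, mem, inj, fun v hv => ?_, sq⟩
  have hbij : Function.Bijective (fun u => (⟨co a g' u, mem u⟩ : A)) :=
    (Nat.bijective_iff_injective_and_card _).2 ⟨fun u v e => inj (congrArg Subtype.val e), by
      rw [H.card, Nat.card_eq_fintype_card]; rfl⟩
  obtain ⟨u, hu⟩ := hbij.2 ⟨v, hv⟩
  exact ⟨u, congrArg Subtype.val hu⟩

theorem Frame.action {g' : G} (F : Frame A g y a g') (h : G) :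
    ∃ f : V4 → V4, (∀ u, co a g' (f u) = h * co a g' u * h⁻¹) ∧ ∀ u v, f (u + v) = f u + f v := by
  choose f hf using fun u => F.surj _ (H.normal.conj_mem _ (F.mem u) h)
  refine ⟨f, hf, fun u v => F.inj ?_⟩
  show co a g' (f (u + v)) = coord _ _ _ (f u + f v)
  rw [F.tr.add]
  show co a g' (f (u + v)) = co a g' (f u) * co a g' (f v)
  rw [hf, hf, hf]
  show h * coord _ _ _ (u + v) * h⁻¹ = _
  rw [F.tr.add]
  show h * (co a g' u * co a g' v) * h⁻¹ = _
  group

end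

section

variable {G : Type*} [Group G] [Finite G] {Q A : Subgroup G} {g y a : G}

/-- The final computation in the basis of a well-chosen lift. -/
theorem false_of_frame (h4 : Sect4 G) (H : Homo A g y a) (hAQ : A ≤ Q) {g' x : G}
    (F : Frame A g y a g') (hM : ActsAs g' a (g' * a * g'⁻¹) (g' * (g' * a * g'⁻¹) * g'⁻¹) M4)
    {k : ZMod 4} (hk : g' ^ 4 = co a g' (k, 0, k)) (hx : x * x = 1) (hxg : x * g' * x⁻¹ = g'⁻¹)
    (hxV : ∀ v : V3, x * coord (a * a) (g * (a * a) * g⁻¹) (g * (g * (a * a) * g⁻¹) * g⁻¹) v * x⁻¹ =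
      coord (a * a) (g * (a * a) * g⁻¹) (g * (g * (a * a) * g⁻¹) * g⁻¹) (xV v))
    {X : V4 → V4} (hX : ∀ u, co a g' (X u) = x * co a g' u * x⁻¹)
    (hXd : det4 (X (1, 0, 0)) (X (0, 1, 0)) (X (0, 0, 1)) = 1)
    (hgQ : g' * g' ∉ Q) (hxQ : x ∉ Q) (hgxQ : g' * g' * x ∉ Q) [Q.Normal] : False := by
  have hadd : ∀ u v, co a g' (u + v) = co a g' u * co a g' v := F.tr.add
  have hneg : ∀ u, co a g' (-u) = (co a g' u)⁻¹ := F.tr.neg
  have hXadd : ∀ u v, X (u + v) = X u + X v := fun u v => F.inj (by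
    rw [hX, hadd, hadd, hX, hX]; group)
  have hMa : ∀ u, g' * co a g' u * g'⁻¹ = co a g' (M4 u) := hM
  have hMi : ∀ u, g'⁻¹ * co a g' u * g'⁻¹⁻¹ = co a g' (M4^[3] u) := by
    refine hM.inv ?_
    intro u
    have : ∀ p : ZMod 4 × ZMod 4 × ZMod 4, M4 (M4^[3] p) = p := by decide +kernel
    exact this u
  -- `X` is determined by its first value
  set v := X (1, 0, 0) with hv
  have hXg : ∀ u, X (M4 u) = M4^[3] (X u) := fun u => F.inj (by
    rw [hX, ← hMa, ← hMi, hX]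
    calc x * (g' * co a g' u * g'⁻¹) * x⁻¹ = (x * g' * x⁻¹) * (x * co a g' u * x⁻¹) * (x * g' * x⁻¹)⁻¹ := by group
      _ = _ := by rw [hxg])
  have h2 : X (0, 1, 0) = M4^[3] v := by
    rw [hv, ← hXg]; congr 1
  have h3 : X (0, 0, 1) = M4^[3] (M4^[3] v) := by
    rw [← h2, ← hXg]; congr 1
  have hXlin : ∀ u, X u = lin4 v (M4^[3] v) (M4^[3] (M4^[3] v)) u := fun u => by
    rw [lin4_eq X hXadd u, h2, h3]
  have hXX : ∀ u, X (X u) = u := fun u => F.inj (by
    rw [hX, hX]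
    calc x * (x * co a g' u * x⁻¹) * x⁻¹ = (x * x) * co a g' u * (x * x)⁻¹ := by group
      _ = _ := by rw [hx]; group)
  have hXred : red v = xV (1, 0, 0) := by
    refine H.nat.injective ?_
    rw [← F.sq, ← hxV, hX, show ((1, 0, 0) : V3) = red (1, 0, 0) from rfl, ← F.sq]
    group
  have key : ∀ v : V4, red v = xV (1, 0, 0) →
      det4 v (M4^[3] v) (M4^[3] (M4^[3] v)) = 1 →
      lin4 v (M4^[3] v) (M4^[3] (M4^[3] v)) v = (1, 0, 0) → v = (0, 0, 3) ∨ v = (2, 0, 1) := by decide +kernel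
  have hvv := key v hXred (by rw [h2, h3] at hXd; exact hXd) (by rw [← hXlin, hv, hXX])
  -- the auxiliary element
  have key2 : ∀ v : V4, v = (0, 0, 3) ∨ v = (2, 0, 1) → ∀ k : ZMod 4, ∃ a₀ : V4,
      ((k, 0, k) : V4) + M4 (M4 a₀) + a₀ = 0 ∧
      (lin4 v (M4^[3] v) (M4^[3] (M4^[3] v)) a₀ - a₀ - (k, 0, k) = 0 ∨
        lin4 v (M4^[3] v) (M4^[3] (M4^[3] v)) a₀ - a₀ - (k, 0, k) = (2, 0, 2)) := by
    rintro v (rfl | rfl) <;> decide +kernel
  obtain ⟨a₀, ha0, ha1⟩ := key2 v hvv k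
  rw [← hXlin] at ha1
  set E : Set V4 := {u | red u = 0 ∨ red u = (1, 0, 1)}
  have key3 : ∀ v : V4, v = (0, 0, 3) ∨ v = (2, 0, 1) → ∀ u : V4, red u = 0 ∨ red u = (1, 0, 1) →
      (lin4 v (M4^[3] v) (M4^[3] (M4^[3] v)) u - u = 0 ∨ lin4 v (M4^[3] v) (M4^[3] (M4^[3] v)) u - u = (2, 0, 2)) ∧
      (M4 (M4 u) - u = 0 ∨ M4 (M4 u) - u = (2, 0, 2)) ∧ (u + u = 0 ∨ u + u = (2, 0, 2)) := by
    rintro v (rfl | rfl) <;> decide +kernel
  let EG : Subgroup G :=
    { carrier := {e | ∃ u ∈ E, co a g' u = e}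
      one_mem' := ⟨0, Or.inl rfl, coord_zero _ _ _⟩
      mul_mem' := by
        rintro _ _ ⟨u, hu, rfl⟩ ⟨w, hw, rfl⟩
        refine ⟨u + w, ?_, hadd u w⟩
        show red (u + w) = 0 ∨ red (u + w) = (1, 0, 1)
        rw [red_add]
        rcases hu with hu | hu <;> rcases hw with hw | hw <;> rw [hu, hw] <;> decide
      inv_mem' := by
        rintro _ ⟨u, hu, rfl⟩
        refine ⟨-u, ?_, hneg u⟩
        have : red (-u) = red u := by
          have h := red_add (-u) u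
          rw [neg_add_cancel] at h
          exact v3_eq_of_add _ _ h.symm
        show red (-u) = 0 ∨ red (-u) = (1, 0, 1)
        rw [this]; exact hu }
  let RG : Subgroup G :=
    { carrier := {e | e = 1 ∨ e = co a g' (2, 0, 2)}
      one_mem' := Or.inl rfl
      mul_mem' := by
        rintro _ _ (rfl | rfl) (rfl | rfl)
        · exact Or.inl (one_mul 1)
        · exact Or.inr (one_mul _)
        · exact Or.inr (mul_one _)
        · exact Or.inl (by rw [← hadd]; exact coord_zero _ _ _)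
      inv_mem' := by
        rintro _ (rfl | rfl)
        · exact Or.inl inv_one
        · exact Or.inr (by rw [← hneg]; rfl) }
  have hR : ∀ u : V4, (u = 0 ∨ u = (2, 0, 2)) → co a g' u ∈ RG := by
    rintro u (rfl | rfl)
    · exact Or.inl (coord_zero _ _ _)
    · exact Or.inr rfl
  have hg4 : g' ^ 4 = co a g' (k, 0, k) := hk
  have hMM : ∀ u, g' * g' * co a g' u * (g' * g')⁻¹ = co a g' (M4 (M4 u)) := fun u => hM.mul hM u
  set n₁ := g' * g' * co a g' a₀
  have hn1 : n₁ * n₁ = 1 := by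
    calc n₁ * n₁ = (g' * g' * co a g' a₀ * (g' * g')⁻¹) * g' ^ 4 * co a g' a₀ := by
          rw [show g' ^ 4 = g' * g' * (g' * g') by simp [pow_succ, mul_assoc]]; simp [n₁, mul_assoc]
      _ = co a g' (M4 (M4 a₀) + (k, 0, k) + a₀) := by rw [hMM, hg4, ← hadd, ← hadd]
      _ = 1 := by rw [add_comm (M4 (M4 a₀)), ha0]; exact coord_zero _ _ _
  have h12 : n₁ * x * (n₁ * x) = co a g' (X a₀ - a₀ - (k, 0, k)) := by
    have e : x * (g' * g') * x⁻¹ = (g' * g')⁻¹ := by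
      calc x * (g' * g') * x⁻¹ = (x * g' * x⁻¹) * (x * g' * x⁻¹) := by group
        _ = _ := by rw [hxg]; group
    calc n₁ * x * (n₁ * x) = n₁ * ((x * (g' * g') * x⁻¹) * (x * co a g' a₀ * x⁻¹)) * (x * x) := by
          simp only [n₁]; group
      _ = (g' * g' * co a g' a₀ * (g' * g')⁻¹) * co a g' (X a₀) := by
          rw [e, hx, hX, mul_one]; simp only [n₁]; group
      _ = co a g' (M4 (M4 a₀) + X a₀) := by rw [hMM, ← hadd]
      _ = _ := by
          congr 1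
          have : M4 (M4 a₀) = -a₀ - (k, 0, k) := by
            rw [eq_sub_iff_add_eq, eq_neg_iff_add_eq_zero, add_comm (M4 (M4 a₀))]; exact ha0
          rw [this]; abel
  have hEQ : EG ≤ Q := by rintro _ ⟨u, -, rfl⟩; exact hAQ (F.mem u)
  refine false_of_pair h4 (E := EG) (R := RG) ?_ ?_ ?_ ?_ (n₁ := n₁) (n₂ := x) ?_ ?_ ?_ ?_ ?_ ?_ ?_ ?_
  · rintro _ (rfl | rfl)
    · exact one_mem _
    · exact ⟨(2, 0, 2), Or.inl (by decide), rfl⟩
  · have hE : Nat.card EG = 16 := by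
      have e : {u : V4 // red u = 0 ∨ red u = (1, 0, 1)} ≃ EG :=
        Equiv.ofBijective (fun u => ⟨co a g' u.1, u.1, u.2, rfl⟩)
          ⟨fun u w h => Subtype.ext (F.inj (congrArg Subtype.val h)), fun e => by
            obtain ⟨u, hu, he⟩ := e.2
            exact ⟨⟨u, hu⟩, Subtype.ext he⟩⟩
      rw [← Nat.card_congr e, Nat.card_eq_fintype_card]
      decide
    have hRc : Nat.card RG ≤ 2 := by
      refine (Nat.card_le_card_of_surjective (α := Bool) (β := RG)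
        (fun b => if b then ⟨_, Or.inr rfl⟩ else ⟨_, Or.inl rfl⟩) fun e => ?_).trans (by simp)
      rcases e.2 with h | h
      · exact ⟨false, Subtype.ext h.symm⟩
      · exact ⟨true, Subtype.ext h.symm⟩
    omega
  · rintro e ⟨u, -, rfl⟩ r hr
    have hrA : r ∈ A := by
      rcases hr with rfl | rfl
      exacts [one_mem _, F.mem _]
    rw [H.comm _ (F.mem u) r hrA, mul_inv_cancel_right]; exact hr
  · rintro e ⟨u, hu, rfl⟩
    rw [← hadd]; exact hR _ (key3 v hvv u hu).2.2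
  · exact Or.inl hn1
  · exact Or.inl hx
  · rw [h12]; exact hR _ ha1
  · rintro e ⟨u, hu, rfl⟩
    have : n₁ * co a g' u * n₁⁻¹ = co a g' (M4 (M4 u)) := by
      calc n₁ * co a g' u * n₁⁻¹ = g' * g' * (co a g' a₀ * co a g' u * (co a g' a₀)⁻¹) * (g' * g')⁻¹ := by
            simp only [n₁]; group
        _ = _ := by rw [H.comm _ (F.mem _) _ (F.mem u), mul_inv_cancel_right, hMM]
    rw [this, ← hneg, ← hadd, ← sub_eq_add_neg]
    exact hR _ (key3 v hvv u hu).2.1
  · rintro e ⟨u, hu, rfl⟩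
    rw [← hX, ← hneg, ← hadd, ← sub_eq_add_neg, hXlin]
    exact hR _ (key3 v hvv u hu).1
  · exact fun h => hgQ (by simpa [n₁] using mul_mem (hEQ h) (inv_mem (hAQ (F.mem a₀))))
  · exact fun h => hxQ (hEQ h)
  · intro h
    refine hgxQ ?_
    have hh := hEQ h
    have : g' * g' * x = n₁ * x * (x⁻¹ * (co a g' a₀)⁻¹ * x) := by simp only [n₁]; group
    rw [this]
    refine mul_mem hh ?_
    have := (inferInstance : Q.Normal).conj_mem _ (inv_mem (hAQ (F.mem a₀))) x⁻¹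
    rwa [inv_inv] at this

end

end Cfsg.Agent.L32Radical

namespace Cfsg.Agent.L32Radical

open Subgroup

section

variable {G : Type*} [Group G] [Finite G] {Q A : Subgroup G} {g y a : G}

/-- The determinant homomorphism of a frame. -/
theorem exists_det (H : Homo A g y a) {g' : G} (F : Frame A g y a g') : ∃ D : G →* ZMod 4,
    (∀ (h : G) (f : V4 → V4), (∀ u, co a g' (f u) = h * co a g' u * h⁻¹) →
      D h = det4 (f (1, 0, 0)) (f (0, 1, 0)) (f (0, 0, 1))) ∧
    (∀ h : G, (∀ v ∈ A, h * v * h⁻¹ = v) → D h = 1) ∧ (∀ h : G, (∀ v ∈ A, h * v * h⁻¹ = v⁻¹) → D h = 3) := by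
  choose f hf hadd using fun h => F.action H h
  have key : ∀ (h : G) (f' : V4 → V4), (∀ u, co a g' (f' u) = h * co a g' u * h⁻¹) → ∀ u, f h u = f' u :=
    fun h f' hf' u => F.inj (by rw [hf, hf'])
  have hneg : ∀ u, co a g' (-u) = (co a g' u)⁻¹ := F.tr.neg
  let D : G →* ZMod 4 :=
    { toFun := fun h => det4 (f h (1, 0, 0)) (f h (0, 1, 0)) (f h (0, 0, 1))
      map_one' := by rw [key 1 id (by simp), key 1 id (by simp), key 1 id (by simp)]; decide
      map_mul' := fun h k => by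
        have hc : ∀ u, f (h * k) u = f h (f k u) := fun u => F.inj (by rw [hf, hf, hf]; group)
        simp only [hc]
        rw [lin4_eq (f h) (hadd h) (f k (1, 0, 0)), lin4_eq (f h) (hadd h) (f k (0, 1, 0)),
          lin4_eq (f h) (hadd h) (f k (0, 0, 1)), det4_lin] }
  refine ⟨D, fun h f' hf' => ?_, fun h hh => ?_, fun h hh => ?_⟩
  · show det4 _ _ _ = _
    rw [key h f' hf', key h f' hf', key h f' hf']
  · show det4 _ _ _ = _
    have e : ∀ u, f h u = u := key h id fun u => (hh _ (F.mem u)).symm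
    rw [e, e, e]; decide
  · show det4 _ _ _ = _
    have e : ∀ u, f h u = -u := key h _ fun u => by rw [hneg, hh _ (F.mem u)]
    rw [e, e, e]; decide

theorem Natural.rot {g y a b c : G} (N : Natural g y a b c) :
    g * coord a b c ((0, 0, 1) : V3) * g⁻¹ = coord a b c (gV (0, 0, 1)) := N.gact _

/-- A normal `(ℤ/4)³` with natural squares, centralised or inverted by `Q`, is impossible. -/
theorem false_of_homocyclic [Q.Normal] (S : Setting Q g y) (H : Homo A g y a) (hAQ : A ≤ Q)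
    (hQ : ∀ q ∈ Q, (∀ v ∈ A, q * v * q⁻¹ = v) ∨ (∀ v ∈ A, q * v * q⁻¹ = v⁻¹))
    (HA : ∀ g', g⁻¹ * g' ∈ Q → ActsAs g' a (g' * a * g'⁻¹) (g' * (g' * a * g'⁻¹) * g'⁻¹) M4 →
      (∀ v ∈ A, g' ^ 4 * v * (g' ^ 4)⁻¹ = v) →
      (∀ v ∈ A, rW g' y * v * (rW g' y)⁻¹ = v) → g' ^ 4 ∈ A) : False := by
  set m := QuotientGroup.mk' Q
  have hmem : ∀ t, t ∈ Q ↔ m t = 1 := fun t => (QuotientGroup.eq_one_iff t).symm
  have hmeq : ∀ {t t' : G}, t⁻¹ * t' ∈ Q ↔ m t = m t' := fun {t t'} => QuotientGroup.eq.symm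
  have hU : ∀ q ∈ Q, ∀ v ∈ A, q * (v * v) * q⁻¹ = v * v := fun q hq v hv => by
    rcases hQ q hq with h | h
    · exact h _ (mul_mem hv hv)
    · rw [h _ (mul_mem hv hv)]
      exact inv_eq_of_mul_eq_one_right (by rw [← H.exp v hv]; simp [pow_succ, mul_assoc])
  have hF : ∀ g', g⁻¹ * g' ∈ Q → Frame A g y a g' := fun g' hg => H.frame (hU _ hg)
  have hr : ∀ g', g⁻¹ * g' ∈ Q → rW g' y ∈ Q := fun g' hg => by
    rw [hmem, (map_words m g' y).2.2, ← hmeq.1 hg, ← (map_words m g y).2.2, ← hmem]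
    exact S.rel
  have h5 : ∀ u : ZMod 4, u ^ 5 = 1 → u = 1 := by decide
  have h7 : ∀ u : ZMod 4, u ^ 7 = 1 → u = 1 := by decide
  have hDr : ∀ (D : G →* ZMod 4) (t : G), D (rW t y) = D t ^ 5 := fun D t => by
    have hy : D y = 1 := h7 _ (by rw [← map_pow, S.y7, map_one])
    simp only [rW, map_mul, hy, mul_one]; ring
  -- lifts of determinant one
  have good : ∀ g' (hg : g⁻¹ * g' ∈ Q) (D : G →* ZMod 4), (∀ (h : G) (f : V4 → V4),
        (∀ u, co a g' (f u) = h * co a g' u * h⁻¹) → D h = det4 (f (1, 0, 0)) (f (0, 1, 0)) (f (0, 0, 1))) →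
      (∀ h : G, (∀ v ∈ A, h * v * h⁻¹ = v⁻¹) → D h = 3) → D g' = 1 →
      ActsAs g' a (g' * a * g'⁻¹) (g' * (g' * a * g'⁻¹) * g'⁻¹) M4 ∧ ∃ k : ZMod 4, g' ^ 4 = co a g' (k, 0, k) := by
    intro g' hg D hD hD3 h1
    have F := hF g' hg
    obtain ⟨f, hf, hadd⟩ := F.action H g'
    obtain ⟨e1, e2, e3⟩ : co a g' (1, 0, 0) = a ∧ co a g' (0, 1, 0) = g' * a * g'⁻¹ ∧
        co a g' (0, 0, 1) = g' * (g' * a * g'⁻¹) * g'⁻¹ := by
      refine ⟨?_, ?_, ?_⟩ <;> simp [co, coord, show (1 : ZMod 4).val = 1 from rfl]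
    have f1 : f (1, 0, 0) = (0, 1, 0) := F.inj (by rw [hf, e1, e2])
    have f2 : f (0, 1, 0) = (0, 0, 1) := F.inj (by rw [hf, e2, e3])
    set r := f (0, 0, 1) with hrdef
    have hred : red r = (1, 1, 1) := by
      refine H.nat.injective ?_
      rw [← F.sq, hrdef, hf]
      calc g' * co a g' (0, 0, 1) * g'⁻¹ * (g' * co a g' (0, 0, 1) * g'⁻¹)
          = g * (g⁻¹ * g' * (co a g' (0, 0, 1) * co a g' (0, 0, 1)) * (g⁻¹ * g')⁻¹) * g⁻¹ := by group
        _ = _ := by rw [hU _ hg _ (F.mem _), F.sq]; exact H.nat.rot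
    have hfe : ∀ u, f u = comp4 r u := fun u => by rw [lin4_eq f hadd u, f1, f2]; rfl
    have hM : ActsAs g' a (g' * a * g'⁻¹) (g' * (g' * a * g'⁻¹) * g'⁻¹) (comp4 r) := fun u => by
      show g' * co a g' u * g'⁻¹ = co a g' (comp4 r u)
      rw [← hfe, hf]
    have hr1 : r.1 = 1 := by
      have h := hD g' f hf
      rw [f1, f2, h1] at h
      rw [h]; simp [det4, hrdef]
    have hg4 : g' ^ 4 ∈ Q := by
      rw [hmem, map_pow, ← hmeq.1 hg, ← map_pow, ← hmem]; exact S.g4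
    have hact : (∀ u, (comp4 r)^[4] u = u) ∨ (∀ u, (comp4 r)^[4] u = -u) := by
      rcases hQ _ hg4 with h | h
      · exact Or.inl fun u => F.inj ((hM.pow 4 u).symm.trans (h _ (F.mem u)))
      · exact Or.inr fun u => F.inj ((hM.pow 4 u).symm.trans ((h _ (F.mem u)).trans (F.tr.neg u).symm))
    have key : ∀ r : V4, red r = (1, 1, 1) → r.1 = 1 →
        ((comp4 r)^[4] (1, 0, 0) = (1, 0, 0) ∨ (comp4 r)^[4] (1, 0, 0) = -(1, 0, 0)) → r = (1, 3, 1) := by
      decide +kernel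
    have hr' := key r hred hr1 (hact.imp (fun h => h _) (fun h => h _))
    have hM' : ActsAs g' a (g' * a * g'⁻¹) (g' * (g' * a * g'⁻¹) * g'⁻¹) M4 := fun u => by
      rw [hM u, hr']; rfl
    refine ⟨hM', ?_⟩
    have hM1 : ∀ u : V4, M4^[4] u = u := by decide +kernel
    have hcent : ∀ v ∈ A, g' ^ 4 * v * (g' ^ 4)⁻¹ = v := fun v hv => by
      obtain ⟨u, rfl⟩ := F.surj v hv
      exact (hM'.pow 4 u).trans (congrArg (co a g') (hM1 u))
    have hrc : ∀ v ∈ A, rW g' y * v * (rW g' y)⁻¹ = v := by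
      rcases hQ _ (hr g' hg) with h | h
      · exact h
      · have h3 := hD3 _ h
        rw [hDr, h1, one_pow] at h3
        exact absurd h3 (by decide)
    obtain ⟨u, hu⟩ := F.surj _ (HA g' hg hM' hcent hrc)
    have hfix : M4 u = u := F.inj (by
      rw [show co a g' (M4 u) = g' * co a g' u * g'⁻¹ from (hM' u).symm, hu]; group)
    have key2 : ∀ u : V4, M4 u = u → u = (u.1, 0, u.1) := by decide +kernel
    exact ⟨u.1, by rw [← hu, ← key2 u hfix]⟩
  -- a first lift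
  obtain ⟨g₀, hg₀, k₀, hk₀, hM₀⟩ : ∃ g', g⁻¹ * g' ∈ Q ∧ ∃ k : ZMod 4, g' ^ 4 = co a g' (k, 0, k) ∧
      ActsAs g' a (g' * a * g'⁻¹) (g' * (g' * a * g'⁻¹) * g'⁻¹) M4 := by
    rcases hQ _ S.rel with h | h
    · have hg : g⁻¹ * g ∈ Q := by rw [inv_mul_cancel]; exact one_mem _
      obtain ⟨D, hD, hD1, hD3⟩ := exists_det H (hF g hg)
      obtain ⟨hM, k, hk⟩ := good g hg D hD hD3 (h5 _ (by rw [← hDr, hD1 _ h]))
      exact ⟨g, hg, k, hk, hM⟩
    · have hg : g⁻¹ * (g * rW g y) ∈ Q := by rw [inv_mul_cancel_left]; exact S.rel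
      obtain ⟨D, hD, hD1, hD3⟩ := exists_det H (hF _ hg)
      obtain ⟨hM, k, hk⟩ := good _ hg D hD hD3 (by
        rw [map_mul, hD3 _ h]
        have : ∀ u : ZMod 4, u ^ 5 = 3 → u * 3 = 1 := by decide
        exact this _ (by rw [← hDr, hD3 _ h]))
      exact ⟨_, hg, k, hk, hM⟩
  set n := g₀ * g₀ * co a g₀ (-k₀, 0, 0) with hn
  have hnn : n * n = 1 := by
    have F := hF g₀ hg₀
    have hMM : ∀ u, g₀ * g₀ * co a g₀ u * (g₀ * g₀)⁻¹ = co a g₀ (M4 (M4 u)) := fun u => hM₀.mul hM₀ u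
    have hadd : ∀ u v, co a g₀ (u + v) = co a g₀ u * co a g₀ v := F.tr.add
    calc n * n = (g₀ * g₀ * co a g₀ (-k₀, 0, 0) * (g₀ * g₀)⁻¹) * g₀ ^ 4 * co a g₀ (-k₀, 0, 0) := by
          rw [show g₀ ^ 4 = g₀ * g₀ * (g₀ * g₀) by simp [pow_succ, mul_assoc], hn]; simp [mul_assoc]
      _ = co a g₀ (M4 (M4 (-k₀, 0, 0)) + (k₀, 0, k₀) + (-k₀, 0, 0)) := by rw [hMM, hk₀, ← hadd, ← hadd]
      _ = 1 := by
        have : ∀ k : ZMod 4, M4 (M4 (-k, 0, 0)) + (k, 0, k) + (-k, 0, 0) = 0 := by decide +kernel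
        rw [this]; exact coord_zero _ _ _
  have hmn : m n = m (g * g) := by
    rw [hn, map_mul, map_mul, ← hmeq.1 hg₀, ← map_mul,
      (hmem _).1 (hAQ ((hF g₀ hg₀).mem _)), mul_one]
  set x := hW g y * n * (hW g y)⁻¹ with hxdef
  set z := kW g y * n * (kW g y)⁻¹ with hzdef
  have hx : x * x = 1 := by
    calc x * x = hW g y * (n * n) * (hW g y)⁻¹ := by rw [hxdef]; group
      _ = 1 := by rw [hnn]; group
  have hz : z * z = 1 := by
    calc z * z = kW g y * (n * n) * (kW g y)⁻¹ := by rw [hzdef]; group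
      _ = 1 := by rw [hnn]; group
  have hmx : m x = m (xW g y) := by simp only [hxdef, xW, map_mul, hmn, map_inv]
  have hmz : m z = m (zW g y) := by simp only [hzdef, zW, map_mul, hmn, map_inv]
  set g' := x * z with hg'
  have hgg' : g⁻¹ * g' ∈ Q := by
    have h := (hmem _).1 S.xz
    rw [map_mul, map_mul, map_inv, mul_inv_eq_one] at h
    rw [hmeq, hg', map_mul, hmx, hmz, h]
  have hxg : x * g' * x⁻¹ = g'⁻¹ := by
    have key : ∀ p q : G, p * p = 1 → q * q = 1 → p * (p * q) * p⁻¹ = (p * q)⁻¹ := fun p q hp hq => by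
      rw [mul_inv_rev, inv_eq_of_mul_eq_one_right hp, inv_eq_of_mul_eq_one_right hq, ← mul_assoc, hp, one_mul]
    exact key x z hx hz
  have F := hF g' hgg'
  obtain ⟨D, hD, hD1, hD3⟩ := exists_det H F
  have hsq1 : ∀ h : G, D h * D h = 1 := fun h => by
    have : ∀ u v : ZMod 4, u * v = 1 → u * u = 1 := by decide
    exact this _ (D h⁻¹) (by rw [← map_mul, mul_inv_cancel, map_one])
  have hDn : D n = 1 := by
    rw [hn, map_mul, map_mul, hsq1, one_mul]
    exact hD1 _ fun v hv => by rw [H.comm _ ((hF g₀ hg₀).mem _) v hv]; group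
  have hconjD : ∀ h : G, D (h * n * h⁻¹) = 1 := fun h => by
    rw [map_mul, map_mul, hDn, mul_one, ← map_mul, mul_inv_cancel, map_one]
  obtain ⟨hM, k, hk⟩ := good g' hgg' D hD hD3 (by rw [hg', map_mul, hconjD, hconjD, one_mul])
  obtain ⟨X, hX, -⟩ := F.action H x
  refine false_of_frame S.sect H hAQ F hM hk hx hxg ?_ hX ((hD x X hX).symm.trans (hconjD _)) ?_ ?_ ?_
  · intro v
    rw [← H.nat.xact v]
    have hxx : (xW g y)⁻¹ * x ∈ Q := hmeq.2 hmx.symm
    set p := a * a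
    obtain ⟨u, hu⟩ : ∃ u ∈ A, coord p (g * p * g⁻¹) (g * (g * p * g⁻¹) * g⁻¹) v = u * u := by
      have hr0 : ∀ v : V3, ∃ u : V4, red u = v := by decide +kernel
      obtain ⟨u, rfl⟩ := hr0 v
      exact ⟨co a g u, (hF g (by rw [inv_mul_cancel]; exact one_mem _)).mem u,
        ((hF g (by rw [inv_mul_cancel]; exact one_mem _)).sq u).symm⟩
    rw [hu.2]
    conv_rhs => rw [← hU _ hxx u hu.1]
    group
  · intro h
    rw [hmem, map_mul, ← hmeq.1 hgg', ← map_mul, ← hmem] at h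
    exact S.gg h
  · intro h
    rw [hmem, hmx, ← hmem] at h
    exact S.xQ h
  · intro h
    rw [hmem, map_mul, map_mul, ← hmeq.1 hgg', ← map_mul, hmx, ← map_mul, ← hmem] at h
    exact S.gxQ h

end

end Cfsg.Agent.L32Radical
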