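import Cfsg.Agent.Lib.L32Radical.Layer

/-!
# Passing to quotients
-/

set_option autoImplicit false

namespace Cfsg.Agent.L32Radical

open Subgroup

section

variable {G : Type*} [Group G]

theorem map_coord {G' : Type*} [Group G'] (f : G →* G') {n : ℕ} (a b c : G) (v : ZMod n × ZMod n × ZMod n) :
    f (coord a b c v) = coord (f a) (f b) (f c) v := by simp [coord]

theorem mem_map_mk {K L : Subgroup G} [K.Normal] (hKL : K ≤ L) {a : G} :
    (a : G ⧸ K) ∈ L.map (QuotientGroup.mk' K) ↔ a ∈ L := by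
  refine ⟨fun ⟨b, hb, e⟩ => ?_, fun h => mem_map_of_mem _ h⟩
  have : b⁻¹ * a ∈ K := QuotientGroup.eq.1 e
  simpa using mul_mem hb (hKL this)

theorem mk_mem_map_iff {K L : Subgroup G} [K.Normal] (hKL : K ≤ L) {a : G} :
    QuotientGroup.mk' K a ∈ L.map (QuotientGroup.mk' K) ↔ a ∈ L := mem_map_mk hKL

variable [Finite G] {Q A : Subgroup G} {g y a : G}

/-- A homocyclic subgroup modulo a normal subgroup meeting it trivially. -/
theorem false_of_homocyclic_mod [Q.Normal] (S : Setting Q g y) (H : Homo A g y a) (hAQ : A ≤ Q)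
    (K : Subgroup G) [K.Normal] (hKQ : K ≤ Q) (hd : ∀ v ∈ A, v ∈ K → v = 1)
    (hQ : ∀ q ∈ Q, (∀ v ∈ A, q * v * q⁻¹ = v) ∨ (∀ v ∈ A, q * v * q⁻¹ = v⁻¹))
    (HA : ∀ g', g⁻¹ * g' ∈ Q → ActsAs g' a (g' * a * g'⁻¹) (g' * (g' * a * g'⁻¹) * g'⁻¹) M4 →
      (∀ v ∈ A, g' ^ 4 * v * (g' ^ 4)⁻¹ = v) →
      (∀ v ∈ A, rW g' y * v * (rW g' y)⁻¹ = v) → ∃ v ∈ A, v⁻¹ * g' ^ 4 ∈ K) : False := by
  set π := QuotientGroup.mk' K with hπ
  haveI := H.normal
  haveI : (Q.map π).Normal := Normal.map inferInstance π (QuotientGroup.mk'_surjective K)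
  have hdis : ∀ {u v : G}, u ∈ A → v ∈ A → π u = π v → u = v := fun {u v} hu hv h =>
    (inv_mul_eq_one.1 (hd _ (mul_mem (inv_mem hu) hv) (QuotientGroup.eq.1 h)))
  have hA' : Homo (A.map π) (π g) (π y) (π a) := by
    refine ⟨Normal.map H.normal π (QuotientGroup.mk'_surjective K), ?_, ?_, ?_, mem_map_of_mem π H.mem, ?_⟩
    · rintro _ ⟨u, hu, rfl⟩ _ ⟨v, hv, rfl⟩; rw [← map_mul, ← map_mul, H.comm u hu v hv]
    · rintro _ ⟨u, hu, rfl⟩; rw [← map_pow, H.exp u hu, map_one]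
    · rw [← Nat.card_eq_of_bijective (fun u : A => (⟨π u, mem_map_of_mem π u.2⟩ : A.map π))
        ⟨fun u v h => Subtype.ext (hdis u.2 v.2 (congrArg Subtype.val h)), fun w => by
          obtain ⟨u, hu, he⟩ := w.2
          exact ⟨⟨u, hu⟩, Subtype.ext he⟩⟩, H.card]
    have N := H.nat
    set p := a * a with hp
    set q := g * p * g⁻¹ with hq
    set r := g * q * g⁻¹ with hr
    have hpA : p ∈ A := mul_mem H.mem H.mem
    have hqA : q ∈ A := H.normal.conj_mem p hpA g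
    have hrA : r ∈ A := H.normal.conj_mem q hqA g
    have e : ∀ v : V3, coord p q r v ∈ A := fun v =>
      mul_mem (mul_mem (pow_mem hpA _) (pow_mem hqA _)) (pow_mem hrA _)
    rw [← map_mul, ← map_inv, ← map_mul, ← map_mul, ← map_mul, ← map_mul]
    show Natural (π g) (π y) (π p) (π q) (π r)
    refine ⟨⟨N.tr.ab.map π, N.tr.ac.map π, N.tr.bc.map π, by rw [← map_pow, N.tr.pa, map_one],
      by rw [← map_pow, N.tr.pb, map_one], by rw [← map_pow, N.tr.pc, map_one]⟩, fun v hv => N.inj v ?_,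
      fun v => ?_, fun v => ?_⟩
    · exact hdis (e v) (one_mem A) (by rw [map_one, map_coord]; exact hv)
    · rw [← map_coord, ← map_coord, ← map_inv, ← map_mul, ← map_mul, N.gact]
    · rw [← map_coord, ← map_coord, ← map_inv, ← map_mul, ← map_mul, N.yact]
  refine false_of_homocyclic (S.quotient K hKQ) hA' (map_mono hAQ) ?_ ?_
  · rintro _ ⟨q, hq, rfl⟩
    rcases hQ q hq with h | h
    · exact Or.inl (by rintro _ ⟨v, hv, rfl⟩; rw [← map_inv, ← map_mul, ← map_mul, h v hv])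
    · exact Or.inr (by rintro _ ⟨v, hv, rfl⟩; rw [← map_inv, ← map_inv, ← map_mul, ← map_mul, h v hv])
  · intro g' hg hM hc hr
    obtain ⟨t, rfl⟩ := QuotientGroup.mk'_surjective K g'
    have hgt : g⁻¹ * t ∈ Q := by
      have h : π (g⁻¹ * t) ∈ Q.map π := by rw [map_mul, map_inv]; exact hg
      exact (mk_mem_map_iff hKQ).1 h
    have lift : ∀ (w : G), (∀ v ∈ A.map π, π w * v * (π w)⁻¹ = v) → ∀ v ∈ A, w * v * w⁻¹ = v := fun w h v hv =>
      hdis (H.normal.conj_mem v hv w) hv (by rw [map_mul, map_mul, map_inv]; exact h _ (mem_map_of_mem π hv))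
    have hM' : ActsAs t a (t * a * t⁻¹) (t * (t * a * t⁻¹) * t⁻¹) M4 := fun u => by
      have hb : t * a * t⁻¹ ∈ A := H.normal.conj_mem a H.mem t
      have hc' : t * (t * a * t⁻¹) * t⁻¹ ∈ A := H.normal.conj_mem _ hb t
      have hmem : ∀ w : V4, coord a (t * a * t⁻¹) (t * (t * a * t⁻¹) * t⁻¹) w ∈ A := fun w =>
        mul_mem (mul_mem (pow_mem H.mem _) (pow_mem hb _)) (pow_mem hc' _)
      refine hdis (H.normal.conj_mem _ (hmem u) t) (hmem (M4 u)) ?_
      rw [map_mul, map_mul, map_inv, map_coord, map_coord]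
      simp only [map_mul, map_inv]
      exact hM u
    obtain ⟨v, hv, hvK⟩ := HA t hgt hM' (lift _ (by rw [map_pow]; exact hc))
      (lift _ (by rw [(map_words π t y).2.2]; exact hr))
    rw [← map_pow]
    show π (t ^ 4) ∈ A.map π
    rw [show π (t ^ 4) = π v from (QuotientGroup.eq.2 hvK).symm]
    exact mem_map_of_mem π hv

end

end Cfsg.Agent.L32Radical
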