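import Cfsg.Agent.Lib.L32Radical.Coords
import Cfsg.Agent.Lib.L32Radical.Quotient

/-!
# One chief layer below the radical

* `Setting.shape3_false`: `Q/T` a natural module is impossible
* `Setting.level_one`: `Q/T` with an invariant natural hyperplane is `ℤ/4 × 2³` with fixed parameters
-/

set_option autoImplicit false

namespace Cfsg.Agent.L32Radical

open Subgroup

section

variable {G : Type*} [Group G] [Finite G] {Q Q₁ T : Subgroup G} {g y : G} {e : V3 → G}
variable [Q.Normal]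

/-- No subgroup of `Q` of exponent two has order more than 16. -/
theorem Setting.elem_le (S : Setting Q g y) {K : Subgroup G} (h : ∀ a ∈ K, a * a = 1) : Nat.card K ≤ 16 := by
  have := S.sect K ⊥ bot_le (fun x _ r hr => by rw [mem_bot] at hr ⊢; rw [hr]; group)
    (fun x hx => by rw [mem_bot]; exact h x hx)
  rwa [card_bot, mul_one] at this

/-- `Q/T` a natural module and `T` a chief layer generated by squares: impossible. -/
theorem Setting.shape3_false (S : Setting Q g y) (C : Chief Q T) (O : Over Q T) (F : Frame3 Q T g y e)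
    (gen : ∀ K : Subgroup G, K.Normal → (∀ a ∈ Q, a * a ∈ K) → T ≤ K) : False := by
  obtain ⟨hcomm, -, h⟩ := S.sec_cases C le_rfl C.le O F
  rcases h with h | ⟨H, -⟩
  · exact C.ne (le_bot_iff.1 (gen ⊥ inferInstance fun a ha => mem_bot.2 (h a ha)))
  · exact false_of_homocyclic S H le_rfl
      (fun q hq => Or.inl fun v hv => by rw [hcomm q hq v hv, mul_inv_cancel_right])
      (fun g' hg _ _ _ => by
        have hm : (g' : G ⧸ Q) = g := (QuotientGroup.eq.2 hg).symm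
        rw [← QuotientGroup.eq_one_iff, QuotientGroup.mk_pow, hm, ← QuotientGroup.mk_pow,
          QuotientGroup.eq_one_iff]
        exact S.g4)

/-- In a layer of order two everything is central. -/
theorem Chief.two (C : Chief Q T) (h2 : Nat.card T = 2) :
    ∃ z, z ∈ T ∧ z ≠ 1 ∧ (∀ t ∈ T, t = 1 ∨ t = z) ∧ ∀ a, a * z * a⁻¹ = z := by
  haveI := C.normal
  haveI : Nontrivial T := Finite.one_lt_card_iff_nontrivial.1 (by omega)
  obtain ⟨z, hz⟩ := exists_ne (1 : T)
  have hall : ∀ t ∈ T, t = 1 ∨ t = (z : G) := fun t ht => by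
    obtain ⟨p, q, -, hall⟩ := Nat.card_eq_two_iff.1 h2
    have hz' : (z : T) ∈ ({p, q} : Set T) := by rw [hall]; trivial
    have h1' : (1 : T) ∈ ({p, q} : Set T) := by rw [hall]; trivial
    have ht' : (⟨t, ht⟩ : T) ∈ ({p, q} : Set T) := by rw [hall]; trivial
    simp only [Set.mem_insert_iff, Set.mem_singleton_iff] at hz' h1' ht'
    rcases ht' with e | e <;> rcases hz' with e' | e' <;> rcases h1' with e'' | e''
    all_goals first
      | exact Or.inr (congrArg Subtype.val (e.trans e'.symm) :)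
      | exact Or.inl (congrArg Subtype.val (e.trans e''.symm) :)
      | exact absurd (e'.trans e''.symm) hz
  refine ⟨z, z.2, fun h => hz (Subtype.ext h), hall, fun a => (hall _ (C.normal.conj_mem _ z.2 a)).resolve_left ?_⟩
  intro h
  exact hz (Subtype.ext (by simpa using h))

theorem Lifts.mk_coord [T.Normal] {y' : G} (L : Lifts Q₁ T y' e) (w : V3) :
    (coord (e (1, 0, 0)) (e (0, 1, 0)) (e (0, 0, 1)) w : G ⧸ T) = (e w : G ⧸ T) := by
  have hadd : ∀ u v, (e (u + v) : G ⧸ T) = e u * e v := fun u v =>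
    (QuotientGroup.eq.2 (L.add u v)).symm.trans (QuotientGroup.mk_mul T _ _)
  have hs : ∀ (i : ZMod 2) (u : V3), (e (i.val • u) : G ⧸ T) = (e u : G ⧸ T) ^ i.val := fun i u => by
    have : i = 0 ∨ i = 1 := by revert i; decide
    rcases this with rfl | rfl
    · simp [L.zero]
    · simp [ZMod.val_one]
  conv_rhs => rw [v3_decomp w, hadd, hadd, hs, hs, hs]
  simp [coord]

/-- Exact cyclic lifts in an abelian elementary `Q₁`. -/
theorem exact_lifts (S : Setting Q g y) (C : Chief Q T) (h2 : Nat.card T = 2) (hTQ : T ≤ Q₁)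
    (hcomm : ∀ a ∈ Q₁, ∀ b ∈ Q₁, a * b = b * a) (hsq : ∀ a ∈ Q₁, a * a = 1)
    (F : Frame3 Q₁ T g y e) :
    ∃ a b c, a ∈ Q₁ ∧ b ∈ Q₁ ∧ c ∈ Q₁ ∧ Triple 2 a b c ∧ ActsAs y a b c yV ∧
      (∀ w, (e w)⁻¹ * coord a b c w ∈ T) := by
  haveI := C.normal
  obtain ⟨z, hzT, -, hT, hzc⟩ := C.two h2
  have hz2 : z * z = 1 := C.exp z hzT
  have cz : ∀ u, u * z = z * u := fun u => mul_inv_eq_iff_eq_mul.1 (hzc u)
  let π := QuotientGroup.mk' T
  have hpi : ∀ {u v : G}, v⁻¹ * u ∈ T → π u = π v := fun h => (QuotientGroup.eq.2 h).symm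
  have hy : ∀ v, π (y * e v * y⁻¹) = π (e (yV v)) := fun v => hpi (F.yact v)
  set a₀ := e (1, 0, 0) with ha₀
  set b₀ := y * a₀ * y⁻¹ with hb₀
  set c₀ := y * b₀ * y⁻¹ with hc₀
  have mb : π b₀ = π (e (0, 1, 0)) := hy _
  have mc : π c₀ = π (e (0, 0, 1)) := by
    rw [hc₀, map_mul, map_mul, mb, ← map_mul, ← map_mul]; exact hy _
  have me : ∀ {u v : G}, π u = π v → v⁻¹ * u ∈ T := fun h => QuotientGroup.eq.1 h.symm
  have hmem : ∀ {u : G} {v : V3}, π u = π (e v) → u ∈ Q₁ := fun {u v} h => by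
    have := mul_mem (F.mem v) (hTQ (me h))
    rwa [mul_inv_cancel_left] at this
  have hyc : (a₀ * b₀)⁻¹ * (y * c₀ * y⁻¹) ∈ T := by
    refine me ?_
    rw [map_mul, map_mul, mc, ← map_mul, ← map_mul, hy, map_mul, mb, ← map_mul]
    exact (hpi (F.add _ _))
  obtain ⟨a, ha, hA⟩ : ∃ a, π a = π a₀ ∧
      y * (y * (y * a * y⁻¹) * y⁻¹) * y⁻¹ = a * (y * a * y⁻¹) := by
    rcases hT _ hyc with h | h
    · exact ⟨a₀, rfl, (inv_mul_eq_one.1 h).symm⟩
    · refine ⟨a₀ * z, hpi (by rw [inv_mul_cancel_left]; exact hzT), ?_⟩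
      have h' : y * c₀ * y⁻¹ = a₀ * b₀ * z := by rw [← h]; group
      have cy : ∀ u, y * (u * z) * y⁻¹ = y * u * y⁻¹ * z := fun u => by
        rw [← mul_assoc y u, mul_assoc (y * u) z, show z * y⁻¹ = y⁻¹ * z from (cz y⁻¹).symm]; group
      rw [cy a₀, cy, cy, ← hb₀, ← hc₀, h', mul_assoc a₀ z, ← mul_assoc z b₀, ← cz b₀]
      group
  set b := y * a * y⁻¹ with hb
  set c := y * b * y⁻¹ with hc
  have mb' : π b = π (e (0, 1, 0)) := by rw [hb, map_mul, map_mul, ha, ← map_mul, ← map_mul]; exact mb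
  have mc' : π c = π (e (0, 0, 1)) := by
    rw [hc, map_mul, map_mul, mb', ← mb, ← map_mul, ← map_mul]; exact mc
  have haQ := hmem ha
  have hbQ := hmem mb'
  have hcQ := hmem mc'
  have tr : Triple 2 a b c := ⟨hcomm a haQ b hbQ, hcomm a haQ c hcQ, hcomm b hbQ c hcQ,
    by rw [pow_two]; exact hsq a haQ, by rw [pow_two]; exact hsq b hbQ, by rw [pow_two]; exact hsq c hcQ⟩
  obtain ⟨E1, E2, E3⟩ := coord_one a b c
  refine ⟨a, b, c, haQ, hbQ, hcQ, tr, ?_, fun w => ?_⟩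
  · refine ActsAs.of_gens tr yV yV_lin E2.symm E3.symm ?_
    show y * c * y⁻¹ = coord a b c ((1, 0, 0) + (0, 1, 0) : V3)
    rw [tr.add, E1, E2]; exact hA
  · refine me ?_
    show π (coord a b c w) = π (e w)
    rw [map_coord, ha, mb', mc', ← map_coord]
    exact F.toLifts.mk_coord w

/-- `g` in coordinates. -/
theorem Coords.of_gens {n : ℕ} [NeZero n] {v a b c : G} (hv : v ^ n = 1) (tr : Triple 2 a b c)
    (ha : Commute v a) (hb : Commute v b) (hc : Commute v c) (hinj : Function.Injective (stc (n := n) v a b c))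
    (hmem : v ∈ Q ∧ a ∈ Q ∧ b ∈ Q ∧ c ∈ Q) (hsurj : ∀ q ∈ Q, ∃ s, stc (n := n) v a b c s = q)
    {f : St n → St n} (hf : ∀ s t, f (s + t) = f s + f t) [Fact (1 < n)]
    (g1 : g * v * g⁻¹ = stc v a b c (f (1, 0))) (g2 : g * a * g⁻¹ = stc v a b c (f (0, (1, 0, 0))))
    (g3 : g * b * g⁻¹ = stc v a b c (f (0, (0, 1, 0)))) (g4 : g * c * g⁻¹ = stc v a b c (f (0, (0, 0, 1))))
    (y1 : y * v * y⁻¹ = v) (hy : ActsAs y a b c yV) : Coords Q g y (stc (n := n) v a b c) f := by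
  obtain ⟨E0, E1, E2, E3⟩ := stc_gens (n := n) v a b c
  have add := stc_add (n := n) hv tr ha hb hc
  have hcj : ∀ h : G, ∀ s t : St n, h * stc v a b c (s + t) * h⁻¹ =
      h * stc v a b c s * h⁻¹ * (h * stc v a b c t * h⁻¹) := fun h s t => by rw [add]; group
  refine ⟨add, hinj, fun s => mul_mem (pow_mem hmem.1 _)
      (mul_mem (mul_mem (pow_mem hmem.2.1 _) (pow_mem hmem.2.2.1 _)) (pow_mem hmem.2.2.2 _)), hsurj, fun s => ?_,
    fun s => ?_⟩
  · exact st_ext (f := fun s => g * stc v a b c s * g⁻¹) (f' := fun s => stc v a b c (f s)) (hcj g)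
      (fun s t => by simp only [hf, add])
      (by simp only [E0]; exact g1) (by simp only [E1]; exact g2) (by simp only [E2]; exact g3)
      (by simp only [E3]; exact g4) s
  · have : (y * v ^ s.1.val * y⁻¹) = v ^ s.1.val := by rw [← conj_pow, y1]
    show y * (v ^ s.1.val * coord a b c s.2) * y⁻¹ = v ^ s.1.val * coord a b c (yV s.2)
    rw [← hy, show y * (v ^ s.1.val * coord a b c s.2) * y⁻¹ =
      (y * v ^ s.1.val * y⁻¹) * (y * coord a b c s.2 * y⁻¹) by group, this]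

theorem c4_add : ∀ a b, c4 (a + b) = c4 a + c4 b := by decide

theorem par4 : ∀ a b : ZMod 4, (((a + b).val : ℕ) : ZMod 2) = (a.val : ZMod 2) + (b.val : ZMod 2) := by decide

theorem odd4 : ∀ i : ZMod 4, ¬(i = 0 ∨ i = 2) → ∃ k, i = 1 + c4 k := by decide

/-- The elementary case of `level_one`. -/
theorem Setting.level_one_two (S : Setting Q g y) (C : Chief Q T) (O : Over Q T)
    (gen : ∀ K : Subgroup G, K.Normal → (∀ a ∈ Q, a * a ∈ K) → T ≤ K) [Q₁.Normal] (hQ₁ : Q₁ ≤ Q) (hTQ : T ≤ Q₁)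
    (F : Frame3 Q₁ T g y e) (hcomm₁ : ∀ a ∈ Q₁, ∀ b ∈ Q₁, a * b = b * a)
    (hcard : Nat.card Q₁ = 8 * Nat.card T) (hsq : ∀ a ∈ Q₁, a * a = 1) {v : G} (hv : v ∈ Q) (hv1 : v ∉ Q₁)
    (hcover : ∀ a ∈ Q, a ∈ Q₁ ∨ v⁻¹ * a ∈ Q₁) (hy : v⁻¹ * (y * v * y⁻¹) ∈ T) :
    ∃ e' : St 4 → G, Coords Q g y e' (gS c4 0 (0, 1, 0) 0) := by
  haveI := C.normal
  haveI : Fact (1 < 4) := ⟨by norm_num⟩
  have h16 := S.elem_le hsq
  haveI : Nontrivial T := T.nontrivial_iff_ne_bot.2 C.ne
  have h2 : Nat.card T = 2 := by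
    have := Finite.one_lt_card (α := T)
    omega
  obtain ⟨z, hzT, hz1, hT, hzc⟩ := C.two h2
  -- `Q` is abelian
  have L : Lifts Q T y e := { F.toLifts with mem := fun w => hQ₁ (F.mem w) }
  have hkom : ∀ w, kom (e w) v = 1 := fun w => by
    refine yinv_trivial (fun w => kom (e w) v) (fun p q => L.kom_add C le_rfl O hv p q) (fun p => ?_) w
    calc kom (e (yV p)) v = kom (y * e p * y⁻¹) (y * v * y⁻¹) :=
          (C.kom_congr (L.mem _) hv ((inferInstance : Q.Normal).conj_mem v hv y) (L.yact p) hy).symm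
      _ = y * kom (e p) v * y⁻¹ := (kom_conj y _ _).symm
      _ = kom (e p) v := by
          rcases hT _ (O.comm _ (L.mem p) v hv) with h | h <;> rw [show kom (e p) v = _ from h]
          · group
          · exact hzc y
  have hv₁ : ∀ a ∈ Q₁, a * v = v * a := fun a ha => by
    obtain ⟨w, hw⟩ := F.cover a ha
    rw [← kom_eq_one, C.kom_congr (L.mem w) hv hv hw (by rw [inv_mul_cancel]; exact one_mem T), hkom]
  have hvv : v * v = z := by
    rcases hT _ (O.sq v hv) with h | h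
    · refine absurd (le_bot_iff.1 (gen ⊥ inferInstance fun a ha => mem_bot.2 ?_)) C.ne
      rcases hcover a ha with h' | h'
      · exact hsq a h'
      · obtain ⟨b, hb, rfl⟩ : ∃ b ∈ Q₁, a = v * b := ⟨_, h', by group⟩
        rw [mul_assoc, ← mul_assoc b, hv₁ b hb, mul_assoc v b b, hsq b hb, mul_one, h]
    · exact h
  have hy1 : y * v * y⁻¹ = v := by
    rcases hT _ hy with h | h
    · exact (inv_mul_eq_one.1 h).symm
    · exfalso
      have h' : y * v * y⁻¹ = v * z := by rw [← h]; group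
      have key : ∀ i : ℕ, y ^ i * v * (y ^ i)⁻¹ = v * z ^ i := fun i => by
        induction i with
        | zero => simp
        | succ i ih =>
          calc y ^ (i + 1) * v * (y ^ (i + 1))⁻¹ = y * (y ^ i * v * (y ^ i)⁻¹) * y⁻¹ := by rw [pow_succ']; group
            _ = (y * v * y⁻¹) * (y * z * y⁻¹) ^ i := by rw [ih, conj_pow]; group
            _ = v * z ^ (i + 1) := by rw [h', hzc, pow_succ', mul_assoc]
      have h7 := key 7
      rw [S.y7, one_mul, inv_one, mul_one, left_eq_mul] at h7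
      apply hz1
      calc z = z ^ 7 * (z * z)⁻¹ * (z * z)⁻¹ * (z * z)⁻¹ := by group
        _ = 1 := by rw [h7, C.exp z hzT]; group
  obtain ⟨a, b, c, ha, hb, hc, tr, hyab, hco⟩ := exact_lifts S C h2 hTQ hcomm₁ hsq F
  have hco1 : ∀ w : V3, coord a b c w ∈ Q₁ := fun w =>
    mul_mem (mul_mem (pow_mem ha _) (pow_mem hb _)) (pow_mem hc _)
  have hv4 : v ^ 4 = 1 := by rw [show v ^ 4 = v * v * (v * v) by simp [pow_succ, mul_assoc], hvv, C.exp z hzT]
  have add := stc_add (n := 4) hv4 tr (hv₁ a ha).symm (hv₁ b hb).symm (hv₁ c hc).symm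
  obtain ⟨E0, E1, E2, E3⟩ := stc_gens (n := 4) v a b c
  have heven : ∀ i : ZMod 4, v ^ i.val ∈ Q₁ → i = 0 ∨ i = 2 := by
    intro i hi
    fin_cases i
    · exact Or.inl rfl
    · exact absurd (pow_one v ▸ (show v ^ 1 ∈ Q₁ from hi)) hv1
    · exact Or.inr rfl
    · refine absurd ?_ hv1
      have h3 : v ^ 3 ∈ Q₁ := hi
      have : v = v ^ 4 * (v ^ 3)⁻¹ := by group
      rw [this, hv4, one_mul]; exact inv_mem h3
  have hker : ∀ s : St 4, stc v a b c s = 1 → s = 0 := by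
    rintro ⟨i, w⟩ h
    have h' : v ^ i.val * coord a b c w = 1 := h
    have hiQ : v ^ i.val ∈ Q₁ := by rw [eq_inv_of_mul_eq_one_left h']; exact inv_mem (hco1 w)
    have hiT : v ^ i.val ∈ T := by
      rcases heven i hiQ with rfl | rfl
      · simp
      · show v ^ 2 ∈ T
        rw [pow_two, hvv]; exact hzT
    have hw : w = 0 := by
      refine F.indep w ?_
      have h3 : coord a b c w = (v ^ i.val)⁻¹ := eq_inv_of_mul_eq_one_right h'
      have : e w = coord a b c w * ((e w)⁻¹ * coord a b c w)⁻¹ := by group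
      rw [this]
      exact mul_mem (h3 ▸ inv_mem hiT) (inv_mem (hco w))
    subst hw
    rw [coord_zero, mul_one] at h'
    rcases heven i hiQ with rfl | rfl
    · rfl
    · exact absurd (show v * v = 1 by rw [← pow_two]; exact h') (by rw [hvv]; exact hz1)
  have hz0 : stc (n := 4) v a b c 0 = 1 := by simp [stc, coord_zero]
  have hinj : Function.Injective (stc (n := 4) v a b c) := fun s t h => by
    refine sub_eq_zero.1 (hker _ (mul_right_cancel (b := stc v a b c t) ?_))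
    rw [← add, sub_add_cancel, h, one_mul]
  have hsurj₁ : ∀ q ∈ Q₁, ∃ i : ZMod 4, (i = 0 ∨ i = 2) ∧ ∃ w, stc v a b c (i, w) = q := by
    intro q hq
    obtain ⟨w, hw⟩ := F.cover q hq
    have hm : (coord a b c w)⁻¹ * q ∈ T := by
      have : (coord a b c w)⁻¹ * q = ((e w)⁻¹ * coord a b c w)⁻¹ * ((e w)⁻¹ * q) := by group
      rw [this]; exact mul_mem (inv_mem (hco w)) hw
    rcases hT _ hm with h | h
    · exact ⟨0, Or.inl rfl, w, by simp [stc, inv_mul_eq_one.1 h]⟩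
    · refine ⟨2, Or.inr rfl, w, ?_⟩
      show v ^ 2 * coord a b c w = q
      rw [pow_two, hvv, C.cen z hzT _ (hQ₁ (hco1 w)), ← h]
      group
  have hsurj : ∀ q ∈ Q, ∃ s, stc (n := 4) v a b c s = q := fun q hq => by
    rcases hcover q hq with h | h
    · obtain ⟨i, -, w, hw⟩ := hsurj₁ q h
      exact ⟨(i, w), hw⟩
    · obtain ⟨i, -, w, hw⟩ := hsurj₁ _ h
      exact ⟨(1, 0) + (i, w), by rw [add, E0, hw, mul_inv_cancel_left]⟩
  -- the action of `g`
  have hQ₁n : ∀ q ∈ Q₁, g * q * g⁻¹ ∈ Q₁ := fun q hq => (inferInstance : Q₁.Normal).conj_mem q hq g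
  obtain ⟨⟨i₀, ω⟩, hgv⟩ := hsurj _ ((inferInstance : Q.Normal).conj_mem v hv g)
  obtain ⟨k, hk⟩ : ∃ k : ZMod 2, i₀ = 1 + c4 k := by
    have hi0 : ¬ (i₀ = 0 ∨ i₀ = 2) := fun h => hv1 (by
      have hmem : g * v * g⁻¹ ∈ Q₁ := by
        rw [← hgv]
        refine mul_mem ?_ (hco1 ω)
        rcases h with rfl | rfl
        · simp
        · show v ^ 2 ∈ Q₁
          rw [pow_two, hvv]; exact hTQ hzT
      have := (inferInstance : Q₁.Normal).conj_mem _ hmem g⁻¹
      simpa [mul_assoc] using this)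
    exact odd4 i₀ hi0
  have hgw : ∀ w, ∃ p : ZMod 2, g * coord a b c w * g⁻¹ = stc v a b c (c4 p, gV w) := by
    intro w
    obtain ⟨i, hi, w', hw'⟩ := hsurj₁ _ (hQ₁n _ (hco1 w))
    have hiT : v ^ i.val ∈ T := by
      rcases hi with rfl | rfl
      · simp
      · show v ^ 2 ∈ T
        rw [pow_two, hvv]; exact hzT
    let π := QuotientGroup.mk' T
    have h0 : π (v ^ i.val) = 1 := (QuotientGroup.eq_one_iff _).2 hiT
    have he : ∀ u, π (coord a b c u) = π (e u) := fun u => (QuotientGroup.eq.2 (hco u)).symm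
    have hgV : π (e (gV w)) = π (e w') := by
      rw [← he w']
      calc π (e (gV w)) = π g * π (e w) * (π g)⁻¹ := by
            rw [← map_inv, ← map_mul, ← map_mul]; exact QuotientGroup.eq.2 (F.gact w)
        _ = π (g * coord a b c w * g⁻¹) := by rw [← he, map_mul, map_mul, map_inv]
        _ = _ := by rw [← hw']; show π (v ^ i.val * coord a b c w') = _; rw [map_mul, h0, one_mul]
    have hwe : gV w = w' := v3_eq_of_add _ _ (F.indep _ (by
      have h1 : π (e (gV w + w')) = 1 := by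
        rw [show π (e (gV w + w')) = π (e (gV w)) * π (e w') from
          (QuotientGroup.eq.2 (F.add _ _)).symm.trans (map_mul π _ _), hgV, ← map_mul]
        exact (QuotientGroup.eq_one_iff _).2 (O.sq _ (L.mem w'))
      exact (QuotientGroup.eq_one_iff _).1 h1))
    subst hwe
    rcases hi with rfl | rfl
    · exact ⟨0, hw'.symm⟩
    · exact ⟨1, hw'.symm⟩
  obtain ⟨p1, hp1⟩ := hgw (1, 0, 0)
  obtain ⟨p2, hp2⟩ := hgw (0, 1, 0)
  obtain ⟨p3, hp3⟩ := hgw (0, 0, 1)
  obtain ⟨G1, G2, G3⟩ := coord_one a b c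
  rw [G1] at hp1
  rw [G2] at hp2
  rw [G3] at hp3
  have key : ∀ (p1 p2 p3 k : ZMod 2) (ω : V3),
      gS c4 (p1, p2, p3) ω k ((1, 0) : St 4) = (1 + c4 k, ω) ∧
      gS c4 (p1, p2, p3) ω k ((0, (1, 0, 0)) : St 4) = (c4 p1, gV (1, 0, 0)) ∧
      gS c4 (p1, p2, p3) ω k ((0, (0, 1, 0)) : St 4) = (c4 p2, gV (0, 1, 0)) ∧
      gS c4 (p1, p2, p3) ω k ((0, (0, 0, 1)) : St 4) = (c4 p3, gV (0, 0, 1)) := by decide +kernel
  obtain ⟨K0, K1, K2, K3⟩ := key p1 p2 p3 k ω
  have CC : Coords Q g y (stc (n := 4) v a b c) (gS c4 (p1, p2, p3) ω k) :=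
    Coords.of_gens hv4 tr (hv₁ a ha).symm (hv₁ b hb).symm (hv₁ c hc).symm hinj ⟨hv, hQ₁ ha, hQ₁ hb, hQ₁ hc⟩
      hsurj (gS_add c4_add par4 _ _ _) (by rw [K0, ← hk]; exact hgv.symm) (by rw [K1]; exact hp1)
      (by rw [K2]; exact hp2) (by rw [K3]; exact hp3) hy1 hyab
  obtain ⟨rfl, hcase⟩ := params4 (p1, p2, p3) ω k fun s _ => CC.relators S s
  rcases hcase with ⟨h1, h2'⟩ | ⟨h1, h2'⟩ | ⟨h1, h2'⟩
  · subst h2'
    rw [h1] at CC
    exact (false_of_model S _ CC.add CC.inj CC.mem CC.surj _ CC.gact CC.yact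
      (period4 0 0 (Or.inl ⟨rfl, rfl⟩)) (cert4 0 (Or.inl rfl))).elim
  · subst h2'
    rw [h1] at CC
    exact (false_of_model S _ CC.add CC.inj CC.mem CC.surj _ CC.gact CC.yact
      (period4 _ 0 (Or.inr ⟨rfl, rfl⟩)) (cert4 _ (Or.inr rfl))).elim
  · subst h2'
    rw [h1] at CC
    exact ⟨_, CC⟩

end

end Cfsg.Agent.L32Radical
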