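import Cfsg.Agent.Lib.L32Radical.LevelOne

/-!
# One chief layer below the radical: the homocyclic case
-/

set_option autoImplicit false

namespace Cfsg.Agent.L32Radical

open Subgroup

section

theorem add_zero_fix : ∀ p : V3, yV p + p = 0 → p = 0 := by decide

theorem exists_fix_shift : ∀ p : V3, ∃ r : V3, p + yV r = r := by decide

/-- The translation allowed by the relator. -/
theorem shift_cases : ∀ d : V3,
    (let f := fun w : V3 => gV w + d; f (f (f (yV (yV (f (yV (f (yV (yV 0)))))))))) = 0 → d = 0 ∨ d = (0, 1, 0) := by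
  decide +kernel

theorem red_double_eq : ∀ u : V4, red u = (0, 1, 0) → u + u = (0, 2, 0) := by decide

theorem not_fixed : ∀ u : V4, M4 u ≠ u + (0, 2, 0) := by decide +kernel

variable {G : Type*} [Group G] [Finite G] {Q Q₁ T : Subgroup G} [Q.Normal] {g y : G} {e : V3 → G}

/-- `Q/T` with an invariant natural hyperplane: `Q` is `ℤ/4 × 2³` with fixed parameters. -/
theorem Setting.level_one (S : Setting Q g y) (C : Chief Q T) (O : Over Q T)
    (gen : ∀ K : Subgroup G, K.Normal → (∀ a ∈ Q, a * a ∈ K) → T ≤ K) [Q₁.Normal] (hQ₁ : Q₁ ≤ Q) (hTQ : T ≤ Q₁)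
    (F : Frame3 Q₁ T g y e) {v : G} (hv : v ∈ Q) (hv1 : v ∉ Q₁)
    (hcover : ∀ a ∈ Q, a ∈ Q₁ ∨ v⁻¹ * a ∈ Q₁) (hy : v⁻¹ * (y * v * y⁻¹) ∈ T) :
    ∃ e' : St 4 → G, Coords Q g y e' (gS c4 0 (0, 1, 0) 0) := by
  haveI := C.normal
  obtain ⟨hcomm₁, hcard, h⟩ := S.sec_cases C hQ₁ hTQ
    ⟨fun a ha => O.sq a (hQ₁ ha), fun a ha b hb => O.comm a (hQ₁ ha) b (hQ₁ hb)⟩ F
  rcases h with hsq | ⟨H, hT8, hinj, hsurjT, hqg, hqy⟩
  · exact S.level_one_two C O gen hQ₁ hTQ F hcomm₁ hcard hsq hv hv1 hcover hy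
  exfalso
  set q : V3 → G := fun w => e w * e w with hq
  have hqT : ∀ w, q w ∈ T := fun w => O.sq _ (hQ₁ (F.mem w))
  have L : Lifts Q T y e := { F.toLifts with mem := fun w => hQ₁ (F.mem w) }
  have hqadd : ∀ p r, q (p + r) = q p * q r := fun p r => by
    have h1 : q (p + r) * q p * q r = 1 := (C.sq_add le_rfl O L p r).trans
      (kom_eq_one.2 (hcomm₁ _ (F.mem p) _ (F.mem r)))
    calc q (p + r) = q (p + r) * q p * q r * ((q p * q r))⁻¹ := by group
      _ = _ := by rw [h1, one_mul, inv_eq_of_mul_eq_one_right (C.exp _ (mul_mem (hqT p) (hqT r)))]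
  have hq0 : q 0 = 1 := by simp [q, F.zero]
  have hqi : ∀ p r, q p = q r → p = r := fun p r h => hinj h
  have hTeq : ∀ t ∈ T, ∃ w, q w = t := hsurjT
  have hmem1 : ∀ a ∈ Q₁, a * a = 1 → a ∈ T := fun a ha h => by
    obtain ⟨w, hw⟩ := F.cover a ha
    have : w = 0 := hqi w 0 (by
      rw [hq0]
      exact (C.sq_congr (hQ₁ (F.mem w)) hw).symm.trans h)
    subst this
    simpa [F.zero] using hw
  -- squares outside
  have hvT : v * v ∈ T := O.sq v hv
  have hv2 : v * v = 1 := by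
    obtain ⟨w, hw⟩ := hTeq _ hvT
    have hf : q (yV w) = q w := by
      show e (yV w) * e (yV w) = q w
      rw [hqy]
      show y * q w * y⁻¹ = q w
      rw [hw, show y * (v * v) * y⁻¹ = y * v * y⁻¹ * (y * v * y⁻¹) by group]
      exact C.sq_congr hv hy
    have hw0 : w = 0 := add_zero_fix w (by rw [hqi _ _ hf]; exact v3_add_self w)
    rw [← hw, hw0, hq0]
  -- commutation with `v`
  set ψ : V3 → G := fun w => kom (e w) v
  have hψT : ∀ w, ψ w ∈ T := fun w => O.comm _ (hQ₁ (F.mem w)) v hv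
  choose f hf using fun w => hTeq _ (hψT w)
  have hgv : v⁻¹ * (g * v * g⁻¹) ∈ Q₁ := by
    refine (hcover _ ((inferInstance : Q.Normal).conj_mem v hv g)).resolve_left fun h => hv1 ?_
    have := (inferInstance : Q₁.Normal).conj_mem _ h g⁻¹
    simpa [mul_assoc] using this
  have hψg : ∀ w, ψ (gV w) = g * ψ w * g⁻¹ := fun w => by
    set x := e (gV w)
    set b := v⁻¹ * (g * v * g⁻¹)
    have h1 : kom x (g * v * g⁻¹) = kom x v := by
      rw [show g * v * g⁻¹ = v * b by simp [b]]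
      calc kom x (v * b) = kom x v * (v * kom x b * v⁻¹) := by simp only [kom]; group
        _ = kom x v := by rw [kom_eq_one.2 (hcomm₁ _ (F.mem _) _ hgv)]; group
    calc ψ (gV w) = kom x (g * v * g⁻¹) := h1.symm
      _ = kom (g * e w * g⁻¹) (g * v * g⁻¹) :=
          (C.kom_congr (hQ₁ (F.mem _)) ((inferInstance : Q.Normal).conj_mem v hv g)
            ((inferInstance : Q.Normal).conj_mem v hv g) (F.gact w) (by rw [inv_mul_cancel]; exact one_mem T)).symm
      _ = _ := (kom_conj g _ _).symm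
  have hψy : ∀ w, ψ (yV w) = y * ψ w * y⁻¹ := fun w => by
    rw [kom_conj]
    exact (C.kom_congr (hQ₁ (F.mem _)) hv ((inferInstance : Q.Normal).conj_mem v hv y) (F.yact w) hy).symm
  have hf1 : (∀ w, f w = 0) ∨ (∀ w, f w = w) := by
    refine equivariant_cases f (fun p r => hqi _ _ ?_) (fun w => hqi _ _ ?_) (fun w => hqi _ _ ?_)
    · rw [hqadd, hf, hf, hf]; exact L.kom_add C le_rfl O hv p r
    · rw [hf, hψg, ← hf w]; exact (hqg _).symm
    · rw [hf, hψy, ← hf w]; exact (hqy _).symm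
  have hgmk : ∀ {g'}, g⁻¹ * g' ∈ Q → g' ^ 4 ∈ Q := fun {g'} hg => by
    have hm : (g' : G ⧸ Q) = g := (QuotientGroup.eq.2 hg).symm
    rw [← QuotientGroup.eq_one_iff, QuotientGroup.mk_pow, hm, ← QuotientGroup.mk_pow, QuotientGroup.eq_one_iff]
    exact S.g4
  rcases hf1 with h0 | h1
  · -- `Q` is abelian
    have hv₁ : ∀ a ∈ Q₁, a * v = v * a := fun a ha => by
      obtain ⟨w, hw⟩ := F.cover a ha
      rw [← kom_eq_one, C.kom_congr (hQ₁ (F.mem w)) hv hv hw (by rw [inv_mul_cancel]; exact one_mem T)]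
      show ψ w = 1
      rw [← hf, h0, hq0]
    have hQc : ∀ a ∈ Q, ∀ b ∈ Q₁, a * b = b * a := fun a ha b hb => by
      rcases hcover a ha with h | h
      · exact hcomm₁ a h b hb
      · have : a = v * (v⁻¹ * a) := by group
        rw [this, mul_assoc, hcomm₁ _ h b hb, ← mul_assoc, ← hv₁ b hb, mul_assoc]
    -- a lift fixed by `y`
    obtain ⟨p, hp⟩ := hTeq _ hy
    obtain ⟨r, hr⟩ := exists_fix_shift p
    set u := v * q r
    have hu : u ∈ Q := mul_mem hv (C.le (hqT r))
    have hu1 : u ∉ Q₁ := fun h => hv1 (by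
      have := mul_mem h (inv_mem (hTQ (hqT r)))
      simpa [u, mul_assoc] using this)
    have hu2 : u * u = 1 := (C.sq_congr hv (by simp [u, hqT r])).trans hv2
    have huy : y * u * y⁻¹ = u := by
      calc y * u * y⁻¹ = y * v * y⁻¹ * (y * q r * y⁻¹) := by simp only [u]; group
        _ = v * (v⁻¹ * (y * v * y⁻¹)) * q (yV r) := by
            rw [show y * q r * y⁻¹ = q (yV r) from (hqy r).symm]; group
        _ = v * q r := by rw [← hp, mul_assoc, ← hqadd, hr]
    have hcv : ∀ a ∈ Q, a * v = v * a := fun a ha => by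
      rcases hcover a ha with h | h
      · exact hv₁ a h
      · have : a = v * (v⁻¹ * a) := by group
        rw [this, mul_assoc, hv₁ _ h]
    have huc : ∀ a ∈ Q, a * u = u * a := fun a ha => by
      show a * (v * q r) = v * q r * a
      rw [← mul_assoc, hcv a ha, mul_assoc, mul_assoc, hQc a ha _ (hTQ (hqT r))]
    obtain ⟨d, hd⟩ : ∃ d, g * u * g⁻¹ = u * q d := by
      have hb : u⁻¹ * (g * u * g⁻¹) ∈ Q₁ := by
        have h1 : u⁻¹ * (g * u * g⁻¹) = (q r)⁻¹ * (v⁻¹ * (g * v * g⁻¹)) * (g * q r * g⁻¹) := by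
          simp only [u]; group
        rw [h1]
        exact mul_mem (mul_mem (inv_mem (hTQ (hqT r))) hgv) ((inferInstance : Q₁.Normal).conj_mem _ (hTQ (hqT r)) g)
      have hsq : u⁻¹ * (g * u * g⁻¹) * (u⁻¹ * (g * u * g⁻¹)) = 1 := by
        have hgu : (g * u * g⁻¹) * u⁻¹ = u⁻¹ * (g * u * g⁻¹) := by
          have := huc _ ((inferInstance : Q.Normal).conj_mem u hu g)
          exact (Commute.inv_right this).eq
        calc u⁻¹ * (g * u * g⁻¹) * (u⁻¹ * (g * u * g⁻¹)) = u⁻¹ * ((g * u * g⁻¹) * u⁻¹) * (g * u * g⁻¹) := by group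
          _ = (u * u)⁻¹ * (g * (u * u) * g⁻¹) := by rw [hgu]; group
          _ = 1 := by rw [hu2]; group
      obtain ⟨d, hd⟩ := hTeq _ (hmem1 _ hb hsq)
      exact ⟨d, by rw [show q d = _ from hd]; group⟩
    -- the relator
    have hstep : ∀ w, g * (u * q w) * g⁻¹ = u * q (gV w + d) := fun w => by
      calc g * (u * q w) * g⁻¹ = g * u * g⁻¹ * (g * q w * g⁻¹) := by group
        _ = u * (q d * q (gV w)) := by rw [hd, show g * q w * g⁻¹ = q (gV w) from (hqg w).symm, mul_assoc]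
        _ = _ := by rw [C.comm (hqT d) (hqT _), ← hqadd]
    have hstepy : ∀ w, y * (u * q w) * y⁻¹ = u * q (yV w) := fun w => by
      calc y * (u * q w) * y⁻¹ = y * u * y⁻¹ * (y * q w * y⁻¹) := by group
        _ = _ := by rw [huy, show y * q w * y⁻¹ = q (yV w) from (hqy w).symm]
    have hrel : (let f := fun w : V3 => gV w + d; f (f (f (yV (yV (f (yV (f (yV (yV 0)))))))))) = 0 := by
      refine hqi _ _ (mul_left_cancel (a := u) ?_)
      simp only
      rw [← hstep, ← hstep, ← hstep, ← hstepy, ← hstepy, ← hstep, ← hstepy, ← hstep, ← hstepy, ← hstepy, hq0,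
        mul_one]
      calc _ = rW g y * u * (rW g y)⁻¹ := by simp only [rW]; group
        _ = u := by rw [huc _ S.rel, mul_inv_cancel_right]
    rcases shift_cases d hrel with rfl | rfl
    · -- `u` is central
      have hz : u ∈ center G := S.central huc (by rw [hd, hq0, mul_one]) huy
      haveI : (zpowers u).Normal := ⟨fun k hk h => by
        have : k ∈ center G := (zpowers_le.2 hz) hk
        rw [mem_center_iff.1 this h, mul_inv_cancel_right]; exact hk⟩
      have hz2 : ∀ k ∈ zpowers u, k = 1 ∨ k = u := fun k hk => by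
        obtain ⟨i, rfl⟩ := mem_zpowers_iff.1 hk
        rcases Int.even_or_odd i with ⟨j, rfl⟩ | ⟨j, rfl⟩
        · exact Or.inl (by rw [← two_mul, zpow_mul, zpow_two, hu2, one_zpow])
        · exact Or.inr (by rw [zpow_add, zpow_mul, zpow_two, hu2, one_zpow, one_mul, zpow_one])
      refine false_of_homocyclic_mod S H hQ₁ (zpowers u) (zpowers_le.2 hu)
        (fun k hk hk' => (hz2 k hk').resolve_right fun h => hu1 (h ▸ hk))
        (fun a ha => Or.inl fun b hb => by rw [hQc a ha b hb, mul_inv_cancel_right]) ?_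
      intro g' hg _ _ _
      have h4 := hgmk hg
      rcases hcover _ h4 with h | h
      · exact ⟨_, h, by rw [inv_mul_cancel]; exact one_mem _⟩
      · refine ⟨q r * (v⁻¹ * g' ^ 4), mul_mem (hTQ (hqT r)) h, ?_⟩
        have hcr : q r * (v⁻¹ * g' ^ 4) = v * q r * g' ^ 4 := by
          have hvi : v⁻¹ = v := inv_eq_of_mul_eq_one_right hv2
          rw [hvi, ← mul_assoc, hv₁ _ (hTQ (hqT r))]
        rw [hcr, mul_inv_rev]
        have : (g' ^ 4)⁻¹ * (v * q r)⁻¹ * g' ^ 4 = u⁻¹ := by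
          show (g' ^ 4)⁻¹ * u⁻¹ * g' ^ 4 = u⁻¹
          rw [mul_assoc, ← (Commute.inv_right (huc _ h4 : Commute (g' ^ 4) u)).eq, inv_mul_cancel_left]
        rw [this]
        exact inv_mem (mem_zpowers u)
    · -- `u` is moved
      refine false_of_homocyclic S H hQ₁ (fun a ha => Or.inl fun b hb => by rw [hQc a ha b hb, mul_inv_cancel_right]) ?_
      intro g' hg hM _ _
      have h4 := hgmk hg
      rcases hcover _ h4 with h | h
      · exact h
      exfalso
      set w := u⁻¹ * g' ^ 4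
      have hwQ : w ∈ Q₁ := by
        have : w = (q r)⁻¹ * (v⁻¹ * g' ^ 4) := by simp only [w, u]; group
        rw [this]; exact mul_mem (inv_mem (hTQ (hqT r))) h
      have hF := H.frame (g' := g') fun b hb => by
        rw [hQc _ hg _ (mul_mem hb hb), mul_inv_cancel_right]
      obtain ⟨s, hs⟩ := hF.surj w hwQ
      have hgu : g' * u * g'⁻¹ = u * q (0, 1, 0) := by
        rw [← hd]
        calc g' * u * g'⁻¹ = g * ((g⁻¹ * g') * u * (g⁻¹ * g')⁻¹) * g⁻¹ := by group
          _ = _ := by rw [huc _ hg, mul_inv_cancel_right]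
      have hgw : g' * w * g'⁻¹ = (q (0, 1, 0))⁻¹ * w := by
        calc g' * w * g'⁻¹ = (g' * u * g'⁻¹)⁻¹ * g' ^ 4 := by simp only [w]; group
          _ = _ := by rw [hgu]; simp only [w]; group
      have hqd : co (e (1, 0, 0)) g' (0, 2, 0) = q (0, 1, 0) := by
        have h1 := hF.sq (0, 1, 0)
        rw [show ((0, 2, 0) : V4) = (0, 1, 0) + (0, 1, 0) by decide]
        show coord _ _ _ ((0, 1, 0) + (0, 1, 0) : V4) = _
        rw [hF.tr.add]
        refine h1.trans ?_
        rw [show red ((0, 1, 0) : V4) = ((0, 1, 0) : V3) by decide, (coord_one _ _ _).2.1]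
        exact (hqg _).symm
      refine not_fixed s (hF.inj ?_)
      show co _ g' (M4 s) = coord _ _ _ (s + (0, 2, 0) : V4)
      rw [hF.tr.add, show co (e (1, 0, 0)) g' (M4 s) = g' * co (e (1, 0, 0)) g' s * g'⁻¹ from (hM s).symm]
      show _ = co _ g' s * co _ g' (0, 2, 0)
      rw [hqd, hs, hgw, inv_eq_of_mul_eq_one_right (C.exp _ (hqT _)), C.cen _ (hqT _) w (hQ₁ hwQ)]
  · -- `v` inverts
    have hinv : ∀ b ∈ Q₁, v * b * v⁻¹ = b⁻¹ := fun b hb => by
      obtain ⟨w, hw⟩ := F.cover b hb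
      have hk : kom b v = b * b := by
        rw [C.kom_congr (hQ₁ (F.mem w)) hv hv hw (by rw [inv_mul_cancel]; exact one_mem T)]
        show ψ w = _
        rw [← hf, h1]
        exact (C.sq_congr (hQ₁ (F.mem w)) hw).symm
      simp only [kom] at hk
      have : v * b⁻¹ * v⁻¹ = b := mul_left_cancel (a := b) (by rw [← hk]; group)
      calc v * b * v⁻¹ = (v * b⁻¹ * v⁻¹)⁻¹ := by group
        _ = b⁻¹ := by rw [this]
    refine false_of_homocyclic S H hQ₁ (fun a ha => ?_) ?_
    · rcases hcover a ha with h | h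
      · exact Or.inl fun b hb => by rw [hcomm₁ a h b hb, mul_inv_cancel_right]
      · refine Or.inr fun b hb => ?_
        have : a = v * (v⁻¹ * a) := by group
        calc a * b * a⁻¹ = v * ((v⁻¹ * a) * b * (v⁻¹ * a)⁻¹) * v⁻¹ := by group
          _ = _ := by rw [hcomm₁ _ h b hb, mul_inv_cancel_right, hinv b hb]
    · intro g' hg _ hc _
      rcases hcover _ (hgmk hg) with h | h
      · exact h
      exfalso
      set x := e (1, 0, 0)
      have hx : x ∈ Q₁ := F.mem _
      have h3 : g' ^ 4 * x * (g' ^ 4)⁻¹ = x⁻¹ := by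
        calc g' ^ 4 * x * (g' ^ 4)⁻¹ = v * ((v⁻¹ * g' ^ 4) * x * (v⁻¹ * g' ^ 4)⁻¹) * v⁻¹ := by group
          _ = _ := by rw [hcomm₁ _ h x hx, mul_inv_cancel_right, hinv x hx]
      rw [hc x hx] at h3
      refine absurd (hqi (1, 0, 0) 0 ?_) (by decide)
      rw [hq0]
      show x * x = 1
      nth_rewrite 2 [h3]
      exact mul_inv_cancel x

end

end Cfsg.Agent.L32Radical
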