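import Cfsg.Agent.Lib.L32Radical.LevelOne

/-!
# Two chief layers below the radical

`Setting.level_two`: a chief layer below a radical `ℤ/4 × 2³` is impossible.
-/

set_option autoImplicit false

namespace Cfsg.Agent.L32Radical

open Subgroup

section

theorem two_add_zero_fix : ∀ p : V3, yV p + p = 0 → p = 0 := by decide

theorem four_steps_ne : ∀ u : V4, red u = (0, 1, 0) → (fun s => u + M4 s)^[4] 0 ≠ 0 := by decide +kernel

theorem c8_add : ∀ a b, c8 (a + b) = c8 a + c8 b := by decide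

theorem par8 : ∀ a b : ZMod 8, (((a + b).val : ℕ) : ZMod 2) = (a.val : ZMod 2) + (b.val : ZMod 2) := by decide

theorem lift8_zero : ∀ i : ZMod 8, ((i.val : ℕ) : ZMod 4) = 0 → ∃ p, i = c8 p := by decide

theorem lift8_one : ∀ i : ZMod 8, ((i.val : ℕ) : ZMod 4) = 1 → ∃ k, i = 1 + c8 k := by decide

theorem lift8 : ∀ j : ZMod 4, (((j.val : ZMod 8).val : ℕ) : ZMod 4) = j := by decide

theorem gS4_gens : gS c4 0 (0, 1, 0) 0 ((1, 0) : St 4) = (1, (0, 1, 0)) ∧
    (∀ w : V3, gS c4 0 (0, 1, 0) 0 ((0, w) : St 4) = (0, gV w)) := by decide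

variable {G : Type*} [Group G] [Finite G] {Q T : Subgroup G} [Q.Normal] [T.Normal] {g y : G}

/-- A chief layer below a radical `ℤ/4 × 2³` is impossible. -/
theorem Setting.level_two (S : Setting Q g y) (C : Chief Q T)
    (gen : ∀ K : Subgroup G, K.Normal → (∀ a ∈ Q, a * a ∈ K) → T ≤ K) {e : St 4 → G ⧸ T}
    (CC : Coords (Q.map (QuotientGroup.mk' T)) (g : G ⧸ T) (y : G ⧸ T) e (gS c4 0 (0, 1, 0) 0)) : False := by
  set π := QuotientGroup.mk' T with hπ
  have hTQ := C.le
  have hQn : Q.Normal := inferInstance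
  have e0 : e 0 = 1 := by
    have h := CC.add 0 0
    rw [add_zero] at h
    exact left_eq_mul.1 h
  have hmeq : ∀ {a b : G}, b⁻¹ * a ∈ T ↔ π a = π b := fun {a b} =>
    ⟨fun h => (QuotientGroup.eq.2 h).symm, fun h => QuotientGroup.eq.1 h.symm⟩
  have hone : ∀ {a : G}, a ∈ T ↔ π a = 1 := fun {a} => (QuotientGroup.eq_one_iff a).symm
  have hsurjπ : ∀ s, ∃ a ∈ Q, π a = e s := fun s => CC.mem s
  have hQe : ∀ {a : G}, a ∈ Q → ∃ s, e s = π a := fun {a} ha => CC.surj _ (mem_map_of_mem π ha)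
  have hkT : ∀ a ∈ Q, ∀ b ∈ Q, kom a b ∈ T := fun a ha b hb => by
    obtain ⟨s, hs⟩ := hQe ha
    obtain ⟨t, ht⟩ := hQe hb
    rw [hone, show π (kom a b) = kom (π a) (π b) by simp [kom], kom_eq_one, ← hs, ← ht, ← CC.add, ← CC.add,
      add_comm]
  have hyq : ∀ {a : G} {s : St 4}, π a = e s → π (y * a * y⁻¹) = e (yS s) := fun {a s} h => by
    rw [map_mul, map_mul, map_inv, h]; exact CC.yact s
  have hgq : ∀ {a : G} {s : St 4}, π a = e s → π (g * a * g⁻¹) = e (gS c4 0 (0, 1, 0) 0 s) := fun {a s} h => by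
    rw [map_mul, map_mul, map_inv, h]; exact CC.gact s
  obtain ⟨v, hv, hπv⟩ := hsurjπ (1, 0)
  choose l hl hπl using fun w : V3 => hsurjπ ((0, w) : St 4)
  set ew : V3 → G := fun w => if w = 0 then 1 else l w with hew
  have hπe : ∀ w, π (ew w) = e (0, w) := fun w => by
    by_cases h : w = 0
    · simp [hew, h, show ((0, 0) : St 4) = 0 from rfl, e0]
    · simp [hew, h, hπl]
  have heQ : ∀ w, ew w ∈ Q := fun w => by
    by_cases h : w = 0
    · simp [hew, h]
    · simp [hew, h, hl]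
  let E : Subgroup G :=
    { carrier := {a | a ∈ Q ∧ ∃ w : V3, π a = e (0, w)}
      one_mem' := ⟨one_mem Q, 0, by rw [map_one, show ((0, 0) : St 4) = 0 from rfl, e0]⟩
      mul_mem' := by
        rintro a b ⟨ha, s, hs⟩ ⟨hb, t, ht⟩
        exact ⟨mul_mem ha hb, s + t, by rw [map_mul, hs, ht, ← CC.add]; simp⟩
      inv_mem' := by
        rintro a ⟨ha, s, hs⟩
        refine ⟨inv_mem ha, s, ?_⟩
        rw [map_inv, hs, inv_eq_iff_mul_eq_one, ← CC.add, Prod.mk_add_mk, v3_add_self, add_zero,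
          show ((0, 0) : St 4) = 0 from rfl, e0] }
  have hEQ : E ≤ Q := fun a ha => ha.1
  have hTE : T ≤ E := fun t ht => ⟨hTQ ht, 0, by rw [hone.1 ht, show ((0, 0) : St 4) = 0 from rfl, e0]⟩
  haveI hEn : E.Normal := by
    refine S.normal ?_ ?_ ?_
    · rintro a ha k ⟨hk, w, hw⟩
      refine ⟨hQn.conj_mem k hk a, w, ?_⟩
      obtain ⟨s, hs⟩ := hQe ha
      rw [map_mul, map_mul, map_inv, hw, ← hs, ← CC.add, add_comm, CC.add, mul_inv_cancel_right]
    · rintro k ⟨hk, w, hw⟩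
      exact ⟨hQn.conj_mem k hk g, gV w, by rw [hgq hw, gS4_gens.2]⟩
    · rintro k ⟨hk, w, hw⟩
      exact ⟨hQn.conj_mem k hk y, yV w, hyq hw⟩
  have O : Over E T := ⟨fun a ha => by
      obtain ⟨-, w, hw⟩ := ha
      rw [hone, map_mul, hw, ← CC.add, Prod.mk_add_mk, v3_add_self, add_zero,
        show ((0, 0) : St 4) = 0 from rfl, e0],
    fun a ha b hb => hkT a (hEQ ha) b (hEQ hb)⟩
  have F : Frame3 E T g y ew := by
    refine { mem := fun w => ⟨heQ w, w, hπe w⟩, zero := by simp [hew], add := fun a b => ?_,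
             indep := fun w hw => ?_, yact := fun w => ?_, cover := fun a ha => ?_, gact := fun w => ?_ }
    · rw [hmeq, map_mul, hπe, hπe, hπe, ← CC.add]; simp
    · have h := hone.1 hw
      rw [hπe, ← e0] at h
      exact congrArg Prod.snd (CC.inj h)
    · rw [hmeq, hyq (hπe w), hπe]; rfl
    · obtain ⟨-, w, hw⟩ := ha
      exact ⟨w, hmeq.2 (by rw [hw, hπe])⟩
    · rw [hmeq, hgq (hπe w), hπe, gS4_gens.2]
  obtain ⟨hcomm₁, hcard, hcase⟩ := S.sec_cases C hEQ hTE O F
  -- the cyclic generator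
  have hkk : ∀ a ∈ Q, v * v * a = a * (v * v) := fun a ha => by
    rw [← kom_eq_one, C.kom_mul hv ha (hkT v hv a ha), C.exp _ (hkT v hv a ha)]
  have hyvT : v⁻¹ * (y * v * y⁻¹) ∈ T := hmeq.2 (by
    rw [hyq hπv, hπv, show yS ((1, 0) : St 4) = (1, 0) from rfl])
  have hyv2 : y * (v * v) * y⁻¹ = v * v := by
    rw [show y * (v * v) * y⁻¹ = y * v * y⁻¹ * (y * v * y⁻¹) by group]
    exact C.sq_congr hv hyvT
  set a0 := v⁻¹ * (g * v * g⁻¹) with ha0
  have hgv : g * v * g⁻¹ = v * a0 := by rw [ha0]; group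
  have hπa0 : π a0 = e (0, (0, 1, 0)) := by
    rw [ha0, map_mul, map_inv, hgq hπv, hπv, gS4_gens.1, inv_mul_eq_iff_eq_mul, ← CC.add]; simp
  have ha0E : a0 ∈ E := ⟨mul_mem (inv_mem hv) (hQn.conj_mem v hv g), _, hπa0⟩
  have hdec : ∀ a ∈ Q, ∃ i : ℕ, ∃ b ∈ E, a = v ^ i * b := fun a ha => by
    obtain ⟨⟨j, w⟩, hs⟩ := hQe ha
    refine ⟨j.val, (v ^ j.val)⁻¹ * a, ⟨mul_mem (inv_mem (pow_mem hv _)) ha, w, ?_⟩, by group⟩
    have hp : ∀ k : ℕ, π v ^ k = e ((k : ZMod 4), 0) := fun k => by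
      induction k with
      | zero => simp [show ((0, 0) : St 4) = 0 from rfl, e0]
      | succ k ih => rw [pow_succ, ih, hπv, ← CC.add]; simp
    rw [map_mul, map_inv, map_pow, hp, ← hs, inv_mul_eq_iff_eq_mul, ← CC.add]
    simp
  have hv2E : v * v ∉ E := fun h => by
    obtain ⟨-, w, hw⟩ := h
    rw [map_mul, hπv, ← CC.add] at hw
    have h2 : ((1 : ZMod 4) + 1) = 0 := congrArg Prod.fst (CC.inj hw)
    exact absurd h2 (by decide)
  set ψ : V3 → G := fun w => kom (ew w) v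
  have hψT : ∀ w, ψ w ∈ T := fun w => hkT _ (heQ w) v hv
  have hψadd : ∀ p r, ψ (p + r) = ψ p * ψ r := fun p r => by
    show kom (ew (p + r)) v = _
    rw [C.kom_congr (mul_mem (heQ p) (heQ r)) hv hv (F.add p r) (by rw [inv_mul_cancel]; exact one_mem T)]
    exact C.kom_mul (heQ p) hv (hkT _ (heQ r) v hv)
  have hψy : ∀ w, ψ (yV w) = y * ψ w * y⁻¹ := fun w => by
    rw [kom_conj]
    exact (C.kom_congr (heQ _) hv (hQn.conj_mem v hv y) (F.yact w) hyvT).symm
  have hψg : ∀ w, ψ (gV w) = g * ψ w * g⁻¹ := fun w => by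
    have h1 : kom (ew (gV w)) (g * v * g⁻¹) = kom (ew (gV w)) v := by
      rw [hgv]
      calc kom (ew (gV w)) (v * a0) = kom (ew (gV w)) v * (v * kom (ew (gV w)) a0 * v⁻¹) := by
            simp only [kom]; group
        _ = _ := by rw [kom_eq_one.2 (hcomm₁ _ (F.mem _) _ ha0E)]; group
    calc ψ (gV w) = kom (ew (gV w)) (g * v * g⁻¹) := h1.symm
      _ = kom (g * ew w * g⁻¹) (g * v * g⁻¹) :=
          (C.kom_congr (heQ _) (hQn.conj_mem v hv g) (hQn.conj_mem v hv g) (F.gact w)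
            (by rw [inv_mul_cancel]; exact one_mem T)).symm
      _ = _ := (kom_conj g _ _).symm
  have habel : (∀ w, ψ w = 1) → ∀ a ∈ Q, ∀ b ∈ Q, a * b = b * a := by
    intro h
    have hvE : ∀ b ∈ E, Commute v b := fun b hb => by
      obtain ⟨w, hw⟩ := F.cover b hb
      refine Commute.symm (kom_eq_one.1 ?_)
      rw [C.kom_congr (heQ w) hv hv hw (by rw [inv_mul_cancel]; exact one_mem T)]
      exact h w
    intro a ha b hb
    obtain ⟨i, a', ha', rfl⟩ := hdec a ha
    obtain ⟨j, b', hb', rfl⟩ := hdec b hb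
    have c1 : Commute (v ^ i) (v ^ j * b') := (Commute.refl v |>.pow_pow i j).mul_right ((hvE b' hb').pow_left i)
    have c2 : Commute a' (v ^ j * b') := ((hvE a' ha').symm.pow_right j).mul_right (hcomm₁ a' ha' b' hb')
    exact c1.mul_left c2
  rcases hcase with hsq | ⟨H, hT8, hinj, hsurjT, hqg, hqy⟩
  · -- elementary
    have h16 := S.elem_le hsq
    haveI : Nontrivial T := T.nontrivial_iff_ne_bot.2 C.ne
    have h2 : Nat.card T = 2 := by
      have := Finite.one_lt_card (α := T)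
      omega
    obtain ⟨z, hzT, hz1, hT, hzc⟩ := C.two h2
    have hψ1 : ∀ w, ψ w = 1 := fun w => yinv_trivial ψ hψadd (fun p => by
      rw [hψy]
      rcases hT _ (hψT p) with h | h <;> rw [h]
      · group
      · exact hzc y) w
    have hcomm := habel hψ1
    have hv4T : v ^ 4 ∈ T := by
      rw [hone, map_pow, hπv, show e (1, 0) ^ 4 = e (1, 0) * e (1, 0) * (e (1, 0) * e (1, 0)) by
        simp [pow_succ, mul_assoc], ← CC.add, ← CC.add]
      exact e0
    have hv4 : v ^ 4 = z := by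
      refine (hT _ hv4T).resolve_left fun h => ?_
      have hz2 : v * v * (v * v) = 1 := by rw [← h]; simp [pow_succ, mul_assoc]
      have hzz : v * v ∈ center G := S.central (fun a ha => (hkk a ha).symm)
        (by
          rw [show g * (v * v) * g⁻¹ = g * v * g⁻¹ * (g * v * g⁻¹) by group, hgv,
            show v * a0 * (v * a0) = v * (a0 * v) * a0 by group, hcomm a0 (hEQ ha0E) v hv,
            show v * (v * a0) * a0 = v * v * (a0 * a0) by group, hsq a0 ha0E, mul_one]) hyv2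
      haveI : (zpowers (v * v)).Normal := ⟨fun k hk x => by
        rw [mem_center_iff.1 ((zpowers_le.2 hzz) hk) x, mul_inv_cancel_right]; exact hk⟩
      have hTK := gen (zpowers (v * v)) inferInstance fun a ha => by
        obtain ⟨i, b, hb, rfl⟩ := hdec a ha
        have hc : Commute b (v ^ i) := Commute.pow_right (hcomm b (hEQ hb) v hv) i
        rw [show v ^ i * b * (v ^ i * b) = v ^ i * (b * v ^ i) * b by group, hc.eq,
          show v ^ i * (v ^ i * b) * b = v ^ i * v ^ i * (b * b) by group, hsq b hb, mul_one,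
          ← (Commute.refl v).mul_pow i]
        exact pow_mem (mem_zpowers _) i
      obtain ⟨i, hi⟩ := mem_zpowers_iff.1 (hTK hzT)
      rcases Int.even_or_odd i with ⟨j, rfl⟩ | ⟨j, rfl⟩
      · exact hz1 (by rw [← hi, ← two_mul, zpow_mul, zpow_two, hz2, one_zpow])
      · refine hv2E (hTE ?_)
        rw [zpow_add, zpow_mul, zpow_two, hz2, one_zpow, one_mul, zpow_one] at hi
        exact hi ▸ hzT
    have hy1 : y * v * y⁻¹ = v := by
      rcases hT _ hyvT with h | h
      · exact (inv_mul_eq_one.1 h).symm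
      · exfalso
        have h' : y * v * y⁻¹ = v * z := by rw [← h]; group
        have key : ∀ i : ℕ, y ^ i * v * (y ^ i)⁻¹ = v * z ^ i := fun i => by
          induction i with
          | zero => simp
          | succ i ih =>
            calc y ^ (i + 1) * v * (y ^ (i + 1))⁻¹ = y * (y ^ i * v * (y ^ i)⁻¹) * y⁻¹ := by rw [pow_succ']; group
              _ = (y * v * y⁻¹) * (y * z * y⁻¹) ^ i := by rw [ih, conj_pow]; group
              _ = v * z ^ (i + 1) := by rw [h', hzc, pow_succ', mul_assoc]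
        have h7 := key 7
        rw [S.y7, one_mul, inv_one, mul_one, left_eq_mul] at h7
        apply hz1
        calc z = z ^ 7 * (z * z)⁻¹ * (z * z)⁻¹ * (z * z)⁻¹ := by group
          _ = 1 := by rw [h7, C.exp z hzT]; group
    obtain ⟨a, b, c, ha, hb, hc, tr, hyab, hco⟩ := exact_lifts S C h2 hTE hcomm₁ hsq F
    have hv8 : v ^ 8 = 1 := by
      rw [show v ^ 8 = v ^ 4 * v ^ 4 by rw [← pow_add], hv4, C.exp z hzT]
    have hπc : ∀ w, π (coord a b c w) = e (0, w) := fun w => (hmeq.1 (hco w)).trans (hπe w)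
    have hp : ∀ k : ℕ, π v ^ k = e ((k : ZMod 4), 0) := fun k => by
      induction k with
      | zero => simp [show ((0, 0) : St 4) = 0 from rfl, e0]
      | succ k ih => rw [pow_succ, ih, hπv, ← CC.add]; simp
    have hπs : ∀ s : St 8, π (stc v a b c s) = e (((s.1.val : ℕ) : ZMod 4), s.2) := fun s => by
      show π (v ^ s.1.val * coord a b c s.2) = _
      rw [map_mul, map_pow, hp, hπc, ← CC.add]; simp
    have cv : ∀ x ∈ E, Commute v x := fun x hx => hcomm v hv x (hEQ hx)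
    haveI : Fact (1 < 8) := ⟨by norm_num⟩
    have add := stc_add (n := 8) hv8 tr (cv a ha) (cv b hb) (cv c hc)
    obtain ⟨E0, E1, E2, E3⟩ := stc_gens (n := 8) v a b c
    have hker : ∀ s : St 8, stc v a b c s = 1 → s = 0 := by
      rintro ⟨i, w⟩ h
      have h1 := hπs (i, w)
      rw [h, map_one, ← e0] at h1
      have h2' := CC.inj h1
      obtain ⟨hi, hw⟩ : ((i.val : ℕ) : ZMod 4) = 0 ∧ w = 0 :=
        ⟨(congrArg Prod.fst h2').symm, (congrArg Prod.snd h2').symm⟩
      subst hw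
      obtain ⟨p, rfl⟩ := lift8_zero i hi
      have h3 : v ^ (c8 p).val = 1 := by simpa [stc, coord_zero] using h
      obtain rfl | rfl : p = 0 ∨ p = 1 := (by decide : ∀ p : ZMod 2, p = 0 ∨ p = 1) p
      · rfl
      · exact absurd (show v ^ 4 = 1 from h3) (by rw [hv4]; exact hz1)
    have hinj8 : Function.Injective (stc (n := 8) v a b c) := fun s t h => by
      refine sub_eq_zero.1 (hker _ (mul_right_cancel (b := stc v a b c t) ?_))
      rw [← add, sub_add_cancel, h, one_mul]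
    have hsurj : ∀ q ∈ Q, ∃ s, stc (n := 8) v a b c s = q := fun q hq => by
      obtain ⟨⟨j, w⟩, hs⟩ := hQe hq
      set s₀ : St 8 := ((j.val : ZMod 8), w)
      have hm : (stc v a b c s₀)⁻¹ * q ∈ T := hmeq.2 (by rw [hπs, ← hs]; simp only [s₀, lift8])
      rcases hT _ hm with h | h
      · exact ⟨s₀, (inv_mul_eq_one.1 h)⟩
      · refine ⟨s₀ + (4, 0), ?_⟩
        rw [add, show stc v a b c ((4, 0) : St 8) = z from by
          show v ^ 4 * coord a b c 0 = z
          rw [coord_zero, mul_one, hv4], ← h]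
        group
    obtain ⟨⟨i₀, ω⟩, hgv'⟩ := hsurj _ (hQn.conj_mem v hv g)
    obtain ⟨hi₀, hω⟩ : ((i₀.val : ℕ) : ZMod 4) = 1 ∧ ω = (0, 1, 0) := by
      have h1 := hπs (i₀, ω)
      rw [hgv', hgq hπv, gS4_gens.1] at h1
      exact ⟨(congrArg Prod.fst (CC.inj h1)).symm, (congrArg Prod.snd (CC.inj h1)).symm⟩
    subst hω
    obtain ⟨k, rfl⟩ := lift8_one i₀ hi₀
    have hgw : ∀ w, ∃ p : ZMod 2, g * coord a b c w * g⁻¹ = stc v a b c (c8 p, gV w) := fun w => by
      have hcQ : coord a b c w ∈ Q := hEQ (mul_mem (mul_mem (pow_mem ha _) (pow_mem hb _)) (pow_mem hc _))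
      obtain ⟨⟨i, w'⟩, hw'⟩ := hsurj _ (hQn.conj_mem _ hcQ g)
      have h1 := hπs (i, w')
      rw [hw', hgq (hπc w), gS4_gens.2] at h1
      obtain ⟨hi, hww⟩ : ((i.val : ℕ) : ZMod 4) = 0 ∧ w' = gV w :=
        ⟨(congrArg Prod.fst (CC.inj h1)).symm, (congrArg Prod.snd (CC.inj h1)).symm⟩
      obtain ⟨p, rfl⟩ := lift8_zero i hi
      exact ⟨p, by rw [← hw', hww]⟩
    obtain ⟨p1, hp1⟩ := hgw (1, 0, 0)
    obtain ⟨p2, hp2⟩ := hgw (0, 1, 0)
    obtain ⟨p3, hp3⟩ := hgw (0, 0, 1)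
    obtain ⟨G1, G2, G3⟩ := coord_one a b c
    rw [G1] at hp1
    rw [G2] at hp2
    rw [G3] at hp3
    have key : ∀ (p1 p2 p3 k : ZMod 2) (ω : V3),
        gS c8 (p1, p2, p3) ω k ((1, 0) : St 8) = (1 + c8 k, ω) ∧
        gS c8 (p1, p2, p3) ω k ((0, (1, 0, 0)) : St 8) = (c8 p1, gV (1, 0, 0)) ∧
        gS c8 (p1, p2, p3) ω k ((0, (0, 1, 0)) : St 8) = (c8 p2, gV (0, 1, 0)) ∧
        gS c8 (p1, p2, p3) ω k ((0, (0, 0, 1)) : St 8) = (c8 p3, gV (0, 0, 1)) := by decide +kernel
    obtain ⟨K0, K1, K2, K3⟩ := key p1 p2 p3 k (0, 1, 0)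
    have CQ : Coords Q g y (stc (n := 8) v a b c) (gS c8 (p1, p2, p3) (0, 1, 0) k) :=
      Coords.of_gens hv8 tr (cv a ha) (cv b hb) (cv c hc) hinj8 ⟨hv, hEQ ha, hEQ hb, hEQ hc⟩
        hsurj (gS_add c8_add par8 _ _ _) (by rw [K0]; exact hgv'.symm) (by rw [K1]; exact hp1)
        (by rw [K2]; exact hp2) (by rw [K3]; exact hp3) hy1 hyab
    obtain ⟨rfl, ⟨-, h⟩ | ⟨-, h⟩ | ⟨hφ, -⟩⟩ := params8 (p1, p2, p3) (0, 1, 0) k fun s _ => CQ.relators S s
    · exact absurd h (by decide)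
    · exact absurd h (by decide)
    · rw [hφ] at CQ
      exact false_of_model S _ CQ.add CQ.inj CQ.mem CQ.surj _ CQ.gact CQ.yact period8 cert8
  -- homocyclic
  set q : V3 → G := fun w => ew w * ew w with hq
  have hqT : ∀ w, q w ∈ T := fun w => O.sq _ (F.mem w)
  have hqadd : ∀ p r, q (p + r) = q p * q r := fun p r => by
    have h1 : q (p + r) * q p * q r = 1 := (C.sq_add hEQ O F.toLifts p r).trans
      (kom_eq_one.2 (hcomm₁ _ (F.mem p) _ (F.mem r)))
    calc q (p + r) = q (p + r) * q p * q r * ((q p * q r))⁻¹ := by group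
      _ = _ := by rw [h1, one_mul, inv_eq_of_mul_eq_one_right (C.exp _ (mul_mem (hqT p) (hqT r)))]
  have hq0 : q 0 = 1 := by simp [q, F.zero]
  have hqi : ∀ p r, q p = q r → p = r := fun p r h => hinj h
  choose f hf using fun w => hsurjT _ (hψT w)
  have hf1 : (∀ w, f w = 0) ∨ (∀ w, f w = w) := by
    refine equivariant_cases f (fun p r => hqi _ _ ?_) (fun w => hqi _ _ ?_) (fun w => hqi _ _ ?_)
    · rw [hqadd]
      show q (f (p + r)) = q (f p) * q (f r)
      rw [show q (f (p + r)) = _ from hf _, show q (f p) = _ from hf p, show q (f r) = _ from hf r]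
      exact hψadd p r
    · rw [show q (f (gV w)) = _ from hf _, hψg, show q (gV (f w)) = _ from hqg _]
      show g * ψ w * g⁻¹ = g * q (f w) * g⁻¹
      rw [show q (f w) = _ from hf w]
    · rw [show q (f (yV w)) = _ from hf _, hψy, show q (yV (f w)) = _ from hqy _]
      show y * ψ w * y⁻¹ = y * q (f w) * y⁻¹
      rw [show q (f w) = _ from hf w]
  have hgmk : ∀ {g'}, g⁻¹ * g' ∈ Q → g' ^ 4 ∈ Q := fun {g'} hg => by
    have hm : (g' : G ⧸ Q) = g := (QuotientGroup.eq.2 hg).symm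
    rw [← QuotientGroup.eq_one_iff, QuotientGroup.mk_pow, hm, ← QuotientGroup.mk_pow, QuotientGroup.eq_one_iff]
    exact S.g4
  rcases hf1 with h0 | h1
  · -- abelian
    have hcomm := habel fun w => by rw [← hf w, h0]; exact hq0
    refine false_of_homocyclic S H hEQ (fun a ha => Or.inl fun b hb => by
      rw [hcomm a ha b (hEQ hb), mul_inv_cancel_right]) ?_
    intro g' hg hM _ _
    exfalso
    have hF := H.frame (g' := g') fun b hb => by
      rw [hcomm _ hg _ (hEQ (mul_mem hb hb)), mul_inv_cancel_right]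
    obtain ⟨u, hu⟩ := hF.surj a0 ha0E
    have hred : red u = (0, 1, 0) := by
      refine H.nat.injective ?_
      rw [← hF.sq u, hu, (coord_one _ _ _).2.1, C.sq_congr (heQ (0, 1, 0)) (hmeq.2 (by rw [hπa0, hπe]))]
      exact hqg (1, 0, 0)
    have hgv2 : g' * v * g'⁻¹ = v * co (ew (1, 0, 0)) g' u := by
      rw [hu, ← hgv]
      calc g' * v * g'⁻¹ = g * ((g⁻¹ * g') * v * (g⁻¹ * g')⁻¹) * g⁻¹ := by group
        _ = _ := by rw [hcomm _ hg v hv, mul_inv_cancel_right]
    have hit : ∀ k : ℕ, g' ^ k * v * (g' ^ k)⁻¹ = v * co (ew (1, 0, 0)) g' ((fun s => u + M4 s)^[k] 0) := fun k => by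
      induction k with
      | zero => simp [co, coord_zero]
      | succ k ih =>
        rw [Function.iterate_succ_apply']
        set s := (fun s => u + M4 s)^[k] 0
        calc g' ^ (k + 1) * v * (g' ^ (k + 1))⁻¹ = g' * (g' ^ k * v * (g' ^ k)⁻¹) * g'⁻¹ := by rw [pow_succ']; group
          _ = g' * v * g'⁻¹ * (g' * co (ew (1, 0, 0)) g' s * g'⁻¹) := by rw [ih]; group
          _ = v * (co (ew (1, 0, 0)) g' u * co (ew (1, 0, 0)) g' (M4 s)) := by
              rw [hgv2, show g' * co (ew (1, 0, 0)) g' s * g'⁻¹ = co (ew (1, 0, 0)) g' (M4 s) from hM s, mul_assoc]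
          _ = _ := by simp only [co]; rw [hF.tr.add]
    have h4 := hit 4
    rw [hcomm _ (hgmk hg) v hv, mul_inv_cancel_right, left_eq_mul] at h4
    exact four_steps_ne u hred (hF.inj (h4.trans (coord_zero _ _ _).symm))
  · -- inverting
    have hinv : ∀ b ∈ E, v * b * v⁻¹ = b⁻¹ := fun b hb => by
      obtain ⟨w, hw⟩ := F.cover b hb
      have hk : kom b v = b * b := by
        rw [C.kom_congr (heQ w) hv hv hw (by rw [inv_mul_cancel]; exact one_mem T)]
        show ψ w = _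
        rw [← hf, h1]
        exact (C.sq_congr (heQ w) hw).symm
      simp only [kom] at hk
      have : v * b⁻¹ * v⁻¹ = b := mul_left_cancel (a := b) (by rw [← hk]; group)
      calc v * b * v⁻¹ = (v * b⁻¹ * v⁻¹)⁻¹ := by group
        _ = b⁻¹ := by rw [this]
    have hv4 : v * v * (v * v) = 1 := by
      have hT4 : v * v * (v * v) ∈ T := by
        rw [hone, map_mul, map_mul, hπv, ← CC.add, ← CC.add]; exact e0
      obtain ⟨w, hw⟩ := hsurjT _ hT4
      have hfix : q (yV w) = q w := by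
        rw [show q (yV w) = _ from hqy w]
        show y * q w * y⁻¹ = q w
        rw [show q w = _ from hw,
          show y * (v * v * (v * v)) * y⁻¹ = y * (v * v) * y⁻¹ * (y * (v * v) * y⁻¹) by group, hyv2]
      have hw0 : w = 0 := two_add_zero_fix w (by rw [hqi _ _ hfix]; exact v3_add_self w)
      rw [← hw, hw0]; exact hq0
    have hz : v * v ∈ center G := S.central (fun a ha => (hkk a ha).symm)
      (by
        rw [show g * (v * v) * g⁻¹ = g * v * g⁻¹ * (g * v * g⁻¹) by group, hgv,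
          show v * a0 * (v * a0) = (v * a0 * v⁻¹) * (v * v * a0) by group, hinv a0 ha0E, hkk a0 (hEQ ha0E),
          inv_mul_cancel_left]) hyv2
    haveI : (zpowers (v * v)).Normal := ⟨fun k hk x => by
      rw [mem_center_iff.1 ((zpowers_le.2 hz) hk) x, mul_inv_cancel_right]; exact hk⟩
    have hpar : ∀ j : ℕ, ∀ b ∈ E, (v * v) ^ j * b * ((v * v) ^ j)⁻¹ = b := fun j b hb => by
      rw [(Commute.pow_left (hkk b (hEQ hb)) j).eq, mul_inv_cancel_right]
    refine false_of_homocyclic_mod S H hEQ (zpowers (v * v)) (zpowers_le.2 (mul_mem hv hv))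
      (fun k hk hk' => ?_) (fun a ha => ?_) ?_
    · obtain ⟨i, rfl⟩ := mem_zpowers_iff.1 hk'
      rcases Int.even_or_odd i with ⟨j, rfl⟩ | ⟨j, rfl⟩
      · rw [← two_mul, zpow_mul, zpow_two, hv4, one_zpow]
      · rw [zpow_add, zpow_mul, zpow_two, hv4, one_zpow, one_mul, zpow_one] at hk
        exact absurd hk hv2E
    · obtain ⟨i, b, hb, rfl⟩ := hdec a ha
      rcases Nat.even_or_odd i with ⟨j, rfl⟩ | ⟨j, rfl⟩
      · refine Or.inl fun x hx => ?_
        rw [pow_add, ← (Commute.refl v).mul_pow j]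
        calc (v * v) ^ j * b * x * ((v * v) ^ j * b)⁻¹ = (v * v) ^ j * (b * x * b⁻¹) * ((v * v) ^ j)⁻¹ := by group
          _ = x := by rw [hcomm₁ b hb x hx, mul_inv_cancel_right, hpar j x hx]
      · refine Or.inr fun x hx => ?_
        rw [pow_succ, pow_mul, pow_two]
        calc (v * v) ^ j * v * b * x * ((v * v) ^ j * v * b)⁻¹ =
              (v * v) ^ j * (v * (b * x * b⁻¹) * v⁻¹) * ((v * v) ^ j)⁻¹ := by group
          _ = x⁻¹ := by rw [hcomm₁ b hb x hx, mul_inv_cancel_right, hinv x hx, hpar j _ (inv_mem hx)]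
    · intro g' hg _ hc _
      obtain ⟨i, b, hb, hgb⟩ := hdec _ (hgmk hg)
      rcases Nat.even_or_odd i with ⟨j, rfl⟩ | ⟨j, rfl⟩
      · refine ⟨b, hb, ?_⟩
        rw [hgb, pow_add, ← (Commute.refl v).mul_pow j, (Commute.pow_left (hkk b (hEQ hb)) j).eq,
          inv_mul_cancel_left]
        exact pow_mem (mem_zpowers _) j
      · exfalso
        set x := ew (1, 0, 0)
        have hx : x ∈ E := F.mem _
        have h3 := hc x hx
        rw [hgb, pow_succ, pow_mul, pow_two] at h3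
        have h5 : x⁻¹ = x := by
          calc x⁻¹ = (v * v) ^ j * (v * (b * x * b⁻¹) * v⁻¹) * ((v * v) ^ j)⁻¹ := by
                rw [hcomm₁ b hb x hx, mul_inv_cancel_right, hinv x hx, hpar j _ (inv_mem hx)]
            _ = x := by
                conv_rhs => rw [← h3]
                group
        refine absurd (hqi (1, 0, 0) 0 ?_) (by decide)
        rw [hq0]
        show x * x = 1
        exact mul_eq_one_iff_eq_inv.2 h5.symm

end

end Cfsg.Agent.L32Radical
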