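import Cfsg.Agent.Lib.L32Radical.LevelOne

/-!
# One chief layer below the radical: a fixed line with natural quotient

`Setting.lines_false`: `Q/T` a nonsplit extension of a natural module by a fixed line is impossible.
-/

set_option autoImplicit false

namespace Cfsg.Agent.L32Radical

open Subgroup

section

theorem line_shift_cases : ∀ d : V3,
    (let f := fun w : V3 => gV w + d; f (f (f (yV (yV (f (yV (f (yV (yV 0)))))))))) = 0 → d = 0 ∨ d = (0, 1, 0) := by
  decide +kernel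

theorem line_fix_shift : ∀ p : V3, ∃ r : V3, p + yV r = r := by decide

/-- No shifted equivariant map on the nonzero vectors. -/
theorem line_map_none : ∀ t : V3, ¬ ∀ k j : Fin 7, gV (yV^[k.val] (1, 0, 0)) = yV^[j.val] (1, 0, 0) →
    yV^[j.val] t + (yV^[k.val] ((1, 0, 0) : V3)).1.val • gV (yV^[k.val] (1, 0, 0)) = gV (yV^[k.val] t) := by
  decide +kernel

/-- The action of the lift of `g` on `4³ × 2`. -/
def lineS (r : V4) (s : V4 × ZMod 2) : V4 × ZMod 2 :=
  (s.1.1.val • ((0, 1, 0) : V4) + s.1.2.1.val • ((0, 0, 1) : V4) + s.1.2.2.val • r + s.2.val • ((0, 2, 0) : V4),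
    s.2 + (s.1.2.2.val : ZMod 2))

theorem lineS_four : ∀ r : V4, red r = (1, 1, 1) → ∃ w : V4, red w ≠ 0 ∧
    (lineS r)^[4] ((1, 0, 0), 0) = ((1, 0, 0) + (w + w), 0) := by decide +kernel

theorem red_lift : ∀ w : V3, ∃ x : V4, red x = w ∧ red ((1, 1, 1) + (x + x)) = (1, 1, 1) := by decide +kernel

variable {G : Type*} [Group G] [Finite G] {Q T : Subgroup G} [Q.Normal] {g y c : G} {e : V3 → G}

/-- A fixed line modulo `T`, generated by `c`, with natural quotient and twisted action of `g`. -/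
structure LineFrame (Q T : Subgroup G) (g y c : G) (e : V3 → G) : Prop extends Lifts Q T y e where
  cmem : c ∈ Q
  cg : c⁻¹ * (g * c * g⁻¹) ∈ T
  cy : c⁻¹ * (y * c * y⁻¹) ∈ T
  cind : ∀ v, e v * c ∉ T
  cover : ∀ a ∈ Q, ∃ v, (e v)⁻¹ * a ∈ T ∨ (e v * c)⁻¹ * a ∈ T
  gact : ∀ v, (e (gV v) * c ^ v.1.val)⁻¹ * (g * e v * g⁻¹) ∈ T

theorem LineFrame.c_not_mem (L : LineFrame Q T g y c e) : c ∉ T := fun h => L.cind 0 (by rwa [L.zero, one_mul])

theorem Chief.sq_mul (C : Chief Q T) (O : Over Q T) {a b : G} (ha : a ∈ Q) (hb : b ∈ Q) :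
    a * b * (a * b) = kom a b * (a * a) * (b * b) := by
  calc a * b * (a * b) = kom a b * (b * (a * a) * b) := by simp only [kom]; group
    _ = kom a b * ((a * a) * b * b) := by rw [C.cen _ (O.sq a ha) b hb]
    _ = _ := by group

/-- Squares of a shifted lift. -/
theorem LineFrame.gsq (L : LineFrame Q T g y c e) (C : Chief Q T) (O : Over Q T) (hc2 : c * c = 1) (v : V3) :
    g * (e v * e v) * g⁻¹ = kom (e (gV v)) c ^ v.1.val * (e (gV v) * e (gV v)) := by
  have h : g * e v * g⁻¹ * (g * e v * g⁻¹) = e (gV v) * c ^ v.1.val * (e (gV v) * c ^ v.1.val) :=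
    C.sq_congr (mul_mem (L.mem _) (pow_mem L.cmem _)) (L.gact v)
  rw [show g * (e v * e v) * g⁻¹ = g * e v * g⁻¹ * (g * e v * g⁻¹) by group, h]
  obtain h0 | h0 : v.1 = 0 ∨ v.1 = 1 := by generalize v.1 = i; revert i; decide
  · simp [h0]
  · rw [h0, ZMod.val_one, pow_one, pow_one, C.sq_mul O (L.mem _) L.cmem, hc2, mul_one]

theorem LineFrame.kom_g (L : LineFrame Q T g y c e) (C : Chief Q T) (v : V3) :
    kom (e (gV v)) c = g * kom (e v) c * g⁻¹ := by
  rw [kom_conj, C.kom_congr (mul_mem (L.mem _) (pow_mem L.cmem _)) L.cmem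
    ((inferInstance : Q.Normal).conj_mem c L.cmem g) (L.gact v) L.cg]
  simp only [kom]
  group

/-- A layer fixed pointwise: impossible. -/
theorem Setting.lines_false_fixed (S : Setting Q g y) (C : Chief Q T) (O : Over Q T)
    (L : LineFrame Q T g y c e) (hc2 : c * c ≠ 1) : False := by
  have hzT : c * c ∈ T := O.sq c L.cmem
  have hzc : c * c ∈ center G := S.central (fun a ha => (C.cen _ hzT a ha).symm)
    (by rw [show g * (c * c) * g⁻¹ = g * c * g⁻¹ * (g * c * g⁻¹) by group]; exact C.sq_congr L.cmem L.cg)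
    (by rw [show y * (c * c) * y⁻¹ = y * c * y⁻¹ * (y * c * y⁻¹) by group]; exact C.sq_congr L.cmem L.cy)
  have hzn : (zpowers (c * c)).Normal := ⟨fun k hk h => by
    rw [mem_center_iff.1 ((zpowers_le.2 hzc) hk) h, mul_inv_cancel_right]; exact hk⟩
  have hT : zpowers (c * c) = T :=
    (C.irr _ hzn (zpowers_le.2 hzT)).resolve_left fun h => hc2 (mem_bot.1 (h ▸ mem_zpowers _))
  have hfix : ∀ t ∈ T, ∀ h : G, h * t * h⁻¹ = t := fun t ht h => by
    have hc : t ∈ center G := (zpowers_le.2 hzc) (hT ▸ ht)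
    rw [mem_center_iff.1 hc h, mul_inv_cancel_right]
  set q : V3 → G := fun v => e v * e v with hq
  have hqT : ∀ v, q v ∈ T := fun v => O.sq _ (L.mem v)
  have hqy : ∀ v, q (yV v) = q v := fun v => by
    rw [← hfix (q v) (hqT v) y]
    refine (C.sq_congr (L.mem _) (L.yact v)).symm.trans ?_
    simp only [q]; group
  have hq1 : ∀ v, v ≠ 0 → q v = q (1, 0, 0) := fun v hv =>
    yV_orbit (fun v => q v = q (1, 0, 0)) (fun v h => (hqy v).trans h) (v := (1, 0, 0)) (by decide) rfl v hv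
  set α := q (1, 0, 0) with hα
  have hα2 : α * α = 1 := C.exp _ (hqT _)
  have hk : ∀ u v : V3, u ≠ 0 → v ≠ 0 → u + v ≠ 0 → kom (e u) (e v) = α := fun u v hu hv huv => by
    rw [← C.sq_add le_rfl O L.toLifts]
    show q (u + v) * q u * q v = α
    rw [hq1 _ hu, hq1 _ hv, hq1 _ huv, hα2, one_mul]
  have hα1 : α = 1 := by
    have h := L.toLifts.kom_add C le_rfl O (L.mem (0, 0, 1)) (1, 0, 0) (0, 1, 0)
    rw [hk _ _ (by decide) (by decide) (by decide), hk _ _ (by decide) (by decide) (by decide),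
      hk _ _ (by decide) (by decide) (by decide), hα2] at h
    exact h
  have hlam : ∀ v, kom (e v) c = 1 := fun v =>
    yinv_trivial (fun v => kom (e v) c) (fun a b => L.toLifts.kom_add C le_rfl O L.cmem a b) (fun p => by
      calc kom (e (yV p)) c = kom (y * e p * y⁻¹) (y * c * y⁻¹) :=
            (C.kom_congr (L.mem _) L.cmem ((inferInstance : Q.Normal).conj_mem c L.cmem y) (L.yact p) L.cy).symm
        _ = y * kom (e p) c * y⁻¹ := (kom_conj y _ _).symm
        _ = kom (e p) c := hfix _ (O.comm _ (L.mem p) c L.cmem) y) v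
  have h := C.sq_congr (mul_mem (L.mem _) (pow_mem L.cmem _)) (L.gact (1, 0, 0))
  rw [show g * e (1, 0, 0) * g⁻¹ * (g * e (1, 0, 0) * g⁻¹) = g * q (1, 0, 0) * g⁻¹ by simp only [q]; group,
    ← hα, hα1, show ((1, 0, 0) : V3).1.val = 1 from rfl, pow_one, C.sq_mul O (L.mem _) L.cmem, hlam,
    show e (gV (1, 0, 0)) * e (gV (1, 0, 0)) = α from hq1 _ (by decide), hα1] at h
  exact hc2 (by simpa using h.symm)

/-- A nontrivial pairing with the line: impossible. -/
theorem Setting.lines_false_pairing (C : Chief Q T) (O : Over Q T)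
    (L : LineFrame Q T g y c e) (hc2 : c * c = 1) (hinj : Function.Injective fun v => kom (e v) c)
    (hsurj : ∀ t ∈ T, ∃ v, kom (e v) c = t) : False := by
  set lam : V3 → G := fun v => kom (e v) c
  have hadd : ∀ u v, lam (u + v) = lam u * lam v := fun u v => L.toLifts.kom_add C le_rfl O L.cmem u v
  have hy : ∀ v, lam (yV v) = y * lam v * y⁻¹ := fun v => by
    refine (C.kom_congr (L.mem _) L.cmem ((inferInstance : Q.Normal).conj_mem c L.cmem y) (L.yact v) L.cy).symm.trans ?_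
    exact (kom_conj y _ _).symm
  choose Q0 hQ0 using fun v => hsurj _ (O.sq _ (L.mem v))
  have hyQ : ∀ v, Q0 (yV v) = yV (Q0 v) := fun v => hinj (by
    show lam _ = lam _
    rw [hy, show lam (Q0 v) = e v * e v from hQ0 v, show lam (Q0 (yV v)) = _ from hQ0 _]
    refine (C.sq_congr (L.mem _) (L.yact v)).symm.trans ?_
    group)
  have hgQ : ∀ v, gV (Q0 v) = Q0 (gV v) + v.1.val • gV v := fun v => hinj (by
    show lam _ = lam _
    rw [show lam (gV (Q0 v)) = g * lam (Q0 v) * g⁻¹ from L.kom_g C (Q0 v),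
      show lam (Q0 v) = e v * e v from hQ0 v, L.gsq C O hc2, hadd,
      show lam (Q0 (gV v)) = e (gV v) * e (gV v) from hQ0 _]
    obtain h0 | h0 : v.1 = 0 ∨ v.1 = 1 := by generalize v.1 = i; revert i; decide
    · have h1 : lam 0 = 1 := by
        have := hadd 0 0
        rw [add_zero] at this
        exact left_eq_mul.1 this
      simp [h0, h1]
    · rw [h0, ZMod.val_one, pow_one, one_nsmul]
      exact C.comm (O.comm _ (L.mem _) c L.cmem) (O.sq _ (L.mem _)))
  have hit : ∀ k : ℕ, ∀ v, Q0 (yV^[k] v) = yV^[k] (Q0 v) := fun k v => by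
    induction k with
    | zero => rfl
    | succ k ih => rw [Function.iterate_succ_apply', hyQ, ih, Function.iterate_succ_apply']
  refine line_map_none (Q0 (1, 0, 0)) fun k j hkj => ?_
  rw [← hit, ← hit, ← hkj]
  exact (hgQ _).symm

/-- The central case: `4³ × 2` is impossible. -/
theorem Setting.lines_false_moved (S : Setting Q g y) (C : Chief Q T) (O : Over Q T)
    (L : LineFrame Q T g y c e) (hcomm : ∀ a ∈ Q, ∀ b ∈ Q, a * b = b * a)
    (hq : ∀ u v, e (u + v) * e (u + v) = e u * e u * (e v * e v))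
    (hinj : Function.Injective fun v => e v * e v) (hsurj : ∀ t ∈ T, ∃ v, e v * e v = t)
    {u : G} (hu : u ∈ Q) (hu2 : u * u = 1) (huc : c⁻¹ * u ∈ T)
    (hgu : g * u * g⁻¹ = u * (e (0, 1, 0) * e (0, 1, 0))) : False := by
  haveI := C.normal
  set q : V3 → G := fun v => e v * e v
  have hqT : ∀ v, q v ∈ T := fun v => O.sq _ (L.mem v)
  set π := QuotientGroup.mk' T
  have hpi : ∀ {a b : G}, b⁻¹ * a ∈ T → π a = π b := fun h => (QuotientGroup.eq.2 h).symm
  set a := e (1, 0, 0) with ha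
  set b := g * a * g⁻¹ with hb
  set d := g * b * g⁻¹ with hd
  have haQ : a ∈ Q := L.mem _
  have hbQ : b ∈ Q := (inferInstance : Q.Normal).conj_mem a haQ g
  have hdQ : d ∈ Q := (inferInstance : Q.Normal).conj_mem b hbQ g
  have p4 : ∀ w ∈ Q, w ^ 4 = 1 := fun w hw => by
    rw [show w ^ 4 = w * w * (w * w) by simp [pow_succ, mul_assoc], C.exp _ (O.sq w hw)]
  have tr : Triple 4 a b d := ⟨hcomm a haQ b hbQ, hcomm a haQ d hdQ, hcomm b hbQ d hdQ, p4 a haQ, p4 b hbQ, p4 d hdQ⟩
  have hg : ∀ v, π (g * e v * g⁻¹) = π (e (gV v)) * π u ^ v.1.val := fun v => by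
    rw [hpi (L.gact v), map_mul, map_pow, ← hpi huc]
  have hgu' : π (g * u * g⁻¹) = π u := hpi (by rw [hgu, inv_mul_cancel_left]; exact hqT _)
  have mb : π b = π (e (0, 1, 0)) * π u := by rw [hb, ha, hg]; simp [gV, ZMod.val_one]
  have md : π d = π (e (0, 0, 1)) * π u := by
    rw [hd, map_mul, map_mul, mb, ← map_mul π (e _), ← map_mul, ← map_mul,
      show g * (e (0, 1, 0) * u) * g⁻¹ = g * e (0, 1, 0) * g⁻¹ * (g * u * g⁻¹) by group, map_mul, hg, hgu']
    simp [gV]
  have hsq2 : ∀ {w : G} {v : V3}, π w = π (e v) * π u → w * w = q v := fun {w v} h => by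
    rw [← map_mul] at h
    rw [C.sq_congr (mul_mem (L.mem v) hu) (QuotientGroup.eq.1 h.symm), C.sq_mul O (L.mem v) hu, hu2, mul_one,
      kom_eq_one.2 (hcomm _ (L.mem v) u hu), one_mul]
  have hb2 := hsq2 mb
  have hd2 := hsq2 md
  have sq : ∀ x : V4, coord a b d x * coord a b d x = q (red x) := fun x => by
    have h1 : coord (q (1, 0, 0)) (q (0, 1, 0)) (q (0, 0, 1)) (red x) = q (red x) := by
      letI : CommGroup T := { mul_comm := C.commGroup_mul }
      have := congrArg Subtype.val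
        (additive_eq_coord (fun v => (⟨q v, hqT v⟩ : T)) (fun s t => Subtype.ext (hq s t)) (red x))
      rw [show q (red x) = _ from this]
      simp [coord]
    rw [← h1, ← hb2, ← hd2]
    show _ = coord (a * a) (b * b) (d * d) (red x)
    simp only [coord, red, ← pow_red tr.pa, ← pow_red tr.pb, ← pow_red tr.pc]
    have e1 : Commute (b ^ x.2.1.val) (a ^ x.1.val) := tr.ab.symm.pow_pow _ _
    have e2 : Commute (d ^ x.2.2.val) (a ^ x.1.val) := tr.ac.symm.pow_pow _ _
    have e3 : Commute (d ^ x.2.2.val) (b ^ x.2.1.val) := tr.bc.symm.pow_pow _ _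
    set A' := a ^ x.1.val
    set B' := b ^ x.2.1.val
    set C' := d ^ x.2.2.val
    calc A' * B' * C' * (A' * B' * C') = A' * B' * (C' * A') * B' * C' := by group
      _ = A' * B' * (A' * C') * B' * C' := by rw [e2.eq]
      _ = A' * (B' * A') * (C' * B') * C' := by group
      _ = _ := by rw [e1.eq, e3.eq]; group
  -- the image of the last generator
  obtain ⟨r, hr, hgd⟩ : ∃ r : V4, red r = (1, 1, 1) ∧ g * d * g⁻¹ = coord a b d r * u := by
    have m1 : π (g * d * g⁻¹) = π (e (1, 1, 1)) * π u := by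
      rw [map_mul, map_mul, md, ← map_mul π (e _), ← map_mul, ← map_mul,
        show g * (e (0, 0, 1) * u) * g⁻¹ = g * e (0, 0, 1) * g⁻¹ * (g * u * g⁻¹) by group, map_mul, hg, hgu']
      simp [gV]
    have m2 : π (coord a b d ((1, 1, 1) : V4)) = π (e (1, 1, 1)) := by
      rw [map_coord, mb, md, ha]
      have cu : Commute (π u) (π (e (0, 0, 1))) := Commute.map (hcomm u hu _ (L.mem _)) π
      have hu' : π u * π u = 1 := by rw [← map_mul, hu2, map_one]
      have h3 := L.toLifts.mk_coord ((1, 1, 1) : V3)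
      simp only [coord, map_mul, map_pow, show (1 : ZMod 4).val = 1 from rfl, pow_one, ZMod.val_one] at h3 ⊢
      refine Eq.trans ?_ h3
      show _ = π (e (1, 0, 0) * e (0, 1, 0) * e (0, 0, 1))
      rw [map_mul, map_mul]
      calc π (e (1, 0, 0)) * (π (e (0, 1, 0)) * π u) * (π (e (0, 0, 1)) * π u)
          = π (e (1, 0, 0)) * π (e (0, 1, 0)) * (π u * π (e (0, 0, 1))) * π u := by group
        _ = π (e (1, 0, 0)) * π (e (0, 1, 0)) * π (e (0, 0, 1)) * (π u * π u) := by rw [cu.eq]; group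
        _ = _ := by rw [hu', mul_one]
    have m3 : (coord a b d ((1, 1, 1) : V4) * u)⁻¹ * (g * d * g⁻¹) ∈ T :=
      QuotientGroup.eq.1 (by
        show π (coord a b d ((1, 1, 1) : V4) * u) = π (g * d * g⁻¹)
        rw [map_mul, m2, m1])
    obtain ⟨w, hw⟩ := hsurj _ m3
    obtain ⟨x, rfl, hx⟩ := red_lift w
    refine ⟨(1, 1, 1) + (x + x), hx, ?_⟩
    rw [tr.add _ (x + x), tr.add x x, sq, show q (red x) = _ from hw]
    rw [mul_assoc (coord a b d ((1, 1, 1) : V4)), C.cen _ m3 u hu]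
    group
  -- iterating
  let F : V4 × ZMod 2 → G := fun s => coord a b d s.1 * u ^ s.2.val
  have hu2' : u ^ 2 = 1 := by rw [pow_two, hu2]
  have hstep : ∀ s, g * F s * g⁻¹ = F (lineS r s) := fun s => by
    obtain ⟨E1, E2, E3⟩ : coord a b d ((0, 1, 0) : V4) = b ∧ coord a b d ((0, 0, 1) : V4) = d ∧
        coord a b d ((0, 2, 0) : V4) = q (0, 1, 0) := by
      refine ⟨?_, ?_, ?_⟩
      · simp [coord, show (1 : ZMod 4).val = 1 from rfl]
      · simp [coord, show (1 : ZMod 4).val = 1 from rfl]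
      · rw [← hb2]; simp [coord, show (2 : ZMod 4).val = 2 from rfl, pow_two]
    show g * (a ^ s.1.1.val * b ^ s.1.2.1.val * d ^ s.1.2.2.val * u ^ s.2.val) * g⁻¹ =
      coord a b d (s.1.1.val • ((0, 1, 0) : V4) + s.1.2.1.val • ((0, 0, 1) : V4) + s.1.2.2.val • r +
        s.2.val • ((0, 2, 0) : V4)) * u ^ (s.2 + (s.1.2.2.val : ZMod 2)).val
    rw [tr.add, tr.add, tr.add, tr.nsmul, tr.nsmul, tr.nsmul, tr.nsmul, E1, E2, E3,
      pow_val_add' hu2', ZMod.val_natCast, ← pow_eq_pow_mod _ hu2']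
    have hrQ : coord a b d r ∈ Q := mul_mem (mul_mem (pow_mem haQ _) (pow_mem hbQ _)) (pow_mem hdQ _)
    calc g * (a ^ s.1.1.val * b ^ s.1.2.1.val * d ^ s.1.2.2.val * u ^ s.2.val) * g⁻¹
        = (g * a * g⁻¹) ^ s.1.1.val * (g * b * g⁻¹) ^ s.1.2.1.val * (g * d * g⁻¹) ^ s.1.2.2.val *
            (g * u * g⁻¹) ^ s.2.val := by
          simp only [conj_pow]; group
      _ = b ^ s.1.1.val * d ^ s.1.2.1.val * (coord a b d r ^ s.1.2.2.val * u ^ s.1.2.2.val) *
            (u ^ s.2.val * q (0, 1, 0) ^ s.2.val) := by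
          rw [← hb, ← hd, hgd, hgu, Commute.mul_pow (hcomm _ hrQ u hu),
            Commute.mul_pow (hcomm u hu _ (C.le (hqT _)))]
      _ = b ^ s.1.1.val * d ^ s.1.2.1.val * coord a b d r ^ s.1.2.2.val *
            ((u ^ s.1.2.2.val * u ^ s.2.val) * q (0, 1, 0) ^ s.2.val) := by group
      _ = _ := by
          rw [(Commute.pow_pow (Commute.refl u) s.1.2.2.val s.2.val).eq,
            hcomm _ (mul_mem (pow_mem hu _) (pow_mem hu _)) _ (pow_mem (C.le (hqT _)) _)]
          group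
  have hit : ∀ k : ℕ, g ^ k * F ((1, 0, 0), 0) * (g ^ k)⁻¹ = F ((lineS r)^[k] ((1, 0, 0), 0)) := fun k => by
    induction k with
    | zero => simp
    | succ k ih => rw [Function.iterate_succ_apply', ← hstep, ← ih, pow_succ']; group
  obtain ⟨w, hw, hw4⟩ := lineS_four r hr
  have h4 := hit 4
  have hF0 : F ((1, 0, 0), 0) = a := by simp [F, coord, show (1 : ZMod 4).val = 1 from rfl]
  rw [hw4, hF0, hcomm _ S.g4 a haQ, mul_inv_cancel_right] at h4
  have h5 : coord a b d (((1, 0, 0) : V4) + (w + w)) * u ^ (0 : ZMod 2).val = a := h4.symm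
  rw [ZMod.val_zero, pow_zero, mul_one, tr.add, tr.add w w, sq] at h5
  simp only [coord, show (1 : ZMod 4).val = 1 from rfl, ZMod.val_zero, pow_zero, pow_one, mul_one] at h5
  refine hw (hinj ?_)
  show q (red w) = q 0
  rw [mul_eq_left.1 h5]
  simp [q, L.zero]

/-- A nonsplit line below a natural module: impossible. -/
theorem Setting.lines_false (S : Setting Q g y) (C : Chief Q T) (O : Over Q T)
    (gen : ∀ K : Subgroup G, K.Normal → (∀ a ∈ Q, a * a ∈ K) → T ≤ K) (L : LineFrame Q T g y c e) : False := by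
  haveI := C.normal
  by_cases hc2 : c * c = 1
  swap
  · exact S.lines_false_fixed C O L hc2
  have hy : ∀ v, kom (e (yV v)) c = y * kom (e v) c * y⁻¹ := fun v =>
    (C.kom_congr (L.mem _) L.cmem ((inferInstance : Q.Normal).conj_mem c L.cmem y) (L.yact v) L.cy).symm.trans
      (kom_conj y _ _).symm
  rcases (S.layer_maps C (fun v => kom (e v) c) (fun v => O.comm _ (L.mem v) c L.cmem)
      (fun v => L.kom_g C v) hy).2 (fun u v => L.toLifts.kom_add C le_rfl O L.cmem u v) with hlam | ⟨h1, h2, -⟩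
  swap
  · exact Setting.lines_false_pairing C O L hc2 h1 h2
  set q : V3 → G := fun v => e v * e v with hqdef
  have hqT : ∀ v, q v ∈ T := fun v => O.sq _ (L.mem v)
  have hqg : ∀ v, q (gV v) = g * q v * g⁻¹ := fun v => by
    show _ = g * (e v * e v) * g⁻¹
    rw [L.gsq C O hc2, hlam, one_pow, one_mul]
  have hqy : ∀ v, q (yV v) = y * q v * y⁻¹ := fun v => by
    refine (C.sq_congr (L.mem _) (L.yact v)).symm.trans ?_
    simp only [q]; group
  obtain ⟨k1, k2⟩ := S.layer_maps C q hqT hqg hqy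
  have hadd := k1 fun u v w => by
    simp only [q]
    rw [C.sq_add le_rfl O L.toLifts, C.sq_add le_rfl O L.toLifts, C.sq_add le_rfl O L.toLifts,
      L.toLifts.kom_add C le_rfl O (L.mem w)]
  have hkom : ∀ u v, kom (e u) (e v) = 1 := fun u v => by
    rw [← C.sq_add le_rfl O L.toLifts]
    show q (u + v) * q u * q v = 1
    rw [hadd, mul_assoc (q u) (q v), C.comm (hqT v) (hqT u), ← mul_assoc (q u) (q u), C.exp _ (hqT u), one_mul,
      C.exp _ (hqT v)]
  have hsplit : ∀ a ∈ Q, ∃ v t, t ∈ T ∧ (a = e v * t ∨ a = e v * c * t) := fun a ha => by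
    obtain ⟨v, hv | hv⟩ := L.cover a ha
    · exact ⟨v, _, hv, Or.inl (by group)⟩
    · exact ⟨v, _, hv, Or.inr (by group)⟩
  rcases k2 hadd with h | ⟨hinj, hsurj, -⟩
  · refine C.ne (le_bot_iff.1 (gen ⊥ inferInstance fun a ha => mem_bot.2 ?_))
    obtain ⟨v, hv | hv⟩ := L.cover a ha
    · exact (C.sq_congr (L.mem v) hv).trans (h v)
    · rw [C.sq_congr (mul_mem (L.mem v) L.cmem) hv, C.sq_mul O (L.mem v) L.cmem, hlam, hc2,
        show e v * e v = 1 from h v]
      simp
  have hcomm : ∀ a ∈ Q, ∀ b ∈ Q, a * b = b * a := by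
    have step : ∀ a : G, (∀ v, Commute a (e v)) → Commute a c → (∀ t ∈ T, Commute a t) → ∀ b ∈ Q, Commute a b := by
      intro a h1 h2 h3 b hb
      obtain ⟨v, t, ht, rfl | rfl⟩ := hsplit b hb
      · exact (h1 v).mul_right (h3 t ht)
      · exact ((h1 v).mul_right h2).mul_right (h3 t ht)
    have hec : ∀ v, Commute (e v) c := fun v => kom_eq_one.1 (hlam v)
    have he : ∀ v, ∀ b ∈ Q, Commute (e v) b := fun v =>
      step _ (fun w => kom_eq_one.1 (hkom v w)) (hec v) fun t ht => (C.cen t ht _ (L.mem v)).symm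
    have hc : ∀ b ∈ Q, Commute c b :=
      step _ (fun w => (hec w).symm) (Commute.refl c) fun t ht => (C.cen t ht _ L.cmem).symm
    intro a ha b hb
    exact step a (fun v => (he v a ha).symm) (hc a ha).symm (fun t ht => (C.cen t ht a ha).symm) b hb
  -- a generator of the line fixed by `y`
  obtain ⟨p, hp⟩ := hsurj _ L.cy
  obtain ⟨r, hr⟩ := line_fix_shift p
  set u := c * q r with hudef
  have hu : u ∈ Q := mul_mem L.cmem (C.le (hqT r))
  have huc : c⁻¹ * u ∈ T := by rw [hudef, inv_mul_cancel_left]; exact hqT r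
  have hu2 : u * u = 1 := (C.sq_congr L.cmem huc).trans hc2
  have huy : y * u * y⁻¹ = u := by
    calc y * u * y⁻¹ = y * c * y⁻¹ * (y * q r * y⁻¹) := by rw [hudef]; group
      _ = c * (c⁻¹ * (y * c * y⁻¹)) * q (yV r) := by rw [← hqy]; group
      _ = c * q r := by
          rw [show c⁻¹ * (y * c * y⁻¹) = q p from hp.symm, mul_assoc, ← hadd, hr]
  obtain ⟨d, hd⟩ : ∃ d, g * u * g⁻¹ = u * q d := by
    have h1 : u⁻¹ * (g * u * g⁻¹) ∈ T := by
      have : u⁻¹ * (g * u * g⁻¹) = (q r)⁻¹ * (c⁻¹ * (g * c * g⁻¹)) * (g * q r * g⁻¹) := by rw [hudef]; group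
      rw [this]
      exact mul_mem (mul_mem (inv_mem (hqT r)) L.cg) (C.normal.conj_mem _ (hqT r) g)
    obtain ⟨d, hd⟩ := hsurj _ h1
    exact ⟨d, by rw [show q d = _ from hd]; group⟩
  have hstep : ∀ w, g * (u * q w) * g⁻¹ = u * q (gV w + d) := fun w => by
    calc g * (u * q w) * g⁻¹ = g * u * g⁻¹ * (g * q w * g⁻¹) := by group
      _ = u * (q d * q (gV w)) := by rw [hd, hqg, mul_assoc]
      _ = _ := by rw [C.comm (hqT d) (hqT _), ← hadd]
  have hstepy : ∀ w, y * (u * q w) * y⁻¹ = u * q (yV w) := fun w => by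
    calc y * (u * q w) * y⁻¹ = y * u * y⁻¹ * (y * q w * y⁻¹) := by group
      _ = _ := by rw [huy, hqy]
  have hq0 : q 0 = 1 := by simp [q, L.zero]
  have hrel : (let f := fun w : V3 => gV w + d; f (f (f (yV (yV (f (yV (f (yV (yV 0)))))))))) = 0 := by
    refine hinj (mul_left_cancel (a := u) ?_)
    simp only
    rw [← hstep, ← hstep, ← hstep, ← hstepy, ← hstepy, ← hstep, ← hstepy, ← hstep, ← hstepy, ← hstepy, hq0,
      mul_one]
    calc _ = rW g y * u * (rW g y)⁻¹ := by simp only [rW]; group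
      _ = u := by rw [hcomm _ S.rel u hu, mul_inv_cancel_right]
  rcases line_shift_cases d hrel with rfl | rfl
  swap
  · exact S.lines_false_moved C O L hcomm hadd hinj hsurj hu hu2 huc hd
  -- `u` is central
  have hz : u ∈ center G := S.central (fun a ha => hcomm a ha u hu) (by rw [hd, hq0, mul_one]) huy
  haveI : (zpowers u).Normal := ⟨fun k hk h => by
    rw [mem_center_iff.1 ((zpowers_le.2 hz) hk) h, mul_inv_cancel_right]; exact hk⟩
  have hz2 : ∀ k ∈ zpowers u, k = 1 ∨ k = u := fun k hk => by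
    obtain ⟨i, rfl⟩ := mem_zpowers_iff.1 hk
    rcases Int.even_or_odd i with ⟨j, rfl⟩ | ⟨j, rfl⟩
    · exact Or.inl (by rw [← two_mul, zpow_mul, zpow_two, hu2, one_zpow])
    · exact Or.inr (by rw [zpow_add, zpow_mul, zpow_two, hu2, one_zpow, one_mul, zpow_one])
  have huT : ∀ v, e v * u ∉ T := fun v h => L.cind v (by
    have : e v * c = e v * u * (c⁻¹ * u)⁻¹ := by group
    rw [this]; exact mul_mem h (inv_mem huc))
  set π := QuotientGroup.mk' (zpowers u) with hπ
  have hπs : Function.Surjective π := QuotientGroup.mk'_surjective _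
  haveI : (Q.map π).Normal := Normal.map inferInstance π hπs
  have hπu : π u = 1 := (QuotientGroup.eq_one_iff _).2 (mem_zpowers u)
  have hπc : π c ∈ T.map π := ⟨(q r)⁻¹, inv_mem (hqT r), by
    have : π u = π c * π (q r) := map_mul π c (q r)
    rw [hπu] at this
    rw [map_inv]; exact (eq_inv_of_mul_eq_one_left this.symm).symm⟩
  have C' : Chief (Q.map π) (T.map π) := by
    refine ⟨C.normal.map π hπs, map_mono C.le, ?_, ?_, fun K hK hKT => ?_, fun h => ?_⟩
    · rintro _ ⟨t, ht, rfl⟩; rw [← map_mul, C.exp t ht, map_one]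
    · rintro _ ⟨t, ht, rfl⟩ _ ⟨a, ha, rfl⟩; rw [← map_mul, ← map_mul, C.cen t ht a ha]
    · haveI := hK
      rcases C.irr (K.comap π ⊓ T) inferInstance inf_le_right with h | h
      · refine Or.inl (le_bot_iff.1 fun k hk => mem_bot.2 ?_)
        obtain ⟨t, ht, rfl⟩ := hKT hk
        rw [show t = 1 from mem_bot.1 (h ▸ ⟨hk, ht⟩), map_one]
      · exact Or.inr (le_antisymm hKT (map_le_iff_le_comap.2 (h.ge.trans inf_le_left)))
    · refine C.ne (le_bot_iff.1 fun t ht => mem_bot.2 ?_)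
      have h1 : π t ∈ (⊥ : Subgroup _) := h ▸ mem_map_of_mem π ht
      rcases hz2 t ((QuotientGroup.eq_one_iff t).1 (mem_bot.1 h1)) with h2 | h2
      · exact h2
      · exact absurd (by rw [L.zero, one_mul, ← h2]; exact ht) (huT 0)
  refine (S.quotient (zpowers u) (zpowers_le.2 hu)).shape3_false (e := fun v => π (e v)) C' ⟨?_, ?_⟩ ?_ ?_
  · rintro _ ⟨a, ha, rfl⟩; rw [← map_mul]; exact mem_map_of_mem π (O.sq a ha)
  · rintro _ ⟨a, ha, rfl⟩ _ ⟨b, hb, rfl⟩
    rw [← map_inv, ← map_inv, ← map_mul, ← map_mul, ← map_mul]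
    exact mem_map_of_mem π (O.comm a ha b hb)
  · refine { mem := fun v => mem_map_of_mem π (L.mem v), zero := by simp [L.zero], add := fun s t => ?_,
             indep := fun v hv => ?_, yact := fun v => ?_, cover := ?_, gact := fun v => ?_ }
    · rw [← map_mul, ← map_inv, ← map_mul]; exact mem_map_of_mem π (L.add s t)
    · obtain ⟨t, ht, he⟩ := hv
      have hk : t⁻¹ * e v ∈ zpowers u := QuotientGroup.eq.1 he
      rcases hz2 _ hk with h | h
      · exact L.indep v (inv_mul_eq_one.1 h ▸ ht)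
      · refine absurd ?_ (huT v)
        rw [show e v = t * u by rw [← h]; group, mul_assoc, hu2, mul_one]
        exact ht
    · show (π (e (yV v)))⁻¹ * (π y * π (e v) * (π y)⁻¹) ∈ _
      rw [← map_inv, ← map_inv, ← map_mul, ← map_mul, ← map_mul]; exact mem_map_of_mem π (L.yact v)
    · rintro _ ⟨a, ha, rfl⟩
      obtain ⟨v, hv | hv⟩ := L.cover a ha
      · exact ⟨v, by rw [← map_inv, ← map_mul]; exact mem_map_of_mem π hv⟩
      · refine ⟨v, ?_⟩
        have : (π (e v))⁻¹ * π a = π c * π ((e v * c)⁻¹ * a) := by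
          rw [← map_inv, ← map_mul, ← map_mul]; congr 1; group
        rw [this]
        exact mul_mem hπc (mem_map_of_mem π hv)
    · show (π (e (gV v)))⁻¹ * (π g * π (e v) * (π g)⁻¹) ∈ _
      have : (π (e (gV v)))⁻¹ * (π g * π (e v) * (π g)⁻¹) =
          π c ^ v.1.val * π ((e (gV v) * c ^ v.1.val)⁻¹ * (g * e v * g⁻¹)) := by
        rw [← map_inv, ← map_inv, ← map_pow, ← map_mul, ← map_mul, ← map_mul, ← map_mul]; congr 1; group
      rw [this]
      exact mul_mem (pow_mem hπc _) (mem_map_of_mem π (L.gact v))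
  · intro K hK hsq
    haveI := hK
    refine map_le_iff_le_comap.2 (gen _ inferInstance fun a ha => ?_)
    show π (a * a) ∈ K
    rw [map_mul]; exact hsq _ (mem_map_of_mem π ha)

end

end Cfsg.Agent.L32Radical
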