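import Cfsg.Agent.Lib.L32Radical.Natural

/-!
# Abelian radicals `ℤ/n × 2³` with a section of order 32

States are pairs `(i, w)`; `g` acts by `gS`, `y` by `yS`.
-/

set_option autoImplicit false

namespace Cfsg.Agent.L32Radical

open Subgroup
open RankFourRadical (Sect4)

section

variable {n : ℕ}

/-- States. -/
abbrev St (n : ℕ) : Type := ZMod n × V3

/-- The action of `g`; `c` is the image of a bit, `φ` a functional, `ω` a translation, `k` a twist. -/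
def gS (c : ZMod 2 → ZMod n) (φ ω : V3) (k : ZMod 2) (s : St n) : St n :=
  (s.1 + c (k * (s.1.val : ZMod 2) + (φ.1 * s.2.1 + φ.2.1 * s.2.2.1 + φ.2.2 * s.2.2.2)),
    gV s.2 + s.1.val • ω)

/-- The action of `y`. -/
def yS (s : St n) : St n := (s.1, yV s.2)

variable (f : St n → St n)

/-- The relator. -/
def relS (s : St n) : St n := f (f (f (yS (yS (f (yS (f (yS (yS s)))))))))

/-- The action of `hW`. -/
def hS (s : St n) : St n := f (yS (f (yS (yS (yS s)))))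

/-- The action of `hW⁻¹`. -/
def hI (s : St n) : St n := yS^[4] (f^[3] (yS^[6] (f^[3] s)))

/-- The action of `xW`. -/
def xS (s : St n) : St n := hS f (f (f (hI f s)))

end

section

variable {G : Type*} [Group G] [Finite G] {n : ℕ}

/-- A decidable certificate. -/
structure Cert (f : St n → St n) (E R : St n → Prop) : Prop where
  E0 : E 0
  R0 : R 0
  Eadd : ∀ a b, E a → E b → E (a + b)
  Radd : ∀ a b, R a → R b → R (a + b)
  Eneg : ∀ a, E a → E (-a)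
  Rneg : ∀ a, R a → R (-a)
  RE : ∀ a, R a → E a
  hinv : ∀ a, hS f (hI f a) = a
  card : 8 * Nat.card {a // R a} ≤ Nat.card {a // E a}
  triv : ∀ e, E e → R (e + e) ∧ R (xS f e - e) ∧ R (f (f e) - e)
  key : ∀ q, f q = q → ∀ b, xS f q + q = b + f^[3] b + f^[3] (f^[3] b) + f^[3] (f^[3] (f^[3] b)) →
    xS f b - f b = hS f q - f (hS f q) → R (hS f q) ∧ R q ∧ R (f (f b) + f b + hS f q)

/-- An abelian radical in coordinates with a certificate is impossible. -/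
theorem false_of_model {Q : Subgroup G} {g y : G} (S : Setting Q g y) [Q.Normal] (e : St n → G)
    (hadd : ∀ a b, e (a + b) = e a * e b) (hinj : Function.Injective e) (hmem : ∀ a, e a ∈ Q)
    (hsurj : ∀ q ∈ Q, ∃ a, e a = q) (f : St n → St n) (hf : ∀ a, g * e a * g⁻¹ = e (f a))
    (hy : ∀ a, y * e a * y⁻¹ = e (yS a)) (hf4 : ∀ a, f^[4] a = a) {E R : St n → Prop} (C : Cert f E R) : False := by
  have h0 : e 0 = 1 := by
    have := hadd 0 0
    rw [add_zero] at this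
    exact left_eq_mul.1 this
  have hneg : ∀ a, e (-a) = (e a)⁻¹ := fun a => by
    rw [eq_inv_iff_mul_eq_one, ← hadd, neg_add_cancel, h0]
  have hsub : ∀ a b, e (a - b) = e a * (e b)⁻¹ := fun a b => by rw [sub_eq_add_neg, hadd, hneg]
  have hcomm : ∀ p ∈ Q, ∀ q ∈ Q, p * q = q * p := fun p hp q hq => by
    obtain ⟨a, rfl⟩ := hsurj p hp
    obtain ⟨b, rfl⟩ := hsurj q hq
    rw [← hadd, ← hadd, add_comm]
  have conj_comp : ∀ {a b : G} {F H : St n → St n}, (∀ s, a * e s * a⁻¹ = e (F s)) →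
      (∀ s, b * e s * b⁻¹ = e (H s)) → ∀ s, a * b * e s * (a * b)⁻¹ = e (F (H s)) := fun {a b F H} ha hb s => by
    calc a * b * e s * (a * b)⁻¹ = a * (b * e s * b⁻¹) * a⁻¹ := by group
      _ = _ := by rw [hb, ha]
  have k1 := conj_comp hf hy
  have k2 := conj_comp k1 hf
  have k3 := conj_comp k2 hy
  have k4 := conj_comp k3 hy
  have k5 := conj_comp k4 hy
  have hh : ∀ s, hW g y * e s * (hW g y)⁻¹ = e (hS f s) := k5
  have hh' : ∀ s, (hW g y)⁻¹ * e s * (hW g y)⁻¹⁻¹ = e (hI f s) := fun s => by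
    conv_lhs => rw [← C.hinv s, ← hh]
    group
  have k6 := conj_comp hf hf
  have k7 := conj_comp hh k6
  have k8 := conj_comp k7 hh'
  have hx : ∀ s, xW g y * e s * (xW g y)⁻¹ = e (xS f s) := k8
  obtain ⟨q, hq⟩ := hsurj _ S.g4
  set x := xW g y with hxdef
  obtain ⟨b, hb⟩ := hsurj _ S.xg
  have hfix : f q = q := hinj (by rw [← hf, hq]; group)
  have hxx : x * x = e (hS f q) := by
    rw [← hh, hq, hxdef, xW, show g ^ 4 = g * g * (g * g) by simp [pow_succ, mul_assoc]]; group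
  have hgi : ∀ s, g⁻¹ * e s * g⁻¹⁻¹ = e (f^[3] s) := fun s => by
    have h4 := hf (f^[3] s)
    rw [show f (f^[3] s) = f^[4] s from rfl, hf4] at h4
    rw [← h4]; group
  have hxg : x * g * x⁻¹ = e b * g⁻¹ := by rw [hb, hxdef]; group
  have eq1 : xS f q + q = b + f^[3] b + f^[3] (f^[3] b) + f^[3] (f^[3] (f^[3] b)) := by
    apply hinj
    rw [hadd, hadd, hadd, hadd, ← hx, hq]
    simp only [← hgi]
    calc x * g ^ 4 * x⁻¹ * g ^ 4 = (x * g * x⁻¹) ^ 4 * g ^ 4 := by rw [conj_pow]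
      _ = _ := by rw [hxg]; simp [pow_succ, mul_assoc]
  have eq2 : xS f b - f b = hS f q - f (hS f q) := by
    apply hinj
    have h1 : x * (x * g * x⁻¹) * x⁻¹ = x * e b * x⁻¹ * (g * e b * g⁻¹)⁻¹ * g := by
      rw [hxg]
      calc x * (e b * g⁻¹) * x⁻¹ = x * e b * x⁻¹ * (x * g * x⁻¹)⁻¹ := by group
        _ = _ := by rw [hxg]; group
    rw [hx, hf] at h1
    rw [hsub, hsub]
    calc e (xS f b) * (e (f b))⁻¹ = x * (x * g * x⁻¹) * x⁻¹ * g⁻¹ := by rw [h1]; group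
      _ = e (hS f q) * g * (e (hS f q))⁻¹ * g⁻¹ := by rw [← hxx]; group
      _ = _ := by rw [← hf]; group
  obtain ⟨r1, r2, r3⟩ := C.key q hfix b eq1 eq2
  let mk : (P : St n → Prop) → P 0 → (∀ a b, P a → P b → P (a + b)) → (∀ a, P a → P (-a)) → Subgroup G :=
    fun P p0 padd pneg =>
      { carrier := {t | ∃ a, P a ∧ e a = t}
        one_mem' := ⟨0, p0, h0⟩
        mul_mem' := by rintro _ _ ⟨a, ha, rfl⟩ ⟨b, hb, rfl⟩; exact ⟨a + b, padd a b ha hb, hadd a b⟩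
        inv_mem' := by rintro _ ⟨a, ha, rfl⟩; exact ⟨-a, pneg a ha, hneg a⟩ }
  set EG := mk E C.E0 C.Eadd C.Eneg
  set RG := mk R C.R0 C.Radd C.Rneg
  have hc : ∀ (P : St n → Prop) p0 pa pn, Nat.card (mk P p0 pa pn) = Nat.card {a // P a} := fun P p0 pa pn =>
    (Nat.card_congr (Equiv.ofBijective (fun a : {a // P a} => (⟨e a.1, a.1, a.2, rfl⟩ : mk P p0 pa pn))
      ⟨fun a b h => Subtype.ext (hinj (congrArg Subtype.val h)), fun t => by
        obtain ⟨a, ha, he⟩ := t.2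
        exact ⟨⟨a, ha⟩, Subtype.ext he⟩⟩)).symm
  have hEQ : EG ≤ Q := by rintro _ ⟨a, -, rfl⟩; exact hmem a
  refine false_of_pair S.sect (E := EG) (R := RG) ?_ ?_ ?_ ?_ (n₁ := g * g) (n₂ := x) ?_ ?_ ?_ ?_ ?_
    (fun h => S.gg (hEQ h)) (fun h => S.xQ (hEQ h)) (fun h => S.gxQ (hEQ h))
  · rintro _ ⟨a, ha, rfl⟩; exact ⟨a, C.RE a ha, rfl⟩
  · rw [hc E C.E0 C.Eadd C.Eneg, hc R C.R0 C.Radd C.Rneg]; exact C.card
  · rintro _ ⟨a, -, rfl⟩ r hr
    obtain ⟨b', hb', rfl⟩ := hr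
    rw [hcomm _ (hmem a) _ (hmem b'), mul_inv_cancel_right]; exact ⟨b', hb', rfl⟩
  · rintro _ ⟨a, ha, rfl⟩; exact ⟨a + a, (C.triv a ha).1, hadd a a⟩
  · exact ⟨q, r2, by rw [hq]; simp [pow_succ, mul_assoc]⟩
  · exact ⟨_, r1, hxx.symm⟩
  · refine ⟨_, r3, ?_⟩
    rw [hadd, hadd, ← hxx, ← hf, ← hf]
    have h2 : x * (g * g) * x⁻¹ = e b * g⁻¹ * (e b * g⁻¹) := by
      rw [← hxg]; group
    calc g * (g * e b * g⁻¹) * g⁻¹ * (g * e b * g⁻¹) * (x * x) = g * g * (e b * g⁻¹ * (e b * g⁻¹)) * (x * x) := by group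
      _ = _ := by rw [← h2]; group
  · rintro _ ⟨a, ha, rfl⟩
    refine ⟨_, (C.triv a ha).2.2, ?_⟩
    rw [hsub, ← conj_comp hf hf]
  · rintro _ ⟨a, ha, rfl⟩
    refine ⟨_, (C.triv a ha).2.1, ?_⟩
    rw [hsub, ← hx]

end

section

/-- The bit into `ℤ/4`. -/
def c4 (b : ZMod 2) : ZMod 4 := 2 * (b.val : ZMod 4)

/-- The bit into `ℤ/8`. -/
def c8 (b : ZMod 2) : ZMod 8 := 4 * (b.val : ZMod 8)

/-- Points of the fixed line. -/
abbrev InP (w : V3) : Prop := w = 0 ∨ w = (1, 0, 1)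

set_option synthInstance.maxSize 4000
set_option synthInstance.maxHeartbeats 400000

theorem cert4 : ∀ φ : V3, φ = 0 ∨ φ = (1, 0, 0) →
    Cert (gS c4 φ 0 0) (fun _ => True) (fun s => (s.1 = 0 ∨ s.1 = 2) ∧ InP s.2) := by
  rintro φ (rfl | rfl) <;> constructor <;> beta_reduce <;>
    (try simp only [Nat.card_eq_fintype_card]) <;> decide +kernel

theorem cert8 : Cert (gS c8 0 (0, 1, 0) 0) (fun s => (s.1 : ZMod 8).val % 2 = 0)
    (fun s => (s.1 = 0 ∨ s.1 = 4) ∧ InP s.2) := by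
  constructor <;> beta_reduce <;> (try simp only [Nat.card_eq_fintype_card]) <;> decide +kernel

/-- The possible parameters in `ℤ/4`. -/
theorem params4 : ∀ φ ω : V3, ∀ k : ZMod 2,
    (∀ s ∈ ([(1, 0), (0, (1, 0, 0)), (0, (0, 1, 0)), (0, (0, 0, 1))] : List (St 4)),
      (gS c4 φ ω k)^[4] s = s ∧
      relS (gS c4 φ ω k) s = s) →
    k = 0 ∧ ((φ = 0 ∧ ω = 0) ∨ (φ = (1, 0, 0) ∧ ω = 0) ∨ (φ = 0 ∧ ω = (0, 1, 0))) := by
  decide +kernel

/-- The possible parameters in `ℤ/8`. -/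
theorem params8 : ∀ φ ω : V3, ∀ k : ZMod 2,
    (∀ s ∈ ([(1, 0), (0, (1, 0, 0)), (0, (0, 1, 0)), (0, (0, 0, 1))] : List (St 8)),
      (gS c8 φ ω k)^[4] s = s ∧
      relS (gS c8 φ ω k) s = s) →
    k = 0 ∧ ((φ = 0 ∧ ω = 0) ∨ (φ = (1, 0, 0) ∧ ω = 0) ∨ (φ = 0 ∧ ω = (0, 1, 0))) := by
  decide +kernel

theorem period4 : ∀ φ ω : V3, φ = 0 ∧ ω = 0 ∨ φ = (1, 0, 0) ∧ ω = 0 →
    ∀ s : St 4, (gS c4 φ ω 0)^[4] s = s := by
  rintro φ ω (⟨rfl, rfl⟩ | ⟨rfl, rfl⟩) <;> decide +kernel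

theorem period8 : ∀ s : St 8, (gS c8 0 (0, 1, 0) 0)^[4] s = s := by decide +kernel

end

end Cfsg.Agent.L32Radical
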