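import Cfsg.Agent.Lib.L32Radical.Basic

/-!
# Natural modules inside a group
-/

set_option autoImplicit false

namespace Cfsg.Agent.L32Radical

open Subgroup

/-- The action of the first lifted involution on `V3`. -/
def xV (v : V3) : V3 := (v.2.2, v.2.1, v.1)

section

variable {G : Type*} [Group G]

/-- `h` acts by conjugation as `M` on the coordinates. -/
def ActsAs {n : ℕ} (h a b c : G) (M : ZMod n × ZMod n × ZMod n → ZMod n × ZMod n × ZMod n) : Prop :=
  ∀ v, h * coord a b c v * h⁻¹ = coord a b c (M v)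

variable {n : ℕ} {a b c h k : G} {M N : ZMod n × ZMod n × ZMod n → ZMod n × ZMod n × ZMod n}

theorem ActsAs.mul (hh : ActsAs h a b c M) (hk : ActsAs k a b c N) : ActsAs (h * k) a b c (M ∘ N) := fun v => by
  calc h * k * coord a b c v * (h * k)⁻¹ = h * (k * coord a b c v * k⁻¹) * h⁻¹ := by group
    _ = _ := by rw [hk v, hh]; rfl

theorem ActsAs.congr (hh : ActsAs h a b c M) (e : ∀ v, M v = N v) : ActsAs h a b c N := fun v =>
  (hh v).trans (by rw [e v])

theorem ActsAs.inv (hh : ActsAs h a b c M) (e : ∀ v, M (N v) = v) : ActsAs h⁻¹ a b c N := fun v => by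
  have := hh (N v)
  rw [e v] at this
  rw [← this]; group

theorem ActsAs.pow (hh : ActsAs h a b c M) (i : ℕ) : ActsAs (h ^ i) a b c (M^[i]) := by
  induction i with
  | zero => intro v; simp
  | succ i ih =>
    rw [pow_succ', Function.iterate_succ']
    exact hh.mul ih

/-- A natural module for the pair `g`, `y` with basis `a`, `b`, `c`. -/
structure Natural (g y a b c : G) : Prop where
  tr : Triple 2 a b c
  inj : ∀ v : V3, coord a b c v = 1 → v = 0
  gact : ActsAs g a b c gV
  yact : ActsAs y a b c yV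

theorem ActsAs.of_gens {a b c h : G} (t : Triple 2 a b c) (M : V3 → V3)
    (hM : ∀ v, M v = v.1.val • M (1, 0, 0) + v.2.1.val • M (0, 1, 0) + v.2.2.val • M (0, 0, 1))
    (ha : h * a * h⁻¹ = coord a b c (M (1, 0, 0))) (hb : h * b * h⁻¹ = coord a b c (M (0, 1, 0)))
    (hc : h * c * h⁻¹ = coord a b c (M (0, 0, 1))) : ActsAs h a b c M :=
  t.map (MulAut.conj h).toMonoidHom t M hM ha hb hc

variable {g y : G}

theorem Natural.injective {a b c : G} (N : Natural g y a b c) :
    Function.Injective (coord a b c : V3 → G) := fun u v e => by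
  refine v3_eq_of_add u v (N.inj _ ?_)
  rw [N.tr.add, e, ← N.tr.add]
  rw [v3_add_self, coord_zero]

theorem Natural.gg {a b c : G} (N : Natural g y a b c) : ActsAs (g * g) a b c (gV ∘ gV) := N.gact.mul N.gact

theorem Natural.xact {a b c : G} (N : Natural g y a b c) : ActsAs (xW g y) a b c xV := by
  have hh : ActsAs (hW g y) a b c (gV ∘ yV ∘ gV ∘ yV ∘ yV ∘ yV) :=
    ((((N.gact.mul N.yact).mul N.gact).mul N.yact).mul N.yact).mul N.yact
  refine ((hh.mul N.gg).mul (hh.inv (N := fun v => yV^[4] (gV^[3] (yV^[6] (gV^[3] v)))) ?_)).congr ?_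
  · decide
  · decide

/-- Another lift acting the same way. -/
theorem Natural.congr_g {a b c g' : G} (N : Natural g y a b c)
    (h : ∀ v : V3, g⁻¹ * g' * coord a b c v * (g⁻¹ * g')⁻¹ = coord a b c v) : Natural g' y a b c := by
  refine ⟨N.tr, N.inj, fun v => ?_, N.yact⟩
  rw [← N.gact v]
  conv_rhs => rw [← h v]
  group

end

end Cfsg.Agent.L32Radical
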