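import Cfsg.Agent.Lib.L32Radical.Coord

/-!
# Equivariant quadratic maps on the natural module

`quad_additive`: an equivariant quadratic map into an irreducible module is additive.
`additive_cases`: an equivariant additive map is trivial or bijective.
-/

set_option autoImplicit false

namespace Cfsg.Agent.L32Radical

/-- The alternating product on `V3`. -/
def cross (u v : V3) : V3 :=
  (u.2.1 * v.2.2 + u.2.2 * v.2.1, u.1 * v.2.2 + u.2.2 * v.1, u.1 * v.2.1 + u.2.1 * v.1)

/-- `gV` on the exterior square. -/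
def gL (w : V3) : V3 :=
  w.1.val • cross (gV (0, 1, 0)) (gV (0, 0, 1)) + w.2.1.val • cross (gV (1, 0, 0)) (gV (0, 0, 1)) +
    w.2.2.val • cross (gV (1, 0, 0)) (gV (0, 1, 0))

/-- `yV` on the exterior square. -/
def yL (w : V3) : V3 :=
  w.1.val • cross (yV (0, 1, 0)) (yV (0, 0, 1)) + w.2.1.val • cross (yV (1, 0, 0)) (yV (0, 0, 1)) +
    w.2.2.val • cross (yV (1, 0, 0)) (yV (0, 1, 0))

/-- The quadratic map with value `t` at the first vector. -/
def qf (t v : V3) : V3 :=
  v.1.val • t + v.2.1.val • yL t + v.2.2.val • yL (yL t) +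
    (v.2.1 * v.2.2, v.1 * v.2.2, v.1 * v.2.1)

theorem qf_none : ∀ t : V3, ¬ ((∀ v, qf t (gV v) = gL (qf t v)) ∧ ∀ v, qf t (yV v) = yL (qf t v)) := by decide

theorem v3_eq_of_add : ∀ u v : V3, u + v = 0 → u = v := by decide

theorem v3_add_self : ∀ u : V3, u + u = 0 := by decide

theorem v3_decomp : ∀ v : V3, v = v.1.val • ((1, 0, 0) : V3) + v.2.1.val • ((0, 1, 0) : V3) + v.2.2.val • ((0, 0, 1) : V3) := by
  decide

section

variable {T : Type*} [CommGroup T]

theorem additive_eq_coord (f : V3 → T) (hf : ∀ u v, f (u + v) = f u * f v) (v : V3) :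
    f v = coord (f (1, 0, 0)) (f (0, 1, 0)) (f (0, 0, 1)) v := by
  have h0 : f 0 = 1 := by
    have := hf 0 0
    rw [add_zero] at this
    exact left_eq_mul.1 this
  have hs : ∀ (k : ℕ) (u : V3), f (k • u) = f u ^ k := fun k u => by
    induction k with
    | zero => simp [h0]
    | succ k ih => rw [succ_nsmul, hf, ih, pow_succ]
  conv_lhs => rw [v3_decomp v, hf, hf, hs, hs, hs]
  rfl

variable (hT : ∀ t : T, t * t = 1) (gT yT : T →* T)
  (hirr : ∀ S : Subgroup T, (∀ t ∈ S, gT t ∈ S ∧ yT t ∈ S) → S = ⊥ ∨ S = ⊤)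
  (q : V3 → T) (hg : ∀ v, q (gV v) = gT (q v)) (hy : ∀ v, q (yV v) = yT (q v))
include hT hirr hg hy

theorem quad_additive (hbil : ∀ u v w : V3,
      q (u + v + w) * q (u + v) * q w = (q (u + w) * q u * q w) * (q (v + w) * q v * q w)) :
    ∀ u v, q (u + v) = q u * q v := by
  obtain ⟨c, hc⟩ : ∃ c : V3 → V3 → T, ∀ u v, c u v = q (u + v) * q u * q v :=
    ⟨_, fun _ _ => rfl⟩
  have cadd : ∀ u v w, c (u + v) w = c u w * c v w := fun u v w => by simpa [hc] using hbil u v w
  have csymm : ∀ u v, c u v = c v u := fun u v => by rw [hc, hc, add_comm u v]; ac_rfl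
  have hq0 : q 0 = 1 := by
    have h := cadd 0 0 0
    rw [add_zero, hc, add_zero, hT, hT, one_mul] at h
    exact h
  have cself : ∀ u, c u u = 1 := fun u => by
    have : u + u = 0 := by revert u; decide
    rw [hc, this, hq0, one_mul, hT]
  suffices ∀ u v, c u v = 1 by
    intro u v
    calc q (u + v) = q (u + v) * ((q u * q u) * (q v * q v)) := by rw [hT, hT]; simp
      _ = c u v * (q u * q v) := by rw [hc]; ac_rfl
      _ = _ := by rw [this, one_mul]
  set γ₁ := c (0, 1, 0) (0, 0, 1)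
  set γ₂ := c (1, 0, 0) (0, 0, 1)
  set γ₃ := c (1, 0, 0) (0, 1, 0)
  have htr : Triple 2 γ₁ γ₂ γ₃ :=
    ⟨mul_comm _ _, mul_comm _ _, mul_comm _ _, by rw [pow_two, hT], by rw [pow_two, hT], by rw [pow_two, hT]⟩
  let Γ : V3 → T := coord γ₁ γ₂ γ₃
  obtain ⟨G1, G2, G3⟩ := coord_one γ₁ γ₂ γ₃
  have hΓ : ∀ u v, c u v = Γ (cross u v) := by
    have hadd : ∀ u v w : V3, cross (u + v) w = cross u w + cross v w := by decide
    have hsym : ∀ u v : V3, cross u v = cross v u := by decide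
    have b : ∀ v, c (1, 0, 0) v = Γ (cross (1, 0, 0) v) ∧ c (0, 1, 0) v = Γ (cross (0, 1, 0) v) ∧
        c (0, 0, 1) v = Γ (cross (0, 0, 1) v) := by
      intro v
      have aux : ∀ e : V3, c e (1, 0, 0) = Γ (cross e (1, 0, 0)) → c e (0, 1, 0) = Γ (cross e (0, 1, 0)) →
          c e (0, 0, 1) = Γ (cross e (0, 0, 1)) → c e v = Γ (cross e v) := fun e h1 h2 h3 => by
        rw [additive_eq_coord (fun w => c e w) (fun p r => by
            show c e (p + r) = _; rw [csymm, cadd, csymm, csymm r]) v,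
          additive_eq_coord (fun w => Γ (cross e w)) (fun p r => by
            show Γ (cross e (p + r)) = _
            rw [hsym, hadd, hsym, hsym r]; exact htr.add _ _) v, h1, h2, h3]
      have z0 : Γ 0 = 1 := coord_zero _ _ _
      refine ⟨aux _ ?_ ?_ ?_, aux _ ?_ ?_ ?_, aux _ ?_ ?_ ?_⟩
      · rw [cself]; exact z0.symm
      · exact G3.symm
      · exact G2.symm
      · rw [csymm]; exact G3.symm
      · rw [cself]; exact z0.symm
      · exact G1.symm
      · rw [csymm]; exact G2.symm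
      · rw [csymm]; exact G1.symm
      · rw [cself]; exact z0.symm
    intro u v
    rw [additive_eq_coord (fun w => c w v) (fun p r => cadd p r v) u,
      additive_eq_coord (fun w => Γ (cross w v)) (fun p r => by
        show Γ (cross (p + r) v) = _; rw [hadd]; exact htr.add _ _) u, (b v).1, (b v).2.1, (b v).2.2]
  have lin : ∀ (f : T →* T) (MV ML : V3 → V3), (∀ v, q (MV v) = f (q v)) → (∀ u v : V3, MV (u + v) = MV u + MV v) →
      (∀ w, ML w = w.1.val • ML (1, 0, 0) + w.2.1.val • ML (0, 1, 0) + w.2.2.val • ML (0, 0, 1)) →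
      ML (1, 0, 0) = cross (MV (0, 1, 0)) (MV (0, 0, 1)) → ML (0, 1, 0) = cross (MV (1, 0, 0)) (MV (0, 0, 1)) →
      ML (0, 0, 1) = cross (MV (1, 0, 0)) (MV (0, 1, 0)) → ∀ w, f (Γ w) = Γ (ML w) := by
    intro f MV ML hM hadd hlin h1 h2 h3 w
    have hfc : ∀ u v, f (c u v) = c (MV u) (MV v) := fun u v => by
      rw [hc, hc, map_mul, map_mul, ← hM, ← hM, ← hM, hadd]
    exact htr.map f htr ML hlin
      (by rw [h1]; exact (hfc _ _).trans (hΓ _ _)) (by rw [h2]; exact (hfc _ _).trans (hΓ _ _))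
      (by rw [h3]; exact (hfc _ _).trans (hΓ _ _)) w
  have hgΓ := lin gT gV gL hg (by decide) (by decide) (by decide) (by decide) (by decide)
  have hyΓ := lin yT yV yL hy (by decide) (by decide) (by decide) (by decide) (by decide)
  set R := htr.hom.range
  have hR : ∀ t ∈ R, gT t ∈ R ∧ yT t ∈ R := by
    rintro _ ⟨w, rfl⟩
    exact ⟨⟨Multiplicative.ofAdd (gL w.toAdd), (hgΓ w.toAdd).symm⟩,
      ⟨Multiplicative.ofAdd (yL w.toAdd), (hyΓ w.toAdd).symm⟩⟩
  rcases hirr R hR with h | h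
  · intro u v
    rw [hΓ]
    exact Subgroup.mem_bot.1 (h ▸ ⟨Multiplicative.ofAdd (cross u v), rfl⟩)
  -- `Γ` is bijective
  by_cases hker : ∃ w : V3, w ≠ 0 ∧ Γ w = 1
  · obtain ⟨w, hw, hw1⟩ := hker
    have key : ∀ v w : V3, v ≠ 0 → w ≠ 0 → ∃ k : Fin 7, yL^[k.val] v = w := by decide
    intro u v
    rw [hΓ]
    by_cases hz : cross u v = 0
    · rw [hz]; exact coord_zero _ _ _
    obtain ⟨k, hk⟩ := key w _ hw hz
    rw [← hk]
    clear hk
    induction k.val with
    | zero => exact hw1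
    | succ k ih => rw [Function.iterate_succ_apply', ← hyΓ, ih, map_one]
  push Not at hker
  have hinj : Function.Injective Γ := fun u v e => by
    by_contra hne
    refine hker (u + v) (fun h0 => hne (v3_eq_of_add u v h0)) (by show coord _ _ _ (u + v) = 1; rw [htr.add]; show Γ u * Γ v = 1; rw [e, hT])
  exfalso
  obtain ⟨t, ht⟩ : ∃ t, Γ t = q (1, 0, 0) := by
    obtain ⟨w, hw⟩ := (h ▸ Subgroup.mem_top (q (1, 0, 0)) : q (1, 0, 0) ∈ R)
    exact ⟨w.toAdd, hw⟩
  have ht2 : q (0, 1, 0) = Γ (yL t) := by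
    rw [← hyΓ, ht, ← hy]; rfl
  have ht3 : q (0, 0, 1) = Γ (yL (yL t)) := by
    rw [← hyΓ, ← ht2, ← hy]; rfl
  have hqf : ∀ v, q v = Γ (qf t v) := by
    intro v
    have hsm : ∀ (i : ZMod 2) (e x : V3), q e = Γ x → q (i.val • e) = Γ (i.val • x) := fun i e x he => by
      have : i = 0 ∨ i = 1 := by revert i; decide
      rcases this with rfl | rfl
      · simp [hq0, Γ, coord_zero]
      · simpa [ZMod.val_one] using he
    have key : ∀ t v : V3, qf t v =
        (v.1.val • t + v.2.1.val • yL t + cross (v.1.val • ((1, 0, 0) : V3)) (v.2.1.val • ((0, 1, 0) : V3))) +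
          v.2.2.val • yL (yL t) +
          cross (v.1.val • ((1, 0, 0) : V3) + v.2.1.val • ((0, 1, 0) : V3)) (v.2.2.val • ((0, 0, 1) : V3)) := by decide
    have hqa : ∀ a b : V3, q (a + b) = q a * q b * Γ (cross a b) := fun a b => by
      rw [← hΓ, hc]
      calc q (a + b) = q (a + b) * ((q a * q a) * (q b * q b)) := by rw [hT, hT]; simp
        _ = _ := by ac_rfl
    have hadd : ∀ a b : V3, Γ (a + b) = Γ a * Γ b := fun a b => htr.add a b
    conv_lhs => rw [v3_decomp v]
    rw [hqa, hqa, hsm _ _ _ ht.symm, hsm _ _ _ ht2, hsm _ _ _ ht3, key t v, hadd, hadd, hadd, hadd]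
  exact qf_none t ⟨fun v => hinj (by rw [← hqf, hg, hqf, hgΓ]),
    fun v => hinj (by rw [← hqf, hy, hqf, hyΓ])⟩

/-- An equivariant additive map is trivial or bijective. -/
theorem additive_cases (hadd : ∀ u v, q (u + v) = q u * q v) :
    (∀ v, q v = 1) ∨ Function.Bijective q := by
  let f : Multiplicative V3 →* T :=
    MonoidHom.mk' (fun v => q v.toAdd) fun u v => hadd u.toAdd v.toAdd
  by_cases hw : ∃ w : V3, w ≠ 0 ∧ q w = 1
  · obtain ⟨w, hw, hw1⟩ := hw
    refine Or.inl fun v => ?_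
    by_cases hv : v = 0
    · rw [hv]; exact map_one f
    · exact yV_orbit (fun v => q v = 1) (fun v h => by rw [hy, h, map_one]) hw hw1 v hv
  push Not at hw
  right
  refine ⟨fun u v e => ?_, fun t => ?_⟩
  · by_contra hne
    refine hw (u + v) (fun h0 => hne (v3_eq_of_add u v h0)) (by rw [hadd, e, hT])
  · rcases hirr f.range (by
        rintro _ ⟨v, rfl⟩
        exact ⟨⟨Multiplicative.ofAdd (gV v.toAdd), hg _⟩, ⟨Multiplicative.ofAdd (yV v.toAdd), hy _⟩⟩) with h | h
    · exact absurd (Subgroup.mem_bot.1 (h ▸ ⟨Multiplicative.ofAdd ((1, 0, 0) : V3), rfl⟩ : q (1, 0, 0) ∈ (⊥ : Subgroup T)))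
        (hw _ (by decide))
    · obtain ⟨v, hv⟩ := (h ▸ Subgroup.mem_top t : t ∈ f.range)
      exact ⟨v.toAdd, hv⟩

end

end Cfsg.Agent.L32Radical
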