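import Cfsg.Agent.Lib.RankFourRadical.Squares

/-!
# An element of order 7 on an elementary group of order 16

* `exists_split`: a fixed point and an invariant complement
* `hyperplane_invariant`: if the fixed point is moved by the whole group, the complement is invariant
-/

set_option autoImplicit false

namespace Cfsg.Agent.L32Radical

open Subgroup

section

variable {V : Type*} [Group V] [Finite V]

theorem mul_comm_of_sq (hV : ∀ a : V, a * a = 1) (a b : V) : a * b = b * a := by
  have hi : ∀ c : V, c⁻¹ = c := fun c => inv_eq_of_mul_eq_one_right (hV c)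
  rw [← hi (a * b), mul_inv_rev, hi, hi]

theorem fix_count (σ : MulAut V) (h7 : σ ^ 7 = 1) (s : Set V) (hs : ∀ a, σ a ∈ s ↔ a ∈ s) :
    s.ncard ≡ {a | a ∈ s ∧ σ a = a}.ncard [MOD 7] := by
  haveI : Fact (Nat.Prime 7) := ⟨by norm_num⟩
  have h := RankFourRadical.level_card (MulAut.toPerm V σ) 7 (by rw [← map_pow, h7, map_one])
    (fun a => a ∈ s) (fun a => propext (hs a)) True
  simp only [eq_iff_iff, iff_true] at h
  exact h

theorem dvd_sixteen {k : ℕ} (hk : k ∣ 16) : k = 1 ∨ k = 2 ∨ k = 4 ∨ k = 8 ∨ k = 16 := by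
  have := Nat.le_of_dvd (by norm_num) hk
  interval_cases k <;> simp_all

/-- A fixed point and an invariant complement. -/
structure Split16 (σ : MulAut V) (v0 : V) (W : Subgroup V) : Prop where
  ne : v0 ≠ 1
  fix : σ v0 = v0
  notMem : v0 ∉ W
  card : Nat.card W = 8
  cover : ∀ a, a ∈ W ∨ v0 * a ∈ W
  only : ∀ a, σ a = a → a = 1 ∨ a = v0
  stable : ∀ a, σ a ∈ W ↔ a ∈ W

theorem exists_split (hV : ∀ a : V, a * a = 1) (h16 : Nat.card V = 16) (σ : MulAut V) (h7 : σ ^ 7 = 1)
    (hne : σ ≠ 1) : ∃ v0 W, Split16 σ v0 W := by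
  have hc := mul_comm_of_sq hV
  let d : V →* V :=
    { toFun := fun a => σ a * a
      map_one' := by simp
      map_mul' := fun a b => by
        rw [map_mul, mul_assoc, ← mul_assoc (σ b), hc (σ b) a, mul_assoc a, ← mul_assoc] }
  have hker : ∀ a, a ∈ d.ker ↔ σ a = a := fun a => by
    rw [MonoidHom.mem_ker]
    show σ a * a = 1 ↔ _
    rw [mul_eq_one_iff_eq_inv, inv_eq_of_mul_eq_one_right (hV a)]
  have hkd : Nat.card d.ker ∣ 16 := h16 ▸ card_subgroup_dvd_card _
  have hmod := fix_count σ h7 Set.univ (fun a => by simp)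
  have he : {a | a ∈ Set.univ ∧ σ a = a} = (d.ker : Set V) := by
    ext a; simp [hker]
  rw [Set.ncard_univ, h16, he, ← Nat.card_coe_set_eq] at hmod
  have hk : Nat.card d.ker = 2 := by
    change 16 % 7 = Nat.card d.ker % 7 at hmod
    rcases dvd_sixteen hkd with h | h | h | h | h <;> rw [h] at hmod <;> try omega
    refine absurd (MulEquiv.ext fun a => ?_) hne
    have : d.ker = ⊤ := eq_top_of_card_eq _ (h.trans h16.symm)
    exact (hker a).1 (this ▸ mem_top a)
  haveI : Nontrivial d.ker := Finite.one_lt_card_iff_nontrivial.1 (by omega)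
  obtain ⟨v0, hv0⟩ := exists_ne (1 : d.ker)
  have honly : ∀ a, σ a = a → a = 1 ∨ a = (v0 : V) := fun a ha => by
    by_contra hcon
    push Not at hcon
    have h3 : ({1, (v0 : V), a} : Set V).ncard ≤ (d.ker : Set V).ncard :=
      Set.ncard_le_ncard (by
        rintro x (rfl | rfl | rfl)
        exacts [one_mem _, v0.2, (hker _).2 ha])
    have e3 : ({1, (v0 : V), a} : Set V).ncard = 3 := Set.ncard_eq_three.2
      ⟨(1 : V), (v0 : V), a, fun h => hv0 (Subtype.ext h.symm), fun h => hcon.1 h.symm, fun h => hcon.2 h.symm, rfl⟩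
    rw [e3, ← Nat.card_coe_set_eq] at h3
    change 3 ≤ Nat.card d.ker at h3
    omega
  have hW : Nat.card d.range = 8 := by
    have h := d.ker.card_mul_index
    rw [index_ker, hk, h16] at h
    omega
  have hstab : ∀ a, a ∈ d.range → σ a ∈ d.range := by
    rintro _ ⟨b, rfl⟩
    exact ⟨σ b, by show σ (σ b) * σ b = σ (σ b * b); rw [map_mul]⟩
  have hiff : ∀ a, σ a ∈ d.range ↔ a ∈ d.range := fun a => by
    refine ⟨fun h => ?_, hstab a⟩
    have hm : d.range.map σ.toMonoidHom = d.range :=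
      eq_of_le_of_card_ge (by rintro _ ⟨b, hb, rfl⟩; exact hstab b hb)
        (card_map_of_injective σ.injective).ge
    rw [← hm] at h
    obtain ⟨b, hb, hbe⟩ := h
    exact σ.injective hbe ▸ hb
  have hnm : (v0 : V) ∉ d.range := fun hmem => by
    have h := fix_count σ h7 (d.range : Set V) hiff
    have he2 : {a | a ∈ (d.range : Set V) ∧ σ a = a} = {1, (v0 : V)} := by
      ext a
      refine ⟨fun ⟨_, ha⟩ => honly a ha, ?_⟩
      rintro (rfl | rfl)
      exacts [⟨one_mem _, map_one σ⟩, ⟨hmem, (hker _).1 v0.2⟩]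
    rw [he2, ← Nat.card_coe_set_eq, Set.ncard_pair (fun h : (1 : V) = (v0 : V) => hv0 (Subtype.ext h.symm))] at h
    change Nat.card d.range % 7 = 2 % 7 at h
    omega
  have hidx : d.range.index = 2 := by
    have h := d.range.card_mul_index
    rw [hW, h16] at h
    omega
  refine ⟨v0, d.range, fun h => hv0 (Subtype.ext h), (hker _).1 v0.2, hnm, hW, fun a => ?_, honly, hiff⟩
  by_cases ha : a ∈ d.range
  · exact Or.inl ha
  · exact Or.inr ((mul_mem_iff_of_index_two hidx).2 ⟨fun h => absurd h hnm, fun h => absurd h ha⟩)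

variable {Γ : Type*} [Group Γ] [Finite Γ]

/-- If the fixed point is moved, the complement is invariant. -/
theorem hyperplane_invariant (h16 : Nat.card V = 16) (Φ : Γ →* MulAut V) {s : Γ} (h7 : Φ s ^ 7 = 1) {v0 : V}
    {W : Subgroup V} (S : Split16 (Φ s) v0 W) (hmoved : ∃ γ, Φ γ v0 ≠ v0) {N : Subgroup Γ}
    (hN : ∀ n ∈ N, Φ n = 1) (h168 : N.index ∣ 168) (γ : Γ) {a : V} (ha : a ∈ W) : Φ γ a ∈ W := by
  letI : MulAction Γ V := MulAction.compHom V Φ
  have hsm : ∀ (u : Γ) (b : V), u • b = Φ u b := fun _ _ => rfl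
  set O := MulAction.orbit Γ v0 with hO
  have hOdvd : O.ncard ∣ 168 := by
    rw [← MulAction.index_stabilizer]
    refine (index_dvd_of_le ?_).trans h168
    intro n hn
    rw [MulAction.mem_stabilizer_iff, hsm, hN n hn]
    rfl
  have hOinv : ∀ (u : Γ) (b : V), Φ u b ∈ O ↔ b ∈ O := fun u b => by
    rw [← hsm]
    constructor
    · rintro ⟨w, hw⟩
      exact ⟨u⁻¹ * w, by show (u⁻¹ * w) • v0 = b; rw [mul_smul, show w • v0 = u • b from hw, inv_smul_smul]⟩
    · rintro ⟨w, rfl⟩
      exact ⟨u * w, mul_smul u w v0⟩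
  have h1O : (1 : V) ∉ O := by
    rintro ⟨u, hu⟩
    exact S.ne ((Φ u).injective (hu.trans (map_one (Φ u)).symm))
  have hv0O : v0 ∈ O := MulAction.mem_orbit_self v0
  have hO8 : O.ncard = 8 := by
    have h := fix_count (Φ s) h7 O (hOinv s)
    have he : {b | b ∈ O ∧ Φ s b = b} = {v0} := by
      ext b
      refine ⟨fun ⟨hb, hbf⟩ => (S.only b hbf).resolve_left fun h => h1O (h ▸ hb), ?_⟩
      rintro rfl
      exact ⟨hv0O, S.fix⟩
    rw [he, Set.ncard_singleton] at h
    change O.ncard % 7 = 1 % 7 at h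
    have h15 : O.ncard < 16 := h16 ▸ (by
      rw [← Set.ncard_univ]
      exact Set.ncard_lt_ncard (Set.ssubset_univ_iff.2 fun h => h1O (h ▸ Set.mem_univ _)))
    have h2 : 1 < O.ncard := by
      obtain ⟨u, hu⟩ := hmoved
      exact (Set.one_lt_ncard).2 ⟨_, ⟨u, rfl⟩, v0, hv0O, hu⟩
    generalize O.ncard = k at hOdvd h h15 h2
    interval_cases k <;> simp_all
  set M : Set V := {b | b ≠ 1 ∧ b ∉ O} with hM
  have hM7 : M.ncard = 7 := by
    have : M = (insert 1 O)ᶜ := by ext b; simp [hM]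
    rw [this, Set.ncard_compl, Set.ncard_insert_of_notMem h1O, hO8, h16]
  have hMinv : ∀ (u : Γ) (b : V), Φ u b ∈ M ↔ b ∈ M := fun u b => by
    show _ ∧ _ ↔ _ ∧ _
    rw [hOinv, ne_eq, map_eq_one_iff (Φ u) (Φ u).injective]
  have hMnofix : ∀ b ∈ M, Φ s b ≠ b := fun b hb hbf => by
    rcases S.only b hbf with rfl | rfl
    exacts [hb.1 rfl, hb.2 hv0O]
  have hside : (∀ b ∈ M, b ∈ W) ∨ ∀ b ∈ M, b ∉ W := by
    have h := fix_count (Φ s) h7 (M ∩ (W : Set V)) (fun b => and_congr (hMinv s b) (S.stable b))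
    have he : {b | b ∈ M ∩ (W : Set V) ∧ Φ s b = b} = ∅ :=
      Set.eq_empty_iff_forall_notMem.2 fun b hb => hMnofix b hb.1.1 hb.2
    rw [he, Set.ncard_empty] at h
    change _ % 7 = 0 % 7 at h
    have hle : (M ∩ (W : Set V)).ncard ≤ 7 := hM7 ▸ Set.ncard_le_ncard Set.inter_subset_left
    have : (M ∩ (W : Set V)).ncard = 0 ∨ (M ∩ (W : Set V)).ncard = 7 := by omega
    rcases this with h0 | h0
    · refine Or.inr fun b hb hbW => ?_
      exact Set.eq_empty_iff_forall_notMem.1 ((Set.ncard_eq_zero).1 h0) b ⟨hb, hbW⟩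
    · refine Or.inl fun b hb => ?_
      have := Set.eq_of_subset_of_ncard_le (s := M ∩ (W : Set V)) (t := M) Set.inter_subset_left (by rw [h0, hM7])
      exact (this.symm ▸ hb : b ∈ M ∩ (W : Set V)).2
  have hidx : W.index = 2 := by
    have h := W.card_mul_index
    rw [S.card, h16] at h
    omega
  set P : Set V := {x | ∃ b ∈ M, ∃ c ∈ M, x = b * c}
  have hPW : closure P ≤ W := (closure_le _).2 (by
    rintro _ ⟨b, hb, c, hc, rfl⟩
    rcases hside with h | h
    · exact mul_mem (h b hb) (h c hc)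
    · exact (mul_mem_iff_of_index_two hidx).2 ⟨fun h' => absurd h' (h b hb), fun h' => absurd h' (h c hc)⟩)
  have hPinv : ∀ (u : Γ) (x : V), x ∈ closure P → Φ u x ∈ closure P := fun u x hx => by
    have hle : (closure P).map (Φ u).toMonoidHom ≤ closure P := by
      rw [MonoidHom.map_closure]
      refine closure_mono ?_
      rintro _ ⟨_, ⟨b, hb, c, hc, rfl⟩, rfl⟩
      exact ⟨_, (hMinv u b).2 hb, _, (hMinv u c).2 hc, map_mul (Φ u) b c⟩
    exact hle ⟨x, hx, rfl⟩
  have hiff : ∀ x, Φ s x ∈ closure P ↔ x ∈ closure P := fun x => by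
    refine ⟨fun h => ?_, hPinv s x⟩
    have h' := hPinv s⁻¹ _ h
    rwa [← MulAut.mul_apply, ← map_mul, inv_mul_cancel, map_one] at h'
  have heq : closure P = W := by
    refine eq_of_le_of_card_ge hPW ?_
    have h := fix_count (Φ s) h7 (closure P : Set V) hiff
    have he : {b | b ∈ (closure P : Set V) ∧ Φ s b = b} = {1} := by
      ext b
      refine ⟨fun ⟨hb, hbf⟩ => (S.only b hbf).resolve_right fun h => S.notMem (h ▸ hPW hb), ?_⟩
      rintro rfl
      exact ⟨one_mem _, map_one _⟩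
    rw [he, Set.ncard_singleton, ← Nat.card_coe_set_eq] at h
    change Nat.card (closure P) % 7 = 1 % 7 at h
    have hd : Nat.card (closure P) ∣ 16 := h16 ▸ card_subgroup_dvd_card _
    have hne : Nat.card (closure P) ≠ 1 := fun h1 => by
      obtain ⟨b, hb, c, hc, hbc⟩ := (Set.one_lt_ncard).1 (show 1 < M.ncard by omega)
      have hmem : b⁻¹ * c ∈ closure P := by
        have hb' : b * b ∈ closure P := subset_closure ⟨b, hb, b, hb, rfl⟩
        have hbc' : b * c ∈ closure P := subset_closure ⟨b, hb, c, hc, rfl⟩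
        have : b⁻¹ * c = (b * b)⁻¹ * (b * c) := by group
        rw [this]; exact mul_mem (inv_mem hb') hbc'
      rw [card_eq_one.1 h1, mem_bot, inv_mul_eq_one] at hmem
      exact hbc hmem
    have := S.card
    rcases dvd_sixteen hd with h' | h' | h' | h' | h' <;> omega
  rw [← heq] at ha ⊢
  exact hPinv γ a ha

end

end Cfsg.Agent.L32Radical
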