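import Cfsg.Agent.Lib.L32Radical.Lines
import Cfsg.Agent.Lib.L32Radical.Quotient
import Cfsg.Agent.Lib.RankFourRadical.Basic

/-!
# Chief layers and images in quotients
-/

set_option autoImplicit false

namespace Cfsg.Agent.L32Radical

open Subgroup

section

variable {G : Type*} [Group G] [Finite G] {Q Q₁ P K : Subgroup G} {g y c : G} {e : V3 → G}

/-- A maximal normal subgroup strictly inside `P` gives a chief layer. -/
theorem exists_chief [Q.Normal] [P.Normal] (hQ : IsPGroup 2 Q) (hPQ : P ≤ Q) (hne : P ≠ ⊥) :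
    ∃ (K : Subgroup G) (_ : K.Normal), K < P ∧
      Chief (Q.map (QuotientGroup.mk' K)) (P.map (QuotientGroup.mk' K)) := by
  obtain ⟨K, -, ⟨⟨hKn, hKlt⟩, hmax⟩⟩ := Finite.exists_le_maximal (α := Subgroup G)
    (p := fun K => K.Normal ∧ K < P) (a := ⊥) ⟨inferInstance, bot_lt_iff_ne_bot.2 hne⟩
  haveI := hKn
  set π := QuotientGroup.mk' K with hπ
  have hπs : Function.Surjective π := QuotientGroup.mk'_surjective K
  haveI : (Q.map π).Normal := Normal.map inferInstance π hπs
  haveI : (P.map π).Normal := Normal.map inferInstance π hπs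
  have hne' : P.map π ≠ ⊥ := fun h => hKlt.not_ge ((Subgroup.map_eq_bot_iff _).1 h |>.trans_eq (QuotientGroup.ker_mk' K))
  have hirr : ∀ L : Subgroup (G ⧸ K), L.Normal → L ≤ P.map π → L = ⊥ ∨ L = P.map π := by
    intro L hL hLP
    have hcm : (P.map π).comap π = P := by
      rw [comap_map_eq, QuotientGroup.ker_mk', sup_eq_left.2 hKlt.le]
    have hle : L.comap π ≤ P := (comap_mono hLP).trans_eq hcm
    have hKL : K ≤ L.comap π := (QuotientGroup.ker_mk' K).symm.trans_le (ker_le_comap π L)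
    by_cases heq : L.comap π = P
    · exact Or.inr (by rw [← heq, map_comap_eq_self_of_surjective hπs])
    · refine Or.inl ?_
      have : L.comap π ≤ K := hmax ⟨hL.comap π, lt_of_le_of_ne hle heq⟩ hKL
      rw [← map_comap_eq_self_of_surjective hπs L, eq_bot_iff]
      exact (map_mono this).trans (by rw [hπ, QuotientGroup.map_mk'_self])
  obtain ⟨L, hL, hlt⟩ := RankFourRadical.exists_layer (hQ.map π) (map_mono hPQ) hne'
  obtain rfl := (hirr L hL.normal hL.le).resolve_right hlt.ne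
  refine ⟨K, hKn, hKlt, ⟨inferInstance, map_mono hPQ, fun t ht => mem_bot.1 (hL.sq t ht),
    fun t ht a ha => ?_, hirr, hne'⟩⟩
  exact kom_eq_one.1 (mem_bot.1 (hL.comm t ht a ha))

/-- Squares generate, also in quotients. -/
theorem gen_map [Q.Normal] [K.Normal] (hP : P ≤ RankFourRadical.phi Q) (L : Subgroup (G ⧸ K)) (hL : L.Normal)
    (h : ∀ a ∈ Q.map (QuotientGroup.mk' K), a * a ∈ L) : P.map (QuotientGroup.mk' K) ≤ L := by
  haveI := hL
  refine map_le_iff_le_comap.2 (hP.trans (RankFourRadical.phi_le_of_sq fun a ha => ?_))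
  show QuotientGroup.mk' K (a * a) ∈ L
  rw [map_mul]; exact h _ (mem_map_of_mem _ ha)

omit [Finite G] in
theorem Over.map [K.Normal] (O : Over Q₁ P) :
    Over (Q₁.map (QuotientGroup.mk' K)) (P.map (QuotientGroup.mk' K)) := by
  refine ⟨?_, ?_⟩
  · rintro _ ⟨a, ha, rfl⟩; rw [← map_mul]; exact mem_map_of_mem _ (O.sq a ha)
  · rintro _ ⟨a, ha, rfl⟩ _ ⟨b, hb, rfl⟩
    rw [← map_inv, ← map_inv, ← map_mul, ← map_mul, ← map_mul]
    exact mem_map_of_mem _ (O.comm a ha b hb)

omit [Finite G] in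
theorem Lifts.map [K.Normal] (hKP : K ≤ P) (L : Lifts Q₁ P y e) :
    Lifts (Q₁.map (QuotientGroup.mk' K)) (P.map (QuotientGroup.mk' K)) (y : G ⧸ K) (fun v => (e v : G ⧸ K)) := by
  refine ⟨fun v => mem_map_of_mem _ (L.mem v), by simp [L.zero], fun u v => ?_, fun v hv => ?_, fun v => ?_⟩
  · exact mem_map_of_mem (QuotientGroup.mk' K) (L.add u v)
  · exact L.indep v ((mem_map_mk hKP).1 hv)
  · exact mem_map_of_mem (QuotientGroup.mk' K) (L.yact v)

omit [Finite G] in
theorem Frame3.map [K.Normal] (hKP : K ≤ P) (F : Frame3 Q₁ P g y e) :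
    Frame3 (Q₁.map (QuotientGroup.mk' K)) (P.map (QuotientGroup.mk' K)) (g : G ⧸ K) (y : G ⧸ K)
      (fun v => (e v : G ⧸ K)) := by
  refine { toLifts := F.toLifts.map hKP, cover := ?_, gact := fun v => ?_ }
  · rintro _ ⟨a, ha, rfl⟩
    obtain ⟨v, hv⟩ := F.cover a ha
    exact ⟨v, mem_map_of_mem (QuotientGroup.mk' K) hv⟩
  · exact mem_map_of_mem (QuotientGroup.mk' K) (F.gact v)

omit [Finite G] in
theorem LineFrame.map [K.Normal] (hKP : K ≤ P) (L : LineFrame Q P g y c e) :
    LineFrame (Q.map (QuotientGroup.mk' K)) (P.map (QuotientGroup.mk' K)) (g : G ⧸ K) (y : G ⧸ K) (c : G ⧸ K)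
      (fun v => (e v : G ⧸ K)) := by
  refine { toLifts := L.toLifts.map hKP, cmem := mem_map_of_mem _ L.cmem, cg := ?_, cy := ?_,
           cind := fun v hv => L.cind v ((mem_map_mk hKP).1 hv), cover := ?_, gact := fun v => ?_ }
  · exact mem_map_of_mem (QuotientGroup.mk' K) L.cg
  · exact mem_map_of_mem (QuotientGroup.mk' K) L.cy
  · rintro _ ⟨a, ha, rfl⟩
    obtain ⟨v, hv | hv⟩ := L.cover a ha
    · exact ⟨v, Or.inl (mem_map_of_mem (QuotientGroup.mk' K) hv)⟩
    · exact ⟨v, Or.inr (mem_map_of_mem (QuotientGroup.mk' K) hv)⟩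
  · have := mem_map_of_mem (QuotientGroup.mk' K) (L.gact v)
    simpa using this

omit [Finite G] in
theorem Coords.map {n : ℕ} {G' : Type*} [Group G'] {e : St n → G} {f : St n → St n} (C : Coords Q g y e f)
    (ψ : G →* G') (hψ : Function.Injective ψ) : Coords (Q.map ψ) (ψ g) (ψ y) (fun s => ψ (e s)) f := by
  refine ⟨fun s t => by rw [C.add, map_mul], fun s t h => C.inj (hψ h), fun s => mem_map_of_mem ψ (C.mem s), ?_,
    fun s => by rw [← C.gact, map_mul, map_mul, map_inv], fun s => by rw [← C.yact, map_mul, map_mul, map_inv]⟩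
  rintro _ ⟨q, hq, rfl⟩
  obtain ⟨s, hs⟩ := C.surj q hq
  exact ⟨s, by rw [hs]⟩

end

end Cfsg.Agent.L32Radical
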