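import Cfsg.Agent.Lib.L32Radical.LevelOneFull
import Cfsg.Agent.Lib.L32Radical.LevelTwo
import Cfsg.Agent.Lib.L32Radical.Transfer
import Cfsg.Agent.Lib.L32Radical.Split
import Cfsg.Agent.Lib.L32Radical.Frames
import Cfsg.Agent.Lib.Coprime.Frattini

/-!
# A self-centralising 2-group under a simple group of order 168

`radical_shape`: `Q` is elementary of order 8 or 16, or `ℤ/4 × 2³`.
-/

set_option autoImplicit false

namespace Cfsg.Agent.L32Radical

open Subgroup
open RankFourRadical (Sect4 phi phi_le sq_mem_phi comm_mem_phi)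

section

/-- The possible twists on a line below a natural module. -/
theorem twist_cases : ∀ p : V3,
    (relS (gS (n := 2) id p 0 0) (0, (1, 0, 0)) = (0, (1, 0, 0)) ∧
      relS (gS (n := 2) id p 0 0) (0, (0, 1, 0)) = (0, (0, 1, 0)) ∧
      relS (gS (n := 2) id p 0 0) (0, (0, 0, 1)) = (0, (0, 0, 1))) →
    p = 0 ∨ p = (1, 0, 0) := by decide +kernel

theorem zmod_two_cases : ∀ k : ZMod 2, k = 0 ∨ k = 1 := by decide

theorem first_ne : ((1, 0, 0) : V3) ≠ 0 := by decide

theorem pair_ne : ((0, 1, 0) : V3) + (1, 0, 0) ≠ 0 := by decide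

theorem yV_fix : ∀ v : V3, yV v + v = 0 → v = 0 := by decide

/-- The coordinates of `ℤ/4 × 2³`. -/
def stEquiv : Multiplicative (St 4) ≃* Multiplicative (ZMod 4) × (Fin 3 → Multiplicative (ZMod 2)) where
  toFun s := (.ofAdd s.toAdd.1, ![.ofAdd s.toAdd.2.1, .ofAdd s.toAdd.2.2.1, .ofAdd s.toAdd.2.2.2])
  invFun p := .ofAdd (p.1.toAdd, ((p.2 0).toAdd, (p.2 1).toAdd, (p.2 2).toAdd))
  left_inv _ := rfl
  right_inv p := Prod.ext rfl (funext fun i => by fin_cases i <;> rfl)
  map_mul' s t := Prod.ext rfl (funext fun i => by fin_cases i <;> rfl)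

variable {G : Type*} [Group G] [Finite G] {Q : Subgroup G} [Q.Normal]

theorem exists_seven (hQ : IsPGroup 2 Q) (h168 : Nat.card (G ⧸ Q) = 168) : ∃ s : G, s ^ 7 = 1 ∧ s ∉ Q := by
  haveI : Fact (Nat.Prime 7) := ⟨by norm_num⟩
  have hdvd : 7 ∣ Nat.card G := by
    rw [card_eq_card_quotient_mul_card_subgroup Q, h168]
    exact dvd_mul_of_dvd_left (by norm_num) _
  obtain ⟨s, hs⟩ := exists_prime_orderOf_dvd_card' 7 hdvd
  refine ⟨s, hs ▸ pow_orderOf_eq_one s, fun h => ?_⟩
  obtain ⟨k, hk⟩ := hQ ⟨s, h⟩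
  have : 7 ∣ 2 ^ k := hs ▸ orderOf_dvd_of_pow_eq_one (congrArg Subtype.val hk)
  exact absurd ((Nat.Prime.dvd_of_dvd_pow (by norm_num) this)) (by norm_num)

theorem kernel_le [IsSimpleGroup (G ⧸ Q)] {K : Subgroup G} (hK : K.Normal) (hQK : Q ≤ K) {s : G} (hs : s ∉ K)
    {h : G} (hh : h ∈ K) : h ∈ Q := by
  rcases (hK.map (QuotientGroup.mk' Q) (QuotientGroup.mk'_surjective Q)).eq_bot_or_eq_top with hb | hb
  · rw [← QuotientGroup.eq_one_iff]
    exact mem_bot.1 (hb ▸ mem_map_of_mem (QuotientGroup.mk' Q) hh)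
  · refine absurd ?_ hs
    obtain ⟨k, hk, he⟩ : (s : G ⧸ Q) ∈ K.map (QuotientGroup.mk' Q) := hb ▸ mem_top _
    simpa using mul_mem hk (hQK (QuotientGroup.eq.1 he))

/-- The elements acting trivially on the layer `Q₁/T`. -/
def layerKer (Q₁ T : Subgroup G) [T.Normal] : Subgroup G :=
  (centralizer (Q₁.map (QuotientGroup.mk' T) : Set (G ⧸ T))).comap (QuotientGroup.mk' T)

theorem mem_layerKer {Q₁ T : Subgroup G} [T.Normal] {h : G} :
    h ∈ layerKer Q₁ T ↔ ∀ b ∈ Q₁, h * b * h⁻¹ * b⁻¹ ∈ T := by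
  have key : ∀ b : G, h * b * h⁻¹ * b⁻¹ ∈ T ↔ (h : G ⧸ T) * b = b * h := fun b => by
    rw [← QuotientGroup.eq_one_iff, QuotientGroup.mk_mul, QuotientGroup.mk_mul, QuotientGroup.mk_mul,
      QuotientGroup.mk_inv, QuotientGroup.mk_inv, mul_inv_eq_one, mul_inv_eq_iff_eq_mul]
  rw [layerKer, mem_comap, mem_centralizer_iff]
  refine ⟨fun H b hb => (key b).2 (H _ (mem_map_of_mem _ hb)).symm, ?_⟩
  rintro H _ ⟨b, hb, rfl⟩
  exact ((key b).1 (H b hb)).symm

theorem layerKer_normal (Q₁ T : Subgroup G) [T.Normal] [Q₁.Normal] : (layerKer Q₁ T).Normal := by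
  haveI : (Q₁.map (QuotientGroup.mk' T)).Normal :=
    Normal.map inferInstance _ (QuotientGroup.mk'_surjective T)
  exact Normal.comap inferInstance _

theorem faithful (hQ : IsPGroup 2 Q) (hchar : centralizer (Q : Set G) ≤ Q) [IsSimpleGroup (G ⧸ Q)]
    (h168 : Nat.card (G ⧸ Q) = 168) {h : G} (hh : ∀ b ∈ Q, h * b * h⁻¹ * b⁻¹ ∈ phi Q) : h ∈ Q := by
  obtain ⟨s, hs7, hsQ⟩ := exists_seven hQ h168
  refine kernel_le (layerKer_normal Q (phi Q))
    (fun q hq => mem_layerKer.2 fun b hb => comm_mem_phi hQ hq hb) (s := s) (fun hsK => hsQ (hchar ?_))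
    (mem_layerKer.2 hh)
  refine Coprime.le_centralizer_of_forall_mem_frattini (A := zpowers s) (K := Q)
    ((Subgroup.normalizer_eq_top_iff.2 (inferInstance : Q.Normal)).ge.trans' le_top) ?_
    (fun a ha x hx => mem_layerKer.1 ((zpowers_le.2 hsK) ha) x hx) (mem_zpowers s)
  obtain ⟨i, hi⟩ := IsPGroup.iff_card.1 (hQ.to_subgroup (frattini Q))
  rw [Nat.card_zpowers, hi]
  exact Nat.Coprime.pow_right i (Nat.Coprime.coprime_dvd_left (orderOf_dvd_of_pow_eq_one hs7) (by norm_num))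

variable {g y : G}

/-- An invariant natural hyperplane of `Q/Φ(Q)` with `Φ(Q) ≠ 1`. -/
theorem shape_of_hyperplane (S : Setting Q g y) (hne : phi Q ≠ ⊥) {E : Subgroup G} [E.Normal] (hEQ : E ≤ Q)
    (hPE : phi Q ≤ E) {e : V3 → G} (F : Frame3 E (phi Q) g y e) {v : G} (hv : v ∈ Q) (hv1 : v ∉ E)
    (hcover : ∀ a ∈ Q, a ∈ E ∨ v⁻¹ * a ∈ E) (hy : v⁻¹ * (y * v * y⁻¹) ∈ phi Q) :
    Nonempty (Q ≃* Multiplicative (ZMod 4) × (Fin 3 → Multiplicative (ZMod 2))) := by
  obtain ⟨K, hKn, hKlt, C⟩ := exists_chief S.two (phi_le Q) hne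
  set π := QuotientGroup.mk' K with hπ
  have hπs : Function.Surjective π := QuotientGroup.mk'_surjective K
  haveI : (Q.map π).Normal := Normal.map inferInstance π hπs
  haveI : (E.map π).Normal := Normal.map inferInstance π hπs
  have hKQ : K ≤ Q := hKlt.le.trans (phi_le Q)
  have hKE : K ≤ E := hKlt.le.trans hPE
  have OQ : Over Q (phi Q) := ⟨fun a ha => sq_mem_phi S.two ha, fun a ha b hb => comm_mem_phi S.two ha hb⟩
  obtain ⟨e', CC⟩ := (S.quotient K hKQ).level_one C OQ.map (gen_map le_rfl)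
    (map_mono hEQ) (map_mono hPE) (F.map hKlt.le) (v := (v : G ⧸ K)) (mem_map_of_mem π hv)
    (fun h => hv1 ((mem_map_mk hKE).1 h))
    (by
      rintro _ ⟨a, ha, rfl⟩
      exact (hcover a ha).imp (mem_map_of_mem π) (mem_map_of_mem π))
    (mem_map_of_mem π hy)
  by_cases hK : K = ⊥
  · have hbij : Function.Bijective (fun a : Q => (⟨π a, mem_map_of_mem π a.2⟩ : Q.map π)) := by
      refine ⟨fun a b h => Subtype.ext ?_, fun b => ?_⟩
      · have h' := QuotientGroup.eq.1 (show ((a : G) : G ⧸ K) = ((b : G) : G ⧸ K) from congrArg Subtype.val h)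
        rw [hK, mem_bot, inv_mul_eq_one] at h'
        exact h'
      · obtain ⟨a, ha, he⟩ := b.2
        exact ⟨⟨a, ha⟩, Subtype.ext he⟩
    let e1 : Q ≃* Q.map π := MulEquiv.ofBijective
      (MonoidHom.mk' (fun a : Q => (⟨π a, mem_map_of_mem π a.2⟩ : Q.map π)) fun a b =>
        Subtype.ext (map_mul π (a : G) (b : G))) hbij
    let e2 : Multiplicative (St 4) ≃* Q.map π := MulEquiv.ofBijective
      (MonoidHom.mk' (fun s : Multiplicative (St 4) => (⟨e' s.toAdd, CC.mem _⟩ : Q.map π)) fun s t =>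
        Subtype.ext (CC.add _ _))
      ⟨fun s t h => CC.inj (congrArg Subtype.val h), fun b => by
        obtain ⟨s, hs⟩ := CC.surj _ b.2
        exact ⟨.ofAdd s, Subtype.ext hs⟩⟩
    exact ⟨e1.trans (e2.symm.trans stEquiv)⟩
  exfalso
  obtain ⟨M, hMn, hMlt, C'⟩ := exists_chief (P := K) S.two hKQ hK
  set πM := QuotientGroup.mk' M with hπM
  haveI : (Q.map πM).Normal := Normal.map inferInstance πM (QuotientGroup.mk'_surjective M)
  haveI : (K.map πM).Normal := Normal.map inferInstance πM (QuotientGroup.mk'_surjective M)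
  have hker : K ≤ ((QuotientGroup.mk' (K.map πM)).comp πM).ker := fun k hk =>
    (QuotientGroup.eq_one_iff _).2 (mem_map_of_mem πM hk)
  let ψ : G ⧸ K →* (G ⧸ M) ⧸ K.map πM := QuotientGroup.lift K ((QuotientGroup.mk' (K.map πM)).comp πM) hker
  have hψ : Function.Injective ψ := by
    rw [injective_iff_map_eq_one]
    intro x hx
    obtain ⟨a, rfl⟩ := hπs x
    have h' : πM a ∈ K.map πM := (QuotientGroup.eq_one_iff _).1 hx
    exact (QuotientGroup.eq_one_iff a).2 ((mem_map_mk hMlt.le).1 h')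
  have hcomp : ψ.comp π = (QuotientGroup.mk' (K.map πM)).comp πM := MonoidHom.ext fun _ => rfl
  have CC' := CC.map ψ hψ
  rw [map_map, hcomp, ← map_map] at CC'
  exact (S.quotient M (hMlt.le.trans hKQ)).level_two C' (gen_map hKlt.le) CC'

/-- A natural module `Q/Φ(Q)` forces `Φ(Q) = 1`. -/
theorem false_of_natural (S : Setting Q g y) (hne : phi Q ≠ ⊥) {e : V3 → G} (F : Frame3 Q (phi Q) g y e) :
    False := by
  obtain ⟨K, hKn, hKlt, C⟩ := exists_chief S.two (phi_le Q) hne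
  haveI : (Q.map (QuotientGroup.mk' K)).Normal := Normal.map inferInstance _ (QuotientGroup.mk'_surjective K)
  have OQ : Over Q (phi Q) := ⟨fun a ha => sq_mem_phi S.two ha, fun a ha b hb => comm_mem_phi S.two ha hb⟩
  exact (S.quotient K (hKlt.le.trans (phi_le Q))).shape3_false C OQ.map (F.map hKlt.le) (gen_map le_rfl)

/-- A nonsplit line below a natural module in `Q/Φ(Q)` forces `Φ(Q) = 1`. -/
theorem false_of_line (S : Setting Q g y) (hne : phi Q ≠ ⊥) {c : G} {e : V3 → G}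
    (L : LineFrame Q (phi Q) g y c e) : False := by
  obtain ⟨K, hKn, hKlt, C⟩ := exists_chief S.two (phi_le Q) hne
  haveI : (Q.map (QuotientGroup.mk' K)).Normal := Normal.map inferInstance _ (QuotientGroup.mk'_surjective K)
  have OQ : Over Q (phi Q) := ⟨fun a ha => sq_mem_phi S.two ha, fun a ha b hb => comm_mem_phi S.two ha hb⟩
  exact (S.quotient K (hKlt.le.trans (phi_le Q))).lines_false C OQ.map (gen_map le_rfl) (L.map hKlt.le)

/-- A self-centralising 2-group under a simple group of order 168. -/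
theorem radical_shape (h4 : Sect4 G) (hQ : IsPGroup 2 Q) (hchar : centralizer (Q : Set G) ≤ Q)
    (h168 : Nat.card (G ⧸ Q) = 168) [IsSimpleGroup (G ⧸ Q)] :
    ((∀ a ∈ Q, ∀ b ∈ Q, a * b = b * a) ∧ (∀ a ∈ Q, a ^ 2 = 1) ∧ (Nat.card Q = 8 ∨ Nat.card Q = 16)) ∨
      Nonempty (Q ≃* Multiplicative (ZMod 4) × (Fin 3 → Multiplicative (ZMod 2))) := by
  classical
  set P := phi Q with hP
  set ρ := QuotientGroup.mk' P with hρ
  set V := Q.map ρ with hV
  haveI : V.Normal := Normal.map inferInstance ρ (QuotientGroup.mk'_surjective P)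
  have hfaith : ∀ h, (∀ b ∈ Q, h * b * h⁻¹ * b⁻¹ ∈ P) → h ∈ Q := fun h hh => faithful hQ hchar h168 hh
  have hcV : Nat.card V * Nat.card P = Nat.card Q := RankFourRadical.card_map_mk (phi_le Q)
  have hmeq : ∀ {a b : G}, a⁻¹ * b ∈ P ↔ ρ a = ρ b := fun {a b} =>
    ⟨fun h => QuotientGroup.eq.2 h, fun h => QuotientGroup.eq.1 h⟩
  have hV2 : ∀ u : V, u * u = 1 := fun u => Subtype.ext (by
    obtain ⟨a, ha, he⟩ := u.2
    show (u : G ⧸ P) * u = 1
    rw [← he, ← map_mul]; exact (QuotientGroup.eq_one_iff _).2 (sq_mem_phi hQ ha))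
  let Φ : G →* MulAut V := (MulAut.conjNormal (H := V)).comp ρ
  have hΦ : ∀ (h : G) (u : V), ((Φ h u : V) : G ⧸ P) = ρ h * u * (ρ h)⁻¹ := fun h u =>
    MulAut.conjNormal_apply _ _
  have hΦQ : ∀ h ∈ Q, Φ h = 1 := fun h hh => MulEquiv.ext fun u => Subtype.ext (by
    obtain ⟨a, ha, he⟩ := u.2
    rw [hΦ, ← he, MulAut.one_apply, ← he, ← mul_inv_eq_one, ← map_inv, ← map_inv, ← map_mul, ← map_mul, ← map_mul]
    exact (QuotientGroup.eq_one_iff _).2 (comm_mem_phi hQ hh ha))
  have hΦinj : ∀ h, Φ h = 1 → h ∈ Q := fun h hh => hfaith h fun b hb => by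
    have h1 := hΦ h ⟨ρ b, mem_map_of_mem ρ hb⟩
    rw [hh, MulAut.one_apply] at h1
    rw [← QuotientGroup.eq_one_iff]
    show ρ (h * b * h⁻¹ * b⁻¹) = 1
    rw [map_mul, map_mul, map_mul, map_inv, map_inv]
    exact mul_inv_eq_one.2 h1.symm
  have h16 : Nat.card V ≤ 2 ^ 4 := by
    have := h4 Q P (phi_le Q) (fun x _ r hr => (RankFourRadical.phi_normal Q).conj_mem r hr x)
      fun x hx => sq_mem_phi hQ hx
    exact Nat.le_of_mul_le_mul_right (hcV.trans_le this) Nat.card_pos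
  haveI : Fact (Nat.Prime 2) := ⟨Nat.prime_two⟩
  obtain ⟨r, hr⟩ := IsPGroup.iff_card.1 (hQ.map ρ)
  change Nat.card V = 2 ^ r at hr
  have hr34 : r = 3 ∨ r = 4 := by
    have h2 : r ≤ 4 := (Nat.pow_le_pow_iff_right (le_refl 2)).1 (hr ▸ h16)
    have h3 : 168 ≤ (Nat.card V).factorial := by
      rw [← h168, ← Nat.card_perm]
      refine Nat.card_le_card_of_injective (fun x : G ⧸ Q => MulAut.toPerm V (Φ x.out)) fun x x' e => ?_
      have e' : Φ x.out = Φ x'.out := MulEquiv.ext fun u => congrArg (fun p : Equiv.Perm V => p u) e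
      rw [← QuotientGroup.out_eq' x, ← QuotientGroup.out_eq' x']
      exact QuotientGroup.eq.2 (hΦinj _ (by rw [map_mul, map_inv, e', inv_mul_cancel]))
    rw [hr] at h3
    interval_cases r <;> simp_all [Nat.factorial]
  by_cases hP0 : P = ⊥
  · refine Or.inl ⟨fun a ha b hb => ?_, fun a ha => ?_, ?_⟩
    · have h := comm_mem_phi hQ ha hb
      rw [← hP, hP0, mem_bot] at h
      exact kom_eq_one.1 h
    · have h := sq_mem_phi hQ ha
      rw [← hP, hP0, mem_bot] at h
      rw [pow_two, h]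
    · rw [← hcV, show Nat.card P = 1 by rw [hP0]; exact card_bot, mul_one, hr]
      rcases hr34 with rfl | rfl <;> norm_num
  right
  have OQ : Over Q P := ⟨fun a ha => sq_mem_phi hQ ha, fun a ha b hb => comm_mem_phi hQ ha hb⟩
  rcases hr34 with rfl | rfl
  · obtain ⟨g, y, e, S, F⟩ := exists_frame h4 hQ h168 (phi_le Q) OQ
      (by rw [← hcV, hr]; norm_num; ring) (fun a ha b hb => comm_mem_phi hQ ha hb) hfaith
    exact (false_of_natural S hP0 F).elim
  obtain ⟨s, hs7, hsQ⟩ := exists_seven hQ h168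
  have hVc : Nat.card V = 16 := hr.trans (by norm_num)
  have hsplit : ∀ t : G, t ^ 7 = 1 → t ∉ Q → ∃ v0 W, Split16 (Φ t) v0 W := fun t ht htQ =>
    exists_split hV2 hVc (Φ t) (by rw [← map_pow, ht, map_one]) fun h => htQ (hΦinj t h)
  obtain ⟨v0, W, SW⟩ := hsplit s hs7 hsQ
  obtain ⟨c0, hc0, hc0v⟩ := mem_map.1 v0.2
  -- preimages
  let pre : Subgroup V → Subgroup G := fun U => (U.map V.subtype).comap ρ
  have hpre : ∀ (U : Subgroup V) {a : G}, a ∈ pre U ↔ ∃ ha : a ∈ Q, (⟨ρ a, mem_map_of_mem ρ ha⟩ : V) ∈ U := by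
    intro U a
    refine ⟨fun ⟨u, hu, he⟩ => ?_, fun ⟨ha, h⟩ => ⟨_, h, rfl⟩⟩
    have ha : a ∈ Q := (mem_map_mk (phi_le Q)).1 (show ρ a ∈ Q.map ρ from he ▸ u.2)
    exact ⟨ha, (show (⟨ρ a, mem_map_of_mem ρ ha⟩ : V) = u from Subtype.ext he.symm) ▸ hu⟩
  have hpreQ : ∀ U, pre U ≤ Q := fun U a ha => ((hpre U).1 ha).1
  have hpreP : ∀ U, P ≤ pre U := fun U a ha => by
    show ρ a ∈ U.map V.subtype
    rw [show ρ a = 1 from (QuotientGroup.eq_one_iff a).2 ha]
    exact one_mem _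
  have hprecard : ∀ U : Subgroup V, Nat.card (pre U) = Nat.card U * Nat.card P := fun U => by
    rw [← RankFourRadical.card_map_mk (hpreP U), map_comap_eq_self_of_surjective (QuotientGroup.mk'_surjective P),
      card_map_of_injective V.subtype_injective]
  by_cases hfix : ∀ h, Φ h v0 = v0
  · -- a fixed line
    set Z := zpowers (ρ c0) with hZ
    have hcen : ∀ x : G ⧸ P, x * ρ c0 = ρ c0 * x := fun x => by
      obtain ⟨h, rfl⟩ := QuotientGroup.mk'_surjective P x
      have h1 := congrArg Subtype.val (hfix h)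
      rw [hΦ, ← hc0v] at h1
      exact mul_inv_eq_iff_eq_mul.1 h1
    haveI : Z.Normal := ⟨fun k hk x => by
      obtain ⟨i, rfl⟩ := mem_zpowers_iff.1 hk
      rw [(Commute.zpow_right (hcen x) i).eq, mul_inv_cancel_right]
      exact zpow_mem (mem_zpowers _) i⟩
    set P1 := Z.comap ρ with hP1
    have hc02 : ρ c0 * ρ c0 = 1 := by rw [hc0v]; exact congrArg Subtype.val (hV2 v0)
    have hc01 : ρ c0 ≠ 1 := fun h => SW.ne (Subtype.ext (hc0v.symm.trans h))
    have hc0ord : orderOf (ρ c0) = 2 := orderOf_eq_prime (by rw [pow_two]; exact hc02) hc01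
    have hZ2 : ∀ x ∈ Z, x = 1 ∨ x = ρ c0 := fun x hx => by
      obtain ⟨i, rfl⟩ := mem_zpowers_iff.1 hx
      rcases Int.even_or_odd i with ⟨j, rfl⟩ | ⟨j, rfl⟩
      · exact Or.inl (by rw [← two_mul, zpow_mul, zpow_two, hc02, one_zpow])
      · exact Or.inr (by rw [zpow_add, zpow_mul, zpow_two, hc02, one_zpow, one_mul, zpow_one])
    have hPP1 : P ≤ P1 := fun a ha => by
      show ρ a ∈ Z
      rw [show ρ a = 1 from (QuotientGroup.eq_one_iff a).2 ha]; exact one_mem _
    have hP1Q : P1 ≤ Q := fun a ha => by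
      refine (mem_map_mk (phi_le Q)).1 ?_
      show ρ a ∈ V
      rcases hZ2 _ ha with h | h <;> rw [h]
      exacts [one_mem _, mem_map_of_mem ρ hc0]
    have hmem1 : ∀ {a : G}, a ∈ P1 → ρ a = 1 ∨ ρ a = v0 := fun {a} ha => by
      rw [← hc0v]; exact hZ2 _ ha
    have hcard1 : Nat.card Q = 8 * Nat.card P1 := by
      have h1 := RankFourRadical.card_map_mk hPP1
      rw [map_comap_eq_self_of_surjective (QuotientGroup.mk'_surjective P), Nat.card_zpowers, hc0ord] at h1
      rw [← hcV, hVc, ← h1]; ring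
    have hfaith1 : ∀ h, (∀ b ∈ Q, h * b * h⁻¹ * b⁻¹ ∈ P1) → h ∈ Q := by
      intro h hh
      refine kernel_le (layerKer_normal Q P1)
        (fun q hq => mem_layerKer.2 fun b hb => hPP1 (comm_mem_phi hQ hq hb)) (s := s) (fun hsK => ?_)
        (mem_layerKer.2 hh)
      have hall : ∀ u ∈ W, u = (1 : V) := fun u hu => by
        obtain ⟨b, hb, he⟩ := u.2
        have hz := hmem1 (mem_layerKer.1 hsK b hb)
        have hval : ((Φ s u * u : V) : G ⧸ P) = ρ (s * b * s⁻¹ * b⁻¹) := by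
          rw [Subgroup.coe_mul, hΦ, map_mul, map_mul, map_mul, map_inv, map_inv, he,
            inv_eq_of_mul_eq_one_right (show (u : G ⧸ P) * u = 1 from congrArg Subtype.val (hV2 u))]
        have hW' : Φ s u * u ∈ W := mul_mem ((SW.stable u).2 hu) hu
        rcases hz with h0 | h0
        · have h2 : Φ s u = u := by
            have : Φ s u * u = 1 := Subtype.ext (hval.trans h0)
            rwa [mul_eq_one_iff_eq_inv, inv_eq_of_mul_eq_one_right (hV2 u)] at this
          exact (SW.only u h2).resolve_right fun h => SW.notMem (h ▸ hu)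
        · exact absurd ((show Φ s u * u = v0 from Subtype.ext (hval.trans h0)) ▸ hW') SW.notMem
      have : W = ⊥ := (Subgroup.eq_bot_iff_forall W).2 hall
      have h8 := SW.card
      rw [this, card_bot] at h8
      omega
    obtain ⟨g, y, e, S, F⟩ := exists_frame (T := P1) h4 hQ h168 hP1Q
      ⟨fun a ha => hPP1 (sq_mem_phi hQ ha), fun a ha b hb => hPP1 (comm_mem_phi hQ ha hb)⟩ hcard1
      (fun a ha b hb => hPP1 (comm_mem_phi hQ ha hb)) hfaith1
    have hyQ : y ∉ Q := fun h => by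
      have h1 : (e (1, 0, 0))⁻¹ * (y * e (1, 0, 0) * y⁻¹) ∈ P1 := by
        have h2 := hPP1 (comm_mem_phi hQ (inv_mem (F.mem (1, 0, 0))) h)
        convert h2 using 1
        group
      have h3 : (e (0, 1, 0))⁻¹ * e (1, 0, 0) ∈ P1 := by
        have := mul_mem (F.yact (1, 0, 0)) (inv_mem h1)
        convert this using 1
        rw [show yV ((1, 0, 0) : V3) = (0, 1, 0) from rfl]; group
      have h4' : e (0, 1, 0) * e (0, 1, 0) ∈ P1 := hPP1 (sq_mem_phi hQ (F.mem _))
      have h5 : e ((0, 1, 0) + (1, 0, 0)) ∈ P1 := by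
        have := mul_mem (mul_mem h4' h3) (F.add (0, 1, 0) (1, 0, 0))
        convert this using 1
        group
      exact absurd (F.indep _ h5) pair_ne
    obtain ⟨v1, W', SW'⟩ := hsplit y S.y7 hyQ
    obtain rfl : v0 = v1 := (SW'.only v0 (hfix y)).resolve_left SW.ne
    -- lifts in the complement
    set E := pre W' with hE
    have hnotE : c0 ∉ E := fun h => SW'.notMem (by
      obtain ⟨_, h'⟩ := (hpre W').1 h
      exact (show (⟨ρ c0, _⟩ : V) = v0 from Subtype.ext hc0v) ▸ h')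
    have hcovE : ∀ a ∈ Q, a ∈ E ∨ c0 * a ∈ E := fun a ha => by
      rcases SW'.cover ⟨ρ a, mem_map_of_mem ρ ha⟩ with h | h
      · exact Or.inl ((hpre W').2 ⟨ha, h⟩)
      · refine Or.inr ((hpre W').2 ⟨mul_mem hc0 ha, ?_⟩)
        convert h using 1
        exact Subtype.ext (by
          show ρ (c0 * a) = (v0 : G ⧸ P) * ρ a
          rw [map_mul, hc0v])
    set e' : V3 → G := fun v => if e v ∈ E then e v else c0 * e v with he'
    have hmemE : ∀ v, e' v ∈ E := fun v => by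
      by_cases h : e v ∈ E
      · simp [he', h]
      · simpa [he', h] using (hcovE _ (F.mem v)).resolve_left h
    have hce : ∀ v, (e v)⁻¹ * e' v ∈ P1 := fun v => by
      by_cases h : e v ∈ E
      · simp [he', h]
      · simp only [he', h, if_false]
        show ρ ((e v)⁻¹ * (c0 * e v)) ∈ Z
        rw [map_mul, map_inv, map_mul, ← hcen, inv_mul_cancel_left]
        exact mem_zpowers _
    have hexact : ∀ {a b : G}, a ∈ E → b ∈ E → a⁻¹ * b ∈ P1 → a⁻¹ * b ∈ P := fun {a b} ha hb h => by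
      rcases hmem1 h with h' | h'
      · exact (QuotientGroup.eq_one_iff _).1 h'
      · refine absurd ?_ hnotE
        show ρ c0 ∈ W'.map V.subtype
        rw [hc0v, ← h']
        exact mul_mem (inv_mem ha) hb
    haveI : P1.Normal := Normal.comap inferInstance ρ
    have hmod : ∀ {a b : G}, a⁻¹ * b ∈ P1 ↔ (a : G ⧸ P1) = b := fun {a b} => QuotientGroup.eq.symm
    have he'mk : ∀ v, (e' v : G ⧸ P1) = e v := fun v => (hmod.1 (hce v)).symm
    have hyE : ∀ {a : G}, a ∈ E → y * a * y⁻¹ ∈ E := fun {a} ha => by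
      obtain ⟨haQ, h⟩ := (hpre W').1 ha
      refine (hpre W').2 ⟨(inferInstance : Q.Normal).conj_mem a haQ y, ?_⟩
      convert (SW'.stable _).2 h using 1
      exact Subtype.ext (by
        rw [hΦ]; show ρ (y * a * y⁻¹) = ρ y * ρ a * (ρ y)⁻¹
        rw [map_mul, map_mul, map_inv])
    have L : Lifts Q P y e' := by
      refine ⟨fun v => hpreQ _ (hmemE v), ?_, fun u v => hexact (mul_mem (hmemE u) (hmemE v)) (hmemE _) ?_,
        fun v hv => F.indep v ?_, fun v => hexact (hmemE _) (hyE (hmemE v)) ?_⟩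
      · simp [he', F.zero, one_mem]
      · rw [hmod, QuotientGroup.mk_mul, he'mk, he'mk, he'mk, ← QuotientGroup.mk_mul, ← hmod]
        exact F.add u v
      · rw [← QuotientGroup.eq_one_iff, ← he'mk, QuotientGroup.eq_one_iff]
        exact hPP1 hv
      · rw [hmod, QuotientGroup.mk_mul, QuotientGroup.mk_mul, he'mk, he'mk, ← QuotientGroup.mk_mul,
          ← QuotientGroup.mk_mul, ← hmod]
        exact F.yact v
    have hrad : ∀ v, ∃ i : ZMod 2, ρ (g * e' v * g⁻¹) = ρ (e' (gV v)) * ρ c0 ^ i.val := fun v => by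
      have h1 : (e' (gV v))⁻¹ * (g * e' v * g⁻¹) ∈ P1 := by
        rw [hmod, QuotientGroup.mk_mul, QuotientGroup.mk_mul, he'mk, he'mk, ← QuotientGroup.mk_mul,
          ← QuotientGroup.mk_mul, ← hmod]
        exact F.gact v
      rcases hZ2 _ h1 with h | h
      · refine ⟨0, ?_⟩
        rw [map_mul, map_inv] at h
        rw [ZMod.val_zero, pow_zero, mul_one, inv_mul_eq_one.1 h]
      · refine ⟨1, ?_⟩
        rw [ZMod.val_one, pow_one, ← h, ← map_mul]
        congr 1
        group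
    choose φ hφ using hrad
    have hρadd : ∀ u v, ρ (e' (u + v)) = ρ (e' u) * ρ (e' v) := fun u v => by
      rw [← map_mul]; exact (hmeq.1 (L.add u v)).symm
    have hρg : ∀ (a b : G), ρ (g * (a * b) * g⁻¹) = ρ (g * a * g⁻¹) * ρ (g * b * g⁻¹) := fun a b => by
      rw [← map_mul]; congr 1; group
    have hc0p : ρ c0 ^ 2 = 1 := by rw [pow_two]; exact hc02
    have hinj01 : ∀ i j : ZMod 2, ρ c0 ^ i.val = ρ c0 ^ j.val → i = j := fun i j h => by
      have : ∀ k : ZMod 2, k = 0 ∨ k = 1 := zmod_two_cases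
      rcases this i with rfl | rfl <;> rcases this j with rfl | rfl <;>
        simp [ZMod.val_one] at h <;> first | rfl | exact absurd h hc01 | exact absurd h.symm hc01
    have hφadd : ∀ u v, φ (u + v) = φ u + φ v := fun u v => by
      refine hinj01 _ _ (mul_left_cancel (a := ρ (e' (gV (u + v)))) ?_)
      rw [← hφ, map_mul, map_mul, map_inv, hρadd, ← map_mul, ← map_inv, ← map_mul, ← map_mul, hρg, hφ, hφ,
        pow_val_add' hc0p, gV_add, hρadd]
      have hcom : Commute (ρ c0 ^ (φ u).val) (ρ (e' (gV v))) := (Commute.pow_left (hcen _).symm _)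
      calc ρ (e' (gV u)) * ρ c0 ^ (φ u).val * (ρ (e' (gV v)) * ρ c0 ^ (φ v).val)
          = ρ (e' (gV u)) * (ρ c0 ^ (φ u).val * ρ (e' (gV v))) * ρ c0 ^ (φ v).val := by group
        _ = _ := by rw [hcom.eq]; group
    set p : V3 := (φ (1, 0, 0), φ (0, 1, 0), φ (0, 0, 1))
    have hφp : ∀ v, φ v = p.1 * v.1 + p.2.1 * v.2.1 + p.2.2 * v.2.2 := fun v => by
      let φh : V3 →+ ZMod 2 := AddMonoidHom.mk' φ hφadd
      conv_lhs => rw [v3_decomp v, hφadd, hφadd]
      show φh _ + φh _ + φh _ = _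
      rw [map_nsmul, map_nsmul, map_nsmul, nsmul_eq_mul, nsmul_eq_mul, nsmul_eq_mul, ZMod.natCast_val,
        ZMod.natCast_val, ZMod.natCast_val, ZMod.cast_id, ZMod.cast_id, ZMod.cast_id]
      show v.1 * p.1 + v.2.1 * p.2.1 + v.2.2 * p.2.2 = _
      ring
    -- the relator
    let Fs : St 2 → G ⧸ P := fun st => ρ (e' st.2) * ρ c0 ^ st.1.val
    have hFg : ∀ st, ρ g * Fs st * (ρ g)⁻¹ = Fs (gS id p 0 0 st) := fun st => by
      show _ = ρ (e' (gV st.2 + st.1.val • (0 : V3))) *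
        ρ c0 ^ (st.1 + id (0 * (st.1.val : ZMod 2) + (p.1 * st.2.1 + p.2.1 * st.2.2.1 + p.2.2 * st.2.2.2))).val
      rw [smul_zero, add_zero, zero_mul, zero_add, id_eq, ← hφp, pow_val_add' hc0p]
      calc ρ g * (ρ (e' st.2) * ρ c0 ^ st.1.val) * (ρ g)⁻¹
          = ρ g * ρ (e' st.2) * (ρ c0 ^ st.1.val * (ρ g)⁻¹) := by group
        _ = ρ (g * e' st.2 * g⁻¹) * ρ c0 ^ st.1.val := by
            rw [← (Commute.pow_right (hcen (ρ g)⁻¹) _).eq, map_mul, map_mul, map_inv]; group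
        _ = _ := by rw [hφ, mul_assoc, ← pow_add, add_comm, pow_add]
    have hFy : ∀ st, ρ y * Fs st * (ρ y)⁻¹ = Fs (yS st) := fun st => by
      show _ = ρ (e' (yV st.2)) * ρ c0 ^ st.1.val
      rw [hmeq.1 (L.yact st.2), map_mul, map_mul, map_inv]
      calc ρ y * (ρ (e' st.2) * ρ c0 ^ st.1.val) * (ρ y)⁻¹
          = ρ y * ρ (e' st.2) * (ρ c0 ^ st.1.val * (ρ y)⁻¹) := by group
        _ = _ := by rw [← (Commute.pow_right (hcen (ρ y)⁻¹) _).eq]; group
    have hFinj : ∀ st st', Fs st = Fs st' → st = st' := fun st st' h => by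
      have h1 : (e st.2 : G ⧸ P1) = e st'.2 := by
        rw [← he'mk, ← he'mk, ← hmod]
        show ρ ((e' st.2)⁻¹ * e' st'.2) ∈ Z
        have : ρ ((e' st.2)⁻¹ * e' st'.2) = ρ c0 ^ st.1.val * (ρ c0 ^ st'.1.val)⁻¹ := by
          rw [map_mul, map_inv]
          calc (ρ (e' st.2))⁻¹ * ρ (e' st'.2)
              = (ρ (e' st.2))⁻¹ * (Fs st') * (ρ c0 ^ st'.1.val)⁻¹ := by simp only [Fs]; group
            _ = _ := by rw [← h]; simp only [Fs]; group
        rw [this]
        exact mul_mem (pow_mem (mem_zpowers _) _) (inv_mem (pow_mem (mem_zpowers _) _))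
      have h2 : st.2 = st'.2 := v3_eq_of_add _ _ (F.indep _ (by
        rw [← QuotientGroup.eq_one_iff, ← hmod.1 (F.add _ _), QuotientGroup.mk_mul, h1, ← QuotientGroup.mk_mul,
          QuotientGroup.eq_one_iff]
        exact hPP1 (sq_mem_phi hQ (F.mem _))))
      refine Prod.ext (hinj01 _ _ (mul_left_cancel (a := ρ (e' st.2)) ?_)) h2
      show Fs st = _
      rw [h, h2]
    have htw : ∀ w : V3, relS (gS (n := 2) id p 0 0) (0, w) = (0, w) := by
      intro w
      refine hFinj _ _ ?_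
      have hz : Fs (0, w) = ρ (e' w) := by simp [Fs]
      simp only [relS, ← hFg, ← hFy]
      rw [hz]
      calc _ = ρ (rW g y * e' w * (rW g y)⁻¹) := by simp only [rW, map_mul, map_inv]; group
        _ = ρ (e' w) := (hmeq.1 (by
            have := comm_mem_phi hQ S.rel (hpreQ _ (hmemE w))
            have h2 := (RankFourRadical.phi_normal Q).conj_mem _ this (e' w)⁻¹
            convert h2 using 1
            group)).symm
    have hcy : c0⁻¹ * (y * c0 * y⁻¹) ∈ P := hmeq.2 (by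
      rw [map_mul, map_mul, map_inv, hcen, mul_inv_cancel_right])
    rcases twist_cases p ⟨htw _, htw _, htw _⟩ with hp | hp
    · -- the hyperplane is invariant
      have hEn : E.Normal := by
        refine S.normal (fun a ha k hk => ?_) (fun k hk => ?_) fun k hk => hyE hk
        · have h1 : a * k * a⁻¹ = a * k * a⁻¹ * k⁻¹ * k := by group
          rw [h1]
          exact mul_mem (hpreP _ (comm_mem_phi hQ ha (hpreQ _ hk))) hk
        · obtain ⟨v, hv⟩ := F.cover k (hpreQ _ hk)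
          have hk' : (e' v)⁻¹ * k ∈ P := hexact (hmemE v) hk (by
            rw [hmod, he'mk, ← hmod]; exact hv)
          have h2 : ρ (g * k * g⁻¹) = ρ (e' (gV v)) := by
            rw [map_mul, map_mul, ← hmeq.1 hk', ← map_mul, ← map_mul, hφ, hφp, hp]
            simp
          have h3 : (e' (gV v))⁻¹ * (g * k * g⁻¹) ∈ P := hmeq.2 h2.symm
          have := mul_mem (hmemE (gV v)) (hpreP W' h3)
          rwa [mul_inv_cancel_left] at this
      have FE : Frame3 E P g y e' :=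
        { mem := hmemE, zero := L.zero, add := L.add, indep := L.indep, yact := L.yact,
          cover := fun a ha => by
            obtain ⟨v, hv⟩ := F.cover a (hpreQ _ ha)
            exact ⟨v, hexact (hmemE v) ha (by rw [hmod, he'mk, ← hmod]; exact hv)⟩,
          gact := fun v => hmeq.2 (by rw [hφ, hφp, hp]; simp) }
      refine shape_of_hyperplane S hP0 (hpreQ _) (hpreP _) FE hc0 hnotE (fun a ha => ?_) hcy
      refine (hcovE a ha).imp_right fun h => ?_
      have : c0⁻¹ * a = (c0 * c0)⁻¹ * (c0 * a) := by group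
      rw [this]
      exact mul_mem (inv_mem (hpreP _ (sq_mem_phi hQ hc0))) h
    · exfalso
      refine false_of_line S hP0 (c := c0) (e := e')
        { toLifts := L, cmem := hc0, cy := hcy, cg := ?_, cind := ?_, cover := ?_, gact := ?_ }
      · exact hmeq.2 (by rw [map_mul, map_mul, map_inv, hcen, mul_inv_cancel_right])
      · intro v hv
        refine hnotE ?_
        have : c0 = (e' v)⁻¹ * (e' v * c0) := by group
        rw [this]
        exact mul_mem (inv_mem (hmemE v)) (hpreP W' hv)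
      · intro a ha
        obtain ⟨v, hv⟩ := F.cover a ha
        have h1 : (e' v)⁻¹ * a ∈ P1 := by rw [hmod, he'mk, ← hmod]; exact hv
        refine ⟨v, ?_⟩
        rcases hZ2 _ h1 with h | h
        · exact Or.inl ((QuotientGroup.eq_one_iff _).1 h)
        · refine Or.inr (hmeq.2 ?_)
          rw [map_mul, ← h, map_mul, map_inv, mul_inv_cancel_left]
      · intro v
        refine hmeq.2 ?_
        rw [hφ, hφp, hp, map_mul, map_pow]
        simp
  -- an invariant hyperplane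
  push Not at hfix
  haveI hEn : (pre W).Normal := ⟨fun a ha h => by
    obtain ⟨haQ, hW⟩ := (hpre W).1 ha
    refine (hpre W).2 ⟨(inferInstance : Q.Normal).conj_mem a haQ h, ?_⟩
    convert hyperplane_invariant hVc Φ (by rw [← map_pow, hs7, map_one]) SW hfix hΦQ
      (by rw [index_eq_card, h168]) h hW using 1
    exact Subtype.ext (by
      rw [hΦ]; show ρ (h * a * h⁻¹) = ρ h * ρ a * (ρ h)⁻¹
      rw [map_mul, map_mul, map_inv])⟩
  set E := pre W with hE
  have hfaithE : ∀ h, (∀ b ∈ E, h * b * h⁻¹ * b⁻¹ ∈ P) → h ∈ Q := by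
    intro h hh
    refine kernel_le (layerKer_normal E P)
      (fun q hq => mem_layerKer.2 fun b hb => comm_mem_phi hQ hq (hpreQ _ hb)) (s := s) (fun hsK => ?_)
      (mem_layerKer.2 hh)
    have hall : ∀ u ∈ W, u = (1 : V) := fun u hu => by
      obtain ⟨b, hb, he⟩ := u.2
      have hbE : b ∈ E := (hpre W).2 ⟨hb, (show (⟨ρ b, _⟩ : V) = u from Subtype.ext he) ▸ hu⟩
      have h0 : ρ (s * b * s⁻¹ * b⁻¹) = 1 := (QuotientGroup.eq_one_iff _).2 (mem_layerKer.1 hsK b hbE)
      have h2 : Φ s u = u := Subtype.ext (by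
        rw [hΦ, ← he, ← mul_inv_eq_one, ← map_inv, ← map_inv, ← map_mul, ← map_mul, ← map_mul]; exact h0)
      exact (SW.only u h2).resolve_right fun h => SW.notMem (h ▸ hu)
    have : W = ⊥ := (Subgroup.eq_bot_iff_forall W).2 hall
    have h8 := SW.card
    rw [this, card_bot] at h8
    omega
  obtain ⟨g, y, e, S, F⟩ := exists_frame (Q₁ := E) (T := P) h4 hQ h168 (hpreP W)
    ⟨fun a ha => sq_mem_phi hQ (hpreQ _ ha), fun a ha b hb => comm_mem_phi hQ (hpreQ _ ha) (hpreQ _ hb)⟩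
    (by rw [hprecard, SW.card]) (fun a ha b hb => comm_mem_phi hQ ha (hpreQ _ hb)) hfaithE
  have hfixv : ∀ v, ρ (y * e v * y⁻¹) = ρ (e v) → v = 0 := fun v h => by
    refine yV_fix v (F.indep _ ?_)
    rw [← QuotientGroup.eq_one_iff]
    show ρ (e (yV v + v)) = 1
    rw [← hmeq.1 (F.add _ _), map_mul, hmeq.1 (F.yact v), h, ← map_mul]
    exact (QuotientGroup.eq_one_iff _).2 (sq_mem_phi hQ (hpreQ _ (F.mem v)))
  have hyQ : y ∉ Q := fun h => by
    refine absurd (hfixv (1, 0, 0) ?_) first_ne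
    have hc := congrArg Subtype.val (MulEquiv.congr_fun (hΦQ y h) ⟨ρ (e (1, 0, 0)), mem_map_of_mem ρ (hpreQ _ (F.mem _))⟩)
    rw [hΦ, MulAut.one_apply] at hc
    rw [map_mul, map_mul, map_inv]; exact hc
  obtain ⟨v1, W', SW'⟩ := hsplit y S.y7 hyQ
  obtain ⟨c, hc, hcv⟩ := mem_map.1 v1.2
  have hcy : ρ (y * c * y⁻¹) = ρ c := by
    rw [map_mul, map_mul, map_inv, hcv, ← hΦ y v1, SW'.fix]
  have hcE : c ∉ E := fun h => by
    obtain ⟨v, hv⟩ := F.cover c h
    have hev : ρ (e v) = ρ c := hmeq.1 hv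
    have h0 : v = 0 := hfixv v (by
      rw [map_mul, map_mul, hev, ← map_mul, ← map_mul]; exact hcy)
    rw [h0, F.zero, map_one] at hev
    exact SW'.ne (Subtype.ext (hcv.symm.trans hev.symm))
  have hcov0 : ∀ a ∈ Q, a ∈ E ∨ c0 * a ∈ E := fun a ha => by
    rcases SW.cover ⟨ρ a, mem_map_of_mem ρ ha⟩ with h | h
    · exact Or.inl ((hpre W).2 ⟨ha, h⟩)
    · refine Or.inr ((hpre W).2 ⟨mul_mem hc0 ha, ?_⟩)
      convert h using 1
      exact Subtype.ext (by
        show ρ (c0 * a) = (v0 : G ⧸ P) * ρ a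
        rw [map_mul, hc0v])
  refine shape_of_hyperplane S hP0 (hpreQ _) (hpreP _) F hc hcE (fun a ha => ?_) (hmeq.2 hcy.symm)
  refine (hcov0 a ha).imp_right fun h => ?_
  have h1 := (hcov0 c hc).resolve_left hcE
  have : c⁻¹ * a = (c0 * c)⁻¹ * (c0 * a) := by group
  rw [this]
  exact mul_mem (inv_mem h1) h

end

end Cfsg.Agent.L32Radical
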